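import Cfsg.Agent.Lib.GW.Klein.Dichotomy
import Cfsg.Agent.Lib.GW.FusedComponent

/-!
# Gorenstein–Walter, Sylow four groups: the torus principle

With `g` centralizing `W`: if inverted elements of `U` centralize a nontrivial `D ≤ O_q(C) ∩ W` then a
maximal subgroup above `N(D)` has a component, and these elements lie in one torus.
-/

set_option autoImplicit false
set_option linter.style.haveILetI false
set_option linter.unusedSectionVars false

namespace Cfsg.Lib.GW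

open Cfsg Subgroup
open Cfsg.Agent.S1312 (Op op_le op_isPGroup le_normalizer_op op_commute le_op normalizer_eq_max)
open Cfsg.Lib.Sig.BenderPair (op_le_fitting op_le_left)

universe u

/-- In a finite cyclic group elements of the same order generate the same subgroup. -/
theorem zpowers_eq_of_cyclic {J : Type*} [Group J] [Finite J] [IsCyclic J] {x y : J}
    (h : orderOf x = orderOf y) : zpowers x = zpowers y := by
  classical
  letI := Fintype.ofFinite J
  refine eq_of_le_of_card_ge (zpowers_le.2 ?_) (by rw [Nat.card_zpowers, Nat.card_zpowers, h])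
  have hsub : (Finset.univ.filter fun z : J => z ∈ zpowers y) ⊆ Finset.univ.filter fun z => z ^ orderOf y = 1 :=
    fun z hz => by
      obtain ⟨k, rfl⟩ := mem_zpowers_iff.1 (Finset.mem_filter.1 hz).2
      exact Finset.mem_filter.2 ⟨Finset.mem_univ _, by
        rw [← zpow_natCast, zpow_comm, zpow_natCast, pow_orderOf_eq_one, one_zpow]⟩
  have heq := Finset.eq_of_subset_of_card_le hsub (by
    refine (IsCyclic.card_pow_eq_one_le (orderOf_pos y)).trans (le_of_eq ?_)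
    rw [← Nat.card_zpowers, Nat.card_eq_fintype_card]
    exact Fintype.card_subtype _)
  exact (Finset.mem_filter.1 (heq.ge (Finset.mem_filter.2
    ⟨Finset.mem_univ _, by rw [← h, pow_orderOf_eq_one]⟩))).2

open Classical in
/-- In `PSL₂(q)` elements of order at least three centralizing an involution of a four group lie in one
cyclic subgroup. -/
theorem psl_torus {F : Type*} [Field F] [Fintype F] (hodd : Fintype.card F % 2 = 1)
    {x t a b : Matrix.ProjectiveSpecialLinearGroup (Fin 2) F} (hx : orderOf x = 2) (ht : orderOf t = 2)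
    (hne : t ≠ x) (hc : Commute t x) (hax : Commute a x) (hbx : Commute b x) (ha : a * a ≠ 1)
    (hb : b * b ≠ 1) : IsCyclic ↥(closure ({a, b} : Set (Matrix.ProjectiveSpecialLinearGroup (Fin 2) F))) := by
  obtain ⟨p, hp⟩ := CharP.exists F
  haveI : Fact p.Prime := ⟨CharP.char_is_prime F p⟩
  have hx1 : x ≠ 1 := Cfsg.Lib.Invol.ne_one hx
  have hpx : ¬ p ∣ orderOf x := fun h => by
    rw [hx, Nat.prime_dvd_prime_iff_eq Fact.out Nat.prime_two] at h
    subst h
    exact absurd (FiniteField.even_card_of_char_two (F := F) (ringChar.eq F 2)) (by omega)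
  set C := centralizer ({x} : Set (Matrix.ProjectiveSpecialLinearGroup (Fin 2) F)) with hC
  have hxC : x ∈ C := mem_centralizer_singleton_iff.2 rfl
  have haC : a ∈ C := mem_centralizer_singleton_iff.2 hax.eq
  have hbC : b ∈ C := mem_centralizer_singleton_iff.2 hbx.eq
  have hle : closure ({a, b} : Set (Matrix.ProjectiveSpecialLinearGroup (Fin 2) F)) ≤ C :=
    (closure_le _).2 (Set.insert_subset haC (Set.singleton_subset_iff.2 hbC))
  rcases Cfsg.Lib.Dickson.psl_subgroup_cases p C with ⟨k, -, ⟨hcy, -⟩ | ⟨⟨e⟩⟩⟩ | ⟨hpC, -⟩ | ⟨hnn, -⟩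
  · haveI := hcy
    exact isCyclic_of_injective (Subgroup.inclusion hle) (Subgroup.inclusion_injective hle)
  · let R : Subgroup C := (zpowers (DihedralGroup.r 1 : DihedralGroup k)).comap e.toMonoidHom
    have hrot : ∀ (c : C), c * c ≠ 1 → c ∈ R := by
      intro c hc2
      show e c ∈ zpowers (DihedralGroup.r 1 : DihedralGroup k)
      rcases hec : e c with i | i
      · obtain ⟨j, rfl⟩ := ZMod.intCast_surjective i
        exact ⟨j, by simp⟩
      · exfalso
        refine hc2 (e.injective ?_)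
        rw [map_mul, hec, DihedralGroup.sr_mul_self, map_one]
    let f : R →* ↥(zpowers (DihedralGroup.r 1 : DihedralGroup k)) :=
      (e.toMonoidHom.comp R.subtype).codRestrict _ fun c => c.2
    haveI : IsCyclic ↥R := isCyclic_of_injective f fun c d h =>
      Subtype.ext (e.injective (congrArg Subtype.val h))
    have hR : (closure ({a, b} : Set (Matrix.ProjectiveSpecialLinearGroup (Fin 2) F))).subgroupOf C ≤ R := by
      intro c hc
      have h2 : closure ({a, b} : Set (Matrix.ProjectiveSpecialLinearGroup (Fin 2) F)) ≤ R.map C.subtype :=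
        (closure_le _).2 (Set.insert_subset ⟨⟨a, haC⟩, hrot _ fun h => ha (congrArg Subtype.val h), rfl⟩
          (Set.singleton_subset_iff.2 ⟨⟨b, hbC⟩, hrot _ fun h => hb (congrArg Subtype.val h), rfl⟩))
      obtain ⟨d, hd, hde⟩ := h2 (mem_subgroupOf.1 hc)
      rwa [← Subtype.ext hde]
    haveI : IsCyclic ↥((closure ({a, b} : Set (Matrix.ProjectiveSpecialLinearGroup (Fin 2) F))).subgroupOf C) :=
      isCyclic_of_injective (Subgroup.inclusion hR) (Subgroup.inclusion_injective hR)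
    exact isCyclic_of_injective (subgroupOfEquivOfLe hle).symm.toMonoidHom (MulEquiv.injective _)
  · exact absurd hpC (Cfsg.Lib.Dickson.not_dvd_card_centralizer p hx1 hpx)
  · exfalso
    have hn : ((zpowers x).subgroupOf C).Normal := ⟨fun a ha b => by
      have hba : (b : Matrix.ProjectiveSpecialLinearGroup (Fin 2) F) * a = a * b := by
        obtain ⟨i, hi⟩ := mem_zpowers_iff.1 (mem_subgroupOf.1 ha)
        rw [← hi]
        exact (Commute.zpow_right (mem_centralizer_singleton_iff.1 b.2) i).eq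
      rw [show b * a * b⁻¹ = a from Subtype.ext (by simp [hba])]
      exact ha⟩
    haveI : IsCyclic ((zpowers x).subgroupOf C) :=
      isCyclic_of_injective (subgroupOfEquivOfLe (zpowers_le.2 hxC)).toMonoidHom
        (subgroupOfEquivOfLe (zpowers_le.2 hxC)).injective
    have hm : (⟨x, hxC⟩ : C) ∈ (zpowers x).subgroupOf C := mem_zpowers x
    rw [hnn _ hn inferInstance, mem_bot] at hm
    exact hx1 (congrArg Subtype.val hm)

namespace KMin

variable {G : Type u} [Group G] [Finite G] (hK : KMin G) (Φ : KFrame G)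
include hK

/-- Modulo the odd core a proper subgroup with a component has a normal `PSL₂(q)` containing `V`. -/
theorem quot_psl {N : Subgroup G} (hN : N ≠ ⊤) (htN : Φ.t ∈ N) (huN : Φ.u ∈ N) (hL : Cfsg.layer ↥N ≠ ⊥) :
    ∃ E : Subgroup (↥N ⧸ Cfsg.oddCore ↥N), E.Normal ∧
      (∀ w : ↥N, (w : G) ∈ Φ.V → QuotientGroup.mk' (Cfsg.oddCore ↥N) w ∈ E) ∧
      ∃ (F : Type) (_ : Field F) (_ : Fintype F), Odd (Fintype.card F) ∧
        Nonempty (E ≃* Matrix.ProjectiveSpecialLinearGroup (Fin 2) F) := by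
  haveI : Fact (Nat.Prime 2) := ⟨Nat.prime_two⟩
  haveI := Φ.klein
  set O := Cfsg.oddCore ↥N with hOdef
  obtain ⟨L, hLc⟩ : ∃ L : Subgroup ↥N, Cfsg.IsComponent L := by
    by_contra h
    push Not at h
    exact hL (Cfsg.Lib.Core.layer_eq_bot_iff.2 h)
  have hOs : Group.IsSolvable ↥O := Cfsg.Agent.S0205.result Cfsg.Lib.ZStar.odd_card_oddCore
  have hns : ¬ Group.IsSolvable ↥N := fun h =>
    haveI := h
    Cfsg.Lib.Core.component_not_le_solvable hLc (H := ⊤) inferInstance le_top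
  have hDN : TwoCycDih ↥N := hK.min.twoCycDih.subgroup N
  have hlt : Nat.card (↥N ⧸ O) < Nat.card G :=
    lt_of_le_of_lt (Nat.card_le_card_of_surjective _ (QuotientGroup.mk_surjective (s := O)))
      (Cfsg.Lib.Core.lt_card_of_ne_top hN)
  have hsolv : Group.IsSolvable (↥N ⧸ O) → False := fun h => by
    haveI := h
    haveI := hOs
    exact hns (Group.isSolvable_of_ker_le_range O.subtype (QuotientGroup.mk' O) (by simp))
  have h8 : ¬ 8 ∣ Nat.card (↥N ⧸ O) := fun h => hK.not_eight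
    ((h.trans (card_quotient_dvd_card O)).trans (card_subgroup_dvd_card N))
  rcases shape (hDN.quotient O) (gwSections_of_below hK.min.below (hDN.quotient O) hlt)
    (Cfsg.Lib.Core.pPrimeCore_quotient_eq_bot (p := 2)) with
    h2 | ⟨W, -, -, -, hc⟩ | ⟨E, hEn, hEs, hna, hgw, hED, -, hmin, -⟩
  · haveI := h2.isNilpotent
    exact (hsolv inferInstance).elim
  · exact (hsolv (Cfsg.Lib.Recog.Icosa.solvable_of_lt_sixty _ _ rfl (by rcases hc with h | h <;> omega))).elim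
  haveI := hEn
  have h4 : 4 ∣ Nat.card ↥E := by
    obtain ⟨S⟩ : Nonempty (Sylow 2 ↥E) := inferInstance
    obtain ⟨n, hn, ⟨e⟩⟩ := hED S
    haveI : NeZero n := ⟨by omega⟩
    have hcard : Nat.card (S : Subgroup ↥E) = 2 * n :=
      (Nat.card_congr e.toEquiv).trans DihedralGroup.nat_card
    obtain ⟨k, hk⟩ := S.2.exists_card_eq
    have hk2 : 2 ≤ k := by
      by_contra h
      have := Nat.pow_le_pow_right two_pos (show k ≤ 1 by omega)
      omega
    exact ((pow_dvd_pow 2 hk2).trans hk.symm.dvd).trans (card_subgroup_dvd_card _)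
  have hidx : Odd E.index := by
    rw [← Nat.not_even_iff_odd, even_iff_two_dvd]
    intro h
    exact h8 ((mul_dvd_mul h4 h).trans E.card_mul_index.dvd)
  obtain ⟨F, iF, jF, hFodd, hF3, ⟨eE⟩⟩ : ∃ (F : Type) (_ : Field F) (_ : Fintype F),
      Odd (Fintype.card F) ∧ 3 < Fintype.card F ∧
        Nonempty (E ≃* Matrix.ProjectiveSpecialLinearGroup (Fin 2) F) := by
    rcases hgw with h | ⟨⟨e⟩⟩
    · exact h
    exfalso
    refine h8 (dvd_trans ?_ (card_subgroup_dvd_card E))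
    rw [Nat.card_congr e.toEquiv, Nat.card_eq_fintype_card]
    have h := two_mul_card_alternatingGroup (α := Fin 7)
    rw [Fintype.card_perm, Fintype.card_fin] at h
    have h7 : Nat.factorial 7 = 5040 := rfl
    omega
  refine ⟨E, hEn, fun w hw => ?_, F, iF, jF, hFodd, ⟨eE⟩⟩
  obtain ⟨j, hj⟩ := hidx
  have h2 : w ^ 2 = 1 := Subtype.ext (by
    rw [SubmonoidClass.coe_pow, pow_two, OneMemClass.coe_one]; exact Cfsg.Lib.Invol.klein_mul_self hw)
  have h := E.pow_index_mem (QuotientGroup.mk' O w)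
  rwa [hj, pow_succ, pow_mul, ← map_pow, h2, map_one, one_pow, one_mul] at h

/-- A proper subgroup with a component: inverted elements of `U` in it commute and those of equal order
generate the same subgroup. -/
theorem torus_pair {N : Subgroup G} (hN : N ≠ ⊤) (htN : Φ.t ∈ N) (huN : Φ.u ∈ N)
    (hL : Cfsg.layer ↥N ≠ ⊥) {a b : G} (haN : a ∈ N) (hbN : b ∈ N) (haU : a ∈ Φ.U) (hbU : b ∈ Φ.U)
    (hau : Φ.u * a * Φ.u = a⁻¹) (hbu : Φ.u * b * Φ.u = b⁻¹) :
    Commute a b ∧ (orderOf a = orderOf b → zpowers a = zpowers b) := by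
  rcases eq_or_ne a 1 with rfl | ha1
  · exact ⟨Commute.one_left _, fun h => by
      rw [orderOf_one] at h
      rw [orderOf_eq_one_iff.1 h.symm]⟩
  rcases eq_or_ne b 1 with rfl | hb1
  · exact ⟨Commute.one_right _, fun h => absurd (orderOf_eq_one_iff.1 (h.trans orderOf_one)) ha1⟩
  haveI : Fact (Nat.Prime 2) := ⟨Nat.prime_two⟩
  haveI := Φ.klein
  set O := Cfsg.oddCore ↥N with hOdef
  obtain ⟨-, -, -, -, hO⟩ := hK.quot_facts Φ N hN htN huN hL
  obtain ⟨E, hE, hVE, hgwE⟩ := hK.quot_psl Φ hN htN huN hL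
  set φ := QuotientGroup.mk' O with hφ
  set T : ↥N := ⟨Φ.t, htN⟩
  set S : ↥N := ⟨Φ.u, huN⟩
  have hSS : S * S = 1 := Subtype.ext Φ.uu
  -- inverted elements in `O` are trivial
  have hfix : ∀ y : ↥N, y ∈ O → (y : G) ∈ Φ.U → Φ.u * (y : G) * Φ.u = (y : G)⁻¹ → y = 1 := fun y hy hyU hyu =>
    Subtype.ext (eq_one_of_fixed_inverted Φ.uu (hO y hy _ Φ.u_mem) hyu (Φ.odd_of_mem hyU))
  -- inverted elements centralize `O`
  have hcO : ∀ y : ↥N, (y : G) ∈ Φ.U → Φ.u * (y : G) * Φ.u = (y : G)⁻¹ → ∀ o ∈ O, Commute y o := by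
    intro y hyU hyu o ho
    exact Subtype.ext (commute_of_inverted_fixed Φ.uu hyu (hO o ho _ Φ.u_mem)
      (hO (y * o * y⁻¹) ((inferInstance : O.Normal).conj_mem o ho y) _ Φ.u_mem) (Φ.odd_of_mem hyU)).eq
  have hmemE : ∀ y : ↥N, (y : G) ∈ Φ.U → Φ.u * (y : G) * Φ.u = (y : G)⁻¹ → φ y ∈ E := by
    intro y hyU hyu
    refine mem_of_sq_mem ?_ ?_
    · refine Odd.of_dvd_nat ?_ (orderOf_map_dvd φ y)
      rw [← orderOf_coe]
      exact Φ.odd_of_mem hyU
    · have h : y * y = (y * S * y⁻¹) * S := by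
        apply Subtype.ext
        show (y : G) * y = y * Φ.u * (y : G)⁻¹ * Φ.u
        rw [mul_assoc ((y : G) * Φ.u), mul_assoc (y : G) Φ.u, ← mul_assoc Φ.u, inv_inverted Φ.uu hyu]
      rw [← map_mul, h, map_mul, map_mul, map_mul, map_inv]
      exact mul_mem (hE.conj_mem _ (hVE S Φ.u_mem) _) (hVE S Φ.u_mem)
  have hord : ∀ y : ↥N, (y : G) ∈ Φ.U → Φ.u * (y : G) * Φ.u = (y : G)⁻¹ → orderOf (φ y) = orderOf y := by
    intro y hyU hyu
    refine Nat.dvd_antisymm (orderOf_map_dvd φ y) (orderOf_dvd_of_pow_eq_one ?_)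
    refine hfix _ ((QuotientGroup.eq_one_iff _).1 ?_) (by rw [SubmonoidClass.coe_pow]; exact pow_mem hyU _) ?_
    · show φ (y ^ orderOf (φ y)) = 1
      rw [map_pow, pow_orderOf_eq_one]
    · rw [SubmonoidClass.coe_pow]
      have h := pow_conj_inv (show Φ.u * (y : G) * Φ.u⁻¹ = (y : G)⁻¹ by
        rw [Cfsg.Lib.Invol.inv_eq_self Φ.hu, hyu]) (orderOf (φ y))
      rwa [Cfsg.Lib.Invol.inv_eq_self Φ.hu, inv_pow] at h
  set A : ↥N := ⟨a, haN⟩
  set B : ↥N := ⟨b, hbN⟩
  have hsqne : ∀ y : ↥N, (y : G) ∈ Φ.U → Φ.u * (y : G) * Φ.u = (y : G)⁻¹ → (y : G) ≠ 1 → φ y * φ y ≠ 1 := by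
    intro y hyU hyu hy1 h
    have h2 : orderOf (φ y) ∣ 2 := orderOf_dvd_of_pow_eq_one (by rw [pow_two, h])
    rw [hord y hyU hyu, ← orderOf_coe] at h2
    exact hy1 (orderOf_eq_one_iff.1 (Nat.eq_one_of_dvd_coprimes
      (Nat.coprime_two_left.2 (Φ.odd_of_mem hyU)) h2 (dvd_refl _)))
  haveI := hE
  haveI hcyc : IsCyclic ↥(closure ({φ A, φ B} : Set (↥N ⧸ O))) := by
    obtain ⟨F, iF, jF, hFodd, ⟨eE⟩⟩ := hgwE
    have hTS : T * S = S * T := Subtype.ext Φ.hc.eq
    have hoS : ∀ (y : ↥N), orderOf (y : G) = 2 → ∀ hy : φ y ∈ E, orderOf (eE ⟨φ y, hy⟩) = 2 := fun y hy hyE => by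
      rw [MulEquiv.orderOf_eq, Subgroup.orderOf_mk]
      rw [orderOf_coe] at hy
      refine Cfsg.Lib.Invol.orderOf_eq_two_of
        (fun h1 => Cfsg.Lib.ZStar.notMem_oddCore hy ((QuotientGroup.eq_one_iff y).1 h1)) ?_
      rw [← map_mul, Cfsg.Lib.Invol.inv_mul_self hy, map_one]
    have hTE := hVE T Φ.t_mem
    have hSE := hVE S Φ.u_mem
    have hcyc' := psl_torus (Nat.odd_iff.1 hFodd) (x := eE ⟨φ T, hTE⟩) (t := eE ⟨φ S, hSE⟩)
      (a := eE ⟨φ A, hmemE A haU hau⟩) (b := eE ⟨φ B, hmemE B hbU hbu⟩)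
      (hoS T Φ.ht hTE) (hoS S Φ.hu hSE) (fun h => by
        have h' : φ S = φ T := congrArg Subtype.val (eE.injective h)
        refine Cfsg.Lib.ZStar.notMem_oddCore (z := T * S) (by rw [← orderOf_coe]; exact Φ.hv)
          ((QuotientGroup.eq_one_iff _).1 ?_)
        show φ (T * S) = 1
        rw [map_mul, h', ← map_mul, show T * T = 1 from Subtype.ext Φ.tt, map_one])
      ((show Commute (⟨φ S, hSE⟩ : E) ⟨φ T, hTE⟩ from Subtype.ext
        ((show Commute S T from hTS.symm).map φ).eq).map eE.toMonoidHom)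
      ((show Commute (⟨φ A, hmemE A haU hau⟩ : E) ⟨φ T, hTE⟩ from Subtype.ext
        ((show Commute A T from Subtype.ext (Φ.commute_t haU).eq.symm).map φ).eq).map eE.toMonoidHom)
      ((show Commute (⟨φ B, hmemE B hbU hbu⟩ : E) ⟨φ T, hTE⟩ from Subtype.ext
        ((show Commute B T from Subtype.ext (Φ.commute_t hbU).eq.symm).map φ).eq).map eE.toMonoidHom)
      (fun h => hsqne A haU hau ha1 (by
        rw [← map_mul, MulEquiv.map_eq_one_iff] at h
        exact congrArg Subtype.val h))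
      (fun h => hsqne B hbU hbu hb1 (by
        rw [← map_mul, MulEquiv.map_eq_one_iff] at h
        exact congrArg Subtype.val h))
    let ι := (E.subtype.comp eE.symm.toMonoidHom)
    have hι : Function.Injective ι := E.subtype_injective.comp eE.symm.injective
    have e : (closure ({eE ⟨φ A, hmemE A haU hau⟩, eE ⟨φ B, hmemE B hbU hbu⟩} :
        Set (Matrix.ProjectiveSpecialLinearGroup (Fin 2) F))).map ι = closure ({φ A, φ B} : Set (↥N ⧸ O)) := by
      rw [MonoidHom.map_closure, Set.image_insert_eq, Set.image_singleton]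
      simp [ι]
    rw [← e]
    exact isCyclic_of_surjective _ (Subgroup.equivMapOfInjective _ ι hι).surjective
  set H := closure ({A, B} : Set ↥N) with hH
  have hmap : H.map φ = closure ({φ A, φ B} : Set (↥N ⧸ O)) := by
    rw [hH, MonoidHom.map_closure, Set.image_insert_eq, Set.image_singleton]
  have hHO : ∀ y ∈ H, ∀ o ∈ O, Commute y o := by
    intro y hy o ho
    have hle : H ≤ centralizer ({o} : Set ↥N) := (closure_le _).2 (Set.insert_subset
      (mem_centralizer_singleton_iff.2 (hcO A haU hau o ho).eq)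
      (Set.singleton_subset_iff.2 (mem_centralizer_singleton_iff.2 (hcO B hbU hbu o ho).eq)))
    exact mem_centralizer_singleton_iff.1 (hle hy)
  obtain ⟨⟨z, hz⟩, hgen⟩ := hcyc.exists_generator
  obtain ⟨h, hh, hhz⟩ := hmap.ge hz
  have hdec : ∀ y ∈ H, ∃ o ∈ O, o ∈ H ∧ ∃ i : ℤ, y = o * h ^ i := by
    intro y hy
    obtain ⟨i, hi⟩ := mem_zpowers_iff.1 (hgen ⟨φ y, hmap.le (mem_map_of_mem φ hy)⟩)
    have hi' : z ^ i = φ y := congrArg Subtype.val hi
    refine ⟨y * (h ^ i)⁻¹, (QuotientGroup.eq_one_iff _).1 ?_, mul_mem hy (inv_mem (zpow_mem hh i)), i,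
      by rw [inv_mul_cancel_right]⟩
    show φ (y * (h ^ i)⁻¹) = 1
    rw [map_mul, map_inv, map_zpow, hhz, hi', mul_inv_cancel]
  have hcomm : Commute A B := by
    obtain ⟨o, ho, hoH, i, hA⟩ := hdec A (subset_closure (Or.inl rfl))
    obtain ⟨o', ho', hoH', j, hB⟩ := hdec B (subset_closure (Or.inr rfl))
    rw [hA, hB]
    have h1 : Commute o o' := hHO o hoH o' ho'
    have h2 : Commute o (h ^ j) := (hHO h hh o ho).symm.zpow_right j
    have h3 : Commute (h ^ i) o' := (hHO h hh o' ho').zpow_left i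
    exact (h1.mul_right h2).mul_left (h3.mul_right (Commute.zpow_zpow (Commute.refl h) i j))
  refine ⟨congrArg Subtype.val hcomm.eq, fun hab => ?_⟩
  have hab' : orderOf (φ A) = orderOf (φ B) := by
    rw [hord A haU hau, hord B hbU hbu, ← orderOf_coe, ← orderOf_coe]
    exact hab
  have heq := zpowers_eq_of_cyclic (J := ↥(closure ({φ A, φ B} : Set (↥N ⧸ O))))
    (x := ⟨φ A, subset_closure (Or.inl rfl)⟩) (y := ⟨φ B, subset_closure (Or.inr rfl)⟩)
    (by rw [Subgroup.orderOf_mk, Subgroup.orderOf_mk, hab'])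
  obtain ⟨i, hi⟩ := mem_zpowers_iff.1 (heq.le (mem_zpowers _))
  have hi' : φ B ^ i = φ A := congrArg Subtype.val hi
  have hone : A * (B ^ i)⁻¹ = 1 := by
    refine hfix _ ((QuotientGroup.eq_one_iff _).1 ?_) ?_ ?_
    · show φ (A * (B ^ i)⁻¹) = 1
      rw [map_mul, map_inv, map_zpow, hi', mul_inv_cancel]
    · push_cast
      exact mul_mem haU (inv_mem (zpow_mem hbU i))
    · push_cast
      show Φ.u * (a * (b ^ i)⁻¹) * Φ.u = (a * (b ^ i)⁻¹)⁻¹
      have hb' : Φ.u * (b ^ i)⁻¹ * Φ.u = b ^ i := by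
        conv_lhs => arg 2; rw [← Cfsg.Lib.Invol.inv_eq_self Φ.hu]
        rw [← conj_inv, ← conj_zpow, Cfsg.Lib.Invol.inv_eq_self Φ.hu, hbu, inv_zpow, inv_inv]
      calc Φ.u * (a * (b ^ i)⁻¹) * Φ.u = (Φ.u * a * Φ.u) * (Φ.u * (b ^ i)⁻¹ * Φ.u) := by
            rw [show Φ.u * a * Φ.u * (Φ.u * (b ^ i)⁻¹ * Φ.u) = Φ.u * a * (Φ.u * Φ.u) * (b ^ i)⁻¹ * Φ.u by group,
              Φ.uu]
            group
        _ = a⁻¹ * b ^ i := by rw [hau, hb']
        _ = b ^ i * a⁻¹ := (((show Commute a b from congrArg Subtype.val hcomm.eq).zpow_right i).inv_left).eq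
        _ = _ := by group
  rw [mul_inv_eq_one] at hone
  refine eq_of_le_of_card_ge (zpowers_le.2 ?_) (by rw [Nat.card_zpowers, Nat.card_zpowers, hab])
  refine ⟨i, ?_⟩
  have h := congrArg Subtype.val hone
  rw [Subgroup.coe_zpow] at h
  exact h.symm

theorem commute_op_two {x m : G} (hx : x ∈ Φ.U) (hm : m ∈ Op 2 Φ.C) : Commute x m := by
  haveI : Fact (Nat.Prime 2) := ⟨Nat.prime_two⟩
  refine mul_inv_eq_iff_eq_mul.1 (mul_inv_eq_one.1 ?_)
  have h1 : x * m * x⁻¹ * m⁻¹ ∈ Φ.U := by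
    rw [show x * m * x⁻¹ * m⁻¹ = x * (m * x⁻¹ * m⁻¹) by group]
    exact mul_mem hx ((mem_normalizer_iff.1 (Φ.C_le_normalizer_U (op_le 2 Φ.C hm)) _).1 (inv_mem hx))
  obtain ⟨j, hj⟩ := IsPGroup.iff_orderOf.1 (op_isPGroup 2 Φ.C)
    ⟨_, mul_mem (conj_mem_op (Φ.U_le_C hx) hm) (inv_mem hm)⟩
  rw [Subgroup.orderOf_mk] at hj
  exact orderOf_eq_one_iff.1 (Nat.eq_one_of_dvd_coprimes
    ((Nat.coprime_two_left.2 (Φ.odd_of_mem h1)).pow_left j) hj.dvd (dvd_refl _))

/-- The torus principle: a maximal subgroup above `N(D)` has a component if it contains a nontrivial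
inverted element of `U`. -/
theorem layer_ne_bot (hg : ∀ w ∈ Φ.W, Commute Φ.g w) {q : ℕ} [Fact q.Prime] {D : Subgroup G}
    (hDA : D ≤ Op q Φ.C ⊓ Φ.W) (hD : D ≠ ⊥)
    (hA : Op q Φ.C ⊓ Φ.W ≤ normalizer (D : Set G)) {k : G} (hk : k ∈ Φ.U) (hku : Φ.u * k * Φ.u = k⁻¹)
    (hk1 : k ≠ 1) (hkD : k ∈ normalizer (D : Set G)) :
    ∃ N : Subgroup G, N ≠ ⊤ ∧ Φ.t ∈ N ∧ Φ.u ∈ N ∧ normalizer (D : Set G) ≤ N ∧ Cfsg.layer ↥N ≠ ⊥ := by
  haveI : Fact (Nat.Prime 2) := ⟨Nat.prime_two⟩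
  haveI := hK.min.isSimple
  haveI := Φ.klein
  have hDp : IsPGroup q D := ((op_isPGroup q Φ.C).to_le inf_le_left).to_le hDA
  haveI := hDp.isNilpotent
  obtain ⟨N, hN, hle⟩ := hK.exists_max_ge_normalizer hD (inferInstance : Group.IsSolvable ↥D)
  have hcD : ∀ z : G, (∀ d ∈ D, Commute d z) → z ∈ N := fun z hz =>
    hle (centralizer_le_normalizer _ (mem_centralizer_iff.2 fun d hd => (hz d hd).eq))
  have htN : Φ.t ∈ N := hcD _ fun d hd => (Φ.commute_t (Φ.W_le_U (hDA hd).2)).symm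
  have huN : Φ.u ∈ N := hcD _ fun d hd => (Φ.commute_u (hDA hd).2).symm
  have hgN : Φ.g ∈ N := hcD _ fun d hd => (hg d (hDA hd).2).symm
  have hkN : k ∈ N := hle hkD
  refine ⟨N, hN.1, htN, huN, hle, fun hL => ?_⟩
  have hkt : Commute Φ.t k := Φ.commute_t hk
  have hVN : Φ.V ≤ N := Φ.V_le htN huN
  have hO2 : Op 2 N = ⊥ := by
    by_contra hne
    obtain ⟨w, hw, hw1⟩ := (bot_or_exists_ne_one (Op 2 N)).resolve_left hne
    have hVp : IsPGroup 2 Φ.V := IsPGroup.of_card (n := 2) (by rw [Φ.card_V]; norm_num)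
    have hP : IsPGroup 2 ↥(Op 2 N ⊔ Φ.V) :=
      IsPGroup.to_sup_of_normal_left' (op_isPGroup 2 N) hVp (hVN.trans (le_normalizer_op 2 N))
    obtain ⟨P, hP'⟩ := hP.exists_le_sylow
    have hPV : Φ.V = (P : Subgroup G) := eq_of_le_of_card_ge (le_sup_right.trans hP')
      (by rw [(hK.sylow_klein P).card, Φ.card_V])
    have hin : ∀ w ∈ Op 2 N, w ∈ Φ.V := fun w hw => hPV ▸ hP' (mem_sup_left hw)
    have hu2 : Φ.u ∈ Op 2 N := by
      have h1 := conj_mem_op hgN hw
      have h2 := conj_mem_op hgN h1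
      rcases Φ.V_cases (hin w hw) hw1 with rfl | rfl | rfl
      · rwa [Φ.gt] at h1
      · exact hw
      · rw [Φ.gv, Φ.gt] at h2; exact h2
    have h1 : k * Φ.u * k⁻¹ ∈ Φ.V := hin _ (conj_mem_op hkN hu2)
    have hone : k * Φ.u * k⁻¹ ≠ 1 := fun h => Cfsg.Lib.Invol.ne_one Φ.hu (by simpa using h)
    have e0 : k * Φ.t * k⁻¹ = Φ.t := by rw [← hkt.eq, mul_inv_cancel_right]
    have hcu : Commute Φ.u k := by
      rcases Φ.V_cases h1 hone with h | h | h
      · exact absurd (mul_left_cancel (mul_right_cancel (h.trans e0.symm))) Φ.hne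
      · exact (mul_inv_eq_iff_eq_mul.1 h).symm
      · have e2 : k * (k * Φ.u * k⁻¹) * k⁻¹ = Φ.u := by
          rw [h]
          calc k * (Φ.t * Φ.u) * k⁻¹ = (k * Φ.t * k⁻¹) * (k * Φ.u * k⁻¹) := by group
            _ = Φ.u := by rw [e0, h, Φ.t_mul_v]
        refine (commute_of_sq_commute (Φ.odd_of_mem hk) ?_).symm
        show _ = _
        calc k * k * Φ.u = k * (k * Φ.u * k⁻¹) * k⁻¹ * (k * k) := by group
          _ = Φ.u * (k * k) := by rw [e2]
    exact hk1 (eq_one_of_fixed_inverted Φ.uu hcu hku (Φ.odd_of_mem hk))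
  have hopodd : ∀ {r : ℕ}, r.Prime → ∀ z ∈ Op r N, Odd (orderOf z) := fun {r} hr z hz => by
    by_cases h : r = 2
    · subst h
      rw [hO2, mem_bot] at hz
      simp [hz]
    · haveI : Fact r.Prime := ⟨hr⟩
      exact conj_odd h (op_isPGroup r N) hz
  obtain ⟨r, hr, z, hz, hzt⟩ : ∃ r, r.Prime ∧ ∃ z ∈ Op r N, ¬ Commute Φ.t z := by
    by_contra h
    push Not at h
    have htF := mem_map_of_mem N.subtype
      (Cfsg.Agent.S1312.mem_fitting_of_commute hL ⟨Φ.t, htN⟩ fun r hr m hm => (h r hr.out m hm).eq)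
    have := Cfsg.Lib.Sig.BenderPair.mem_op_of_fitting (s := 2) htF ⟨1, by
      show Φ.t ^ 2 ^ 1 = 1
      rw [pow_one, pow_two, Φ.tt]⟩
    rw [hO2, mem_bot] at this
    exact Cfsg.Lib.Invol.ne_one Φ.ht this
  haveI : Fact r.Prime := ⟨hr⟩
  have hr2 : r ≠ 2 := by
    rintro rfl
    rw [hO2, mem_bot] at hz
    exact hzt (hz ▸ Commute.one_right _)
  have hconj : ∀ s ∈ N, s * s = 1 → ∀ y ∈ Op r N, s * y * s ∈ Op r N := fun s hs hss y hy => by
    have := conj_mem_op hs hy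
    rwa [inv_eq_of_mul_eq_one_right hss] at this
  obtain ⟨b, hb, w, hw, hbt, hwt, hzbw⟩ := exists_inverted_mul_fixed Φ.tt (fun y hy => hopodd hr y hy) hz
    (hconj _ htN Φ.tt z hz)
  have hb1 : b ≠ 1 := fun h => hzt (by rwa [hzbw, h, one_mul])
  -- an element of `O_r(N) ∩ U` inverted by `u`
  obtain ⟨y, hy, hyt, hyu, hy1⟩ : ∃ y ∈ Op r N, Commute Φ.t y ∧ Φ.u * y * Φ.u = y⁻¹ ∧ y ≠ 1 := by
    by_cases hv : ∃ c ∈ Op r N, Commute (Φ.t * Φ.u) c ∧ Φ.t * c * Φ.t = c⁻¹ ∧ c ≠ 1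
    · obtain ⟨c, hc, hcv, hct, hc1⟩ := hv
      refine ⟨Φ.g * c * Φ.g⁻¹, conj_mem_op hgN hc, ?_, ?_, fun h => hc1 (by simpa using h)⟩
      · have := fixed_conj (h := Φ.g) hcv
        rwa [Φ.gv] at this
      · have := inverted_conj (h := Φ.g) hct
        rwa [Φ.gt] at this
    · push Not at hv
      have hbu := commute_u_of_no_v Φ (Op r N) (fun y hy => hopodd hr y hy)
        (fun y hy => hconj _ huN Φ.uu y hy) (fun y hy hyt hc => hv y hy hc hyt) hb hbt
      have hbv : Φ.t * Φ.u * b * (Φ.t * Φ.u) = b⁻¹ := by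
        rw [show Φ.t * Φ.u * b * (Φ.t * Φ.u) = Φ.t * (Φ.u * b * (Φ.t * Φ.u)) by group, Φ.hc.eq,
          show Φ.t * (Φ.u * b * (Φ.u * Φ.t)) = Φ.t * (Φ.u * b * Φ.u) * Φ.t by group,
          fix_of_commute Φ.uu hbu, hbt]
      refine ⟨Φ.g⁻¹ * b * Φ.g, ?_, ?_, ?_, fun h => hb1 ?_⟩
      · simpa using conj_mem_op (inv_mem hgN) hb
      · have := fixed_conj (h := Φ.g⁻¹) hbu
        rwa [inv_inv, Φ.gu'] at this
      · have := inverted_conj (h := Φ.g⁻¹) hbv
        rwa [inv_inv, Φ.gv'] at this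
      · calc b = Φ.g * (Φ.g⁻¹ * b * Φ.g) * Φ.g⁻¹ := by group
          _ = 1 := by rw [h]; group
  have hyU : y ∈ Φ.U := (hK.mem_U Φ).2 ⟨hyt, hopodd hr y hy⟩
  have key : ∀ s : ℕ, s.Prime → s ≠ r → ∀ m ∈ Op s Φ.C, Commute y m := by
    intro s hs hsr
    haveI : Fact s.Prime := ⟨hs⟩
    by_cases hs2 : s = 2
    · subst hs2
      exact fun m hm => hK.commute_op_two Φ hyU hm
    obtain ⟨j, hj⟩ := IsPGroup.iff_orderOf.1 (op_isPGroup r N) ⟨y, hy⟩
    rw [← orderOf_coe] at hj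
    refine commute_of_fixed_commute Φ.uu hyu (Φ.odd_of_mem hyU) hs2 (op_isPGroup s Φ.C) ?_ (fun m hm => ?_)
      (le_normalizer_op s Φ.C (Φ.U_le_C hyU)) fun m hm hmu => ?_
    · rw [hj]
      exact ((Nat.coprime_primes hr hs).2 (Ne.symm hsr)).pow_left j
    · have := conj_mem_op Φ.u_mem_C hm
      rwa [Cfsg.Lib.Invol.inv_eq_self Φ.hu] at this
    · have hmW : m ∈ Φ.W := (hK.mem_W Φ).2
        ⟨Φ.mem_C.1 (op_le s Φ.C hm), hmu, conj_odd hs2 (op_isPGroup s Φ.C) hm⟩
      have hmN : m ∈ N := by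
        by_cases hsq : s = q
        · subst hsq
          exact hle (hA ⟨hm, hmW⟩)
        · exact hcD m fun d hd => (op_commute hsq Φ.C hm (hDA hd).1).symm
      refine mul_inv_eq_iff_eq_mul.1 (mul_inv_eq_one.1 ?_)
      refine eq_one_of_two_primes (Ne.symm hsr) (op_isPGroup r N) (op_isPGroup s Φ.C) ?_
        (mul_mem (conj_mem_op (Φ.U_le_C hyU) hm) (inv_mem hm))
      rw [show y * m * y⁻¹ * m⁻¹ = y * (m * y⁻¹ * m⁻¹) by group]
      exact mul_mem hy (conj_mem_op hmN (inv_mem hy))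
  haveI := hK.solvable_C Φ
  have hrne : Op r Φ.C ≠ ⊥ := by
    intro h
    have hyF := mem_map_of_mem Φ.C.subtype (Cfsg.Agent.S1312.mem_fitting_of_commute
      (layer_eq_bot_of_solvable (hK.solvable_C Φ)) ⟨y, Φ.U_le_C hyU⟩ fun s hs m hm => by
        by_cases hsr : s = r
        · subst hsr
          rw [h, mem_bot] at hm
          simp [hm]
        · exact (key s hs.out hsr m hm).eq)
    obtain ⟨j, hj⟩ := IsPGroup.iff_orderOf.1 (op_isPGroup r N) ⟨y, hy⟩
    rw [← orderOf_coe] at hj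
    have := Cfsg.Lib.Sig.BenderPair.mem_op_of_fitting (s := r) hyF ⟨j, by
      show y ^ r ^ j = 1
      rw [← hj, pow_orderOf_eq_one]⟩
    rw [h, mem_bot] at this
    exact hy1 this
  have h2ne : Op 2 Φ.C ≠ ⊥ := fun h => Cfsg.Lib.Invol.ne_one Φ.ht (mem_bot.1 (h ▸ hK.t_mem_op_two Φ))
  have hleft := op_le_left (q := r) (r := 2) (hK.isCoatom_C Φ) (Q := D) (N := N)
    ((hDA.trans inf_le_left).trans (op_le_fitting Φ.C q)) (inf_le_right.trans hle) hr2 hrne h2ne
  exact hb1 (eq_one_of_fixed_inverted Φ.tt (Φ.mem_C.1 (hleft hb)) hbt (hopodd hr b hb))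

/-- Inverted elements of `U` centralizing a suitable `D` commute, and those of equal order generate the
same subgroup. -/
theorem torus_centralizer (hg : ∀ w ∈ Φ.W, Commute Φ.g w) {q : ℕ} [Fact q.Prime] {D : Subgroup G}
    (hDA : D ≤ Op q Φ.C ⊓ Φ.W) (hD : D ≠ ⊥)
    (hA : Op q Φ.C ⊓ Φ.W ≤ normalizer (D : Set G)) {a b : G} (ha : a ∈ Φ.U) (hau : Φ.u * a * Φ.u = a⁻¹)
    (haD : a ∈ normalizer (D : Set G)) (hb : b ∈ Φ.U) (hbu : Φ.u * b * Φ.u = b⁻¹)
    (hbD : b ∈ normalizer (D : Set G)) :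
    Commute a b ∧ (orderOf a = orderOf b → zpowers a = zpowers b) := by
  by_cases ha1 : a = 1
  · subst ha1
    exact ⟨Commute.one_left _, fun h => by
      rw [orderOf_one] at h
      rw [orderOf_eq_one_iff.1 h.symm]⟩
  obtain ⟨N, hN, htN, huN, hle, hL⟩ := hK.layer_ne_bot Φ hg hDA hD hA ha hau ha1 haD
  exact hK.torus_pair Φ hN htN huN hL (hle haD) (hle hbD) ha hb hau hbu

end KMin


end Cfsg.Lib.GW
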