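import Cfsg.Agent.Lib.GW.Min
import Cfsg.Agent.Lib.Fusion.Abelian
import Cfsg.Agent.Lib.Block.KleinCore
import Cfsg.Agent.Lib.GW.OrderBound
import Cfsg.Agent.Lib.Dickson.Maximal.Basic
import Cfsg.Agent.Lib.Invol.KleinFour
import Cfsg.Agent.S1255

/-!
# Gorenstein–Walter, Sylow four groups: frames

A frame consists of two commuting involutions `t`, `u` and an element `g` with `t ↦ u ↦ t * u`.
-/

set_option autoImplicit false
set_option linter.style.haveILetI false

namespace Cfsg.Lib.GW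

open Subgroup

universe u

section Elements

variable {G : Type*} [Group G]

theorem exists_pow_sq_eq {x : G} (hx : Odd (orderOf x)) : ∃ k : ℕ, (x * x) ^ k = x := by
  obtain ⟨j, hj⟩ := hx
  exact ⟨j + 1, by rw [← pow_two, ← pow_mul, show 2 * (j + 1) = orderOf x + 1 by omega, pow_succ,
    pow_orderOf_eq_one, one_mul]⟩

theorem commute_of_sq_commute {x r : G} (hx : Odd (orderOf x)) (h : Commute (x * x) r) : Commute x r := by
  obtain ⟨k, hk⟩ := exists_pow_sq_eq hx
  rw [← hk]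
  exact h.pow_left k

theorem mem_of_sq_mem {H : Subgroup G} {x : G} (hx : Odd (orderOf x)) (h : x * x ∈ H) : x ∈ H := by
  obtain ⟨k, hk⟩ := exists_pow_sq_eq hx
  rw [← hk]
  exact pow_mem h k

/-- An involution fixes and inverts only the trivial element of odd order. -/
theorem eq_one_of_fixed_inverted {t x : G} (ht : t * t = 1) (hc : Commute t x) (hi : t * x * t = x⁻¹)
    (hx : Odd (orderOf x)) : x = 1 := by
  rw [hc.eq, mul_assoc, ht, mul_one] at hi
  have h2 : x * x = 1 := mul_eq_one_iff_eq_inv.2 hi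
  obtain ⟨k, hk⟩ := exists_pow_sq_eq hx
  rw [← hk, h2, one_pow]

theorem inv_inverted {t x : G} (ht : t * t = 1) (h : t * x * t = x⁻¹) : t * x⁻¹ * t = x := by
  rw [← h]
  rw [show t * (t * x * t) * t = (t * t) * x * (t * t) by group, ht, one_mul, mul_one]

theorem commute_of_inverted_fixed {t x k : G} (ht : t * t = 1) (hx : t * x * t = x⁻¹) (hk : Commute t k)
    (hxk : Commute t (x * k * x⁻¹)) (hodd : Odd (orderOf x)) : Commute x k := by
  refine commute_of_sq_commute hodd ?_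
  have hk' : t * k * t = k := by rw [hk.eq, mul_assoc, ht, mul_one]
  have h1 : t * (x * k * x⁻¹) * t = x * k * x⁻¹ := by rw [hxk.eq, mul_assoc, ht, mul_one]
  have h2 : t * (x * k * x⁻¹) * t = x⁻¹ * k * x := by
    calc t * (x * k * x⁻¹) * t = t * x * (t * t) * k * (t * t) * x⁻¹ * t := by rw [ht]; group
      _ = (t * x * t) * (t * k * t) * (t * x⁻¹ * t) := by group
      _ = _ := by rw [hx, hk', inv_inverted ht hx]
  rw [h1] at h2
  show x * x * k = k * (x * x)
  calc x * x * k = x * (x * k * x⁻¹) * x := by group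
    _ = x * (x⁻¹ * k * x) * x := by rw [h2]
    _ = k * (x * x) := by group

theorem commute_of_inverted_inverted {t x r : G} (ht : t * t = 1) (hx : t * x * t = x⁻¹)
    (hr : t * r * t = r⁻¹) (hxr : t * (x * r * x⁻¹) * t = (x * r * x⁻¹)⁻¹) (hodd : Odd (orderOf x)) :
    Commute x r := by
  refine commute_of_sq_commute hodd ?_
  have h2 : t * (x * r * x⁻¹) * t = x⁻¹ * r⁻¹ * x := by
    calc t * (x * r * x⁻¹) * t = t * x * (t * t) * r * (t * t) * x⁻¹ * t := by rw [ht]; group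
      _ = (t * x * t) * (t * r * t) * (t * x⁻¹ * t) := by group
      _ = _ := by rw [hx, hr, inv_inverted ht hx]
  rw [hxr] at h2
  refine (?_ : Commute (x * x) r⁻¹).inv_right |> fun h => by simpa using h
  show x * x * r⁻¹ = r⁻¹ * (x * x)
  calc x * x * r⁻¹ = x * (x * r * x⁻¹)⁻¹ * x := by group
    _ = x * (x⁻¹ * r⁻¹ * x) * x := by rw [h2]
    _ = r⁻¹ * (x * x) := by group

theorem fixed_conj {h t x : G} (hx : Commute t x) : Commute (h * t * h⁻¹) (h * x * h⁻¹) :=
  hx.map (MulAut.conj h).toMonoidHom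

theorem inverted_conj {h t x : G} (hx : t * x * t = x⁻¹) :
    (h * t * h⁻¹) * (h * x * h⁻¹) * (h * t * h⁻¹) = (h * x * h⁻¹)⁻¹ := by
  rw [conj_inv, ← hx]
  group

end Elements

/-- Two commuting involutions and an element permuting the three involutions cyclically. -/
structure KFrame (G : Type u) [Group G] where
  t : G
  u : G
  g : G
  ht : orderOf t = 2
  hu : orderOf u = 2
  hne : u ≠ t
  hc : Commute t u
  gt : g * t * g⁻¹ = u
  gu : g * u * g⁻¹ = t * u

namespace KFrame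

variable {G : Type u} [Group G] (Φ : KFrame G)

theorem tt : Φ.t * Φ.t = 1 := Cfsg.Lib.Invol.inv_mul_self Φ.ht

theorem uu : Φ.u * Φ.u = 1 := Cfsg.Lib.Invol.inv_mul_self Φ.hu

theorem vv : Φ.t * Φ.u * (Φ.t * Φ.u) = 1 := by
  rw [Φ.hc.symm.mul_mul_mul_comm, Φ.tt, Φ.uu, one_mul]

theorem v_ne : Φ.t * Φ.u ≠ 1 := fun h => Φ.hne (by
  rw [← inv_eq_of_mul_eq_one_right h, Cfsg.Lib.Invol.inv_eq_self Φ.ht])

theorem hv : orderOf (Φ.t * Φ.u) = 2 := Cfsg.Lib.Invol.orderOf_eq_two_of Φ.v_ne Φ.vv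

theorem v_ne_t : Φ.t * Φ.u ≠ Φ.t := fun h => Cfsg.Lib.Invol.ne_one Φ.hu (mul_eq_left.1 h)

theorem v_ne_u : Φ.t * Φ.u ≠ Φ.u := fun h => Cfsg.Lib.Invol.ne_one Φ.ht (mul_eq_right.1 h)

theorem t_mul_v : Φ.t * (Φ.t * Φ.u) = Φ.u := by rw [← mul_assoc, Φ.tt, one_mul]

theorem gv : Φ.g * (Φ.t * Φ.u) * Φ.g⁻¹ = Φ.t := by
  rw [show Φ.g * (Φ.t * Φ.u) * Φ.g⁻¹ = (Φ.g * Φ.t * Φ.g⁻¹) * (Φ.g * Φ.u * Φ.g⁻¹) by group, Φ.gt, Φ.gu,
    Φ.hc.eq, ← mul_assoc, Φ.uu, one_mul]

theorem gu' : Φ.g⁻¹ * Φ.u * Φ.g = Φ.t := by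
  conv_lhs => rw [← Φ.gt]
  group

theorem gt' : Φ.g⁻¹ * Φ.t * Φ.g = Φ.t * Φ.u := by
  conv_lhs => rw [← Φ.gv]
  group

theorem gv' : Φ.g⁻¹ * (Φ.t * Φ.u) * Φ.g = Φ.u := by
  conv_lhs => rw [← Φ.gu]
  group

/-- The frame with `u` and `t * u` interchanged. -/
def swap : KFrame G where
  t := Φ.t
  u := Φ.t * Φ.u
  g := Φ.g⁻¹
  ht := Φ.ht
  hu := Φ.hv
  hne := Φ.v_ne_t
  hc := (Commute.refl Φ.t).mul_right Φ.hc
  gt := by rw [inv_inv]; exact Φ.gt'
  gu := by rw [inv_inv, Φ.gv', Φ.t_mul_v]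

@[simp] theorem swap_t : Φ.swap.t = Φ.t := rfl

theorem swap_u : Φ.swap.u = Φ.t * Φ.u := rfl

theorem swap_v : Φ.swap.t * Φ.swap.u = Φ.u := Φ.t_mul_v

/-- The four group. -/
def V : Subgroup G := closure {Φ.t, Φ.u}

theorem t_mem : Φ.t ∈ Φ.V := subset_closure (Or.inl rfl)

theorem u_mem : Φ.u ∈ Φ.V := subset_closure (Or.inr rfl)

theorem V_le {H : Subgroup G} (h1 : Φ.t ∈ H) (h2 : Φ.u ∈ H) : Φ.V ≤ H :=
  (closure_le H).2 (Set.insert_subset_iff.2 ⟨h1, Set.singleton_subset_iff.2 h2⟩)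

theorem klein : IsKleinFour Φ.V := by
  obtain ⟨U, hU, h1, h2, hle⟩ := Cfsg.Agent.S1255.exists_four Φ.tt Φ.uu (Cfsg.Lib.Invol.ne_one Φ.ht)
    (Cfsg.Lib.Invol.ne_one Φ.hu) Φ.hne.symm Φ.hc.eq
  rwa [show Φ.V = U from le_antisymm (Φ.V_le h1 h2) (hle _ Φ.t_mem Φ.u_mem)]

theorem card_V : Nat.card Φ.V = 4 := haveI := Φ.klein; IsKleinFour.card_four

theorem V_cases {x : G} (hx : x ∈ Φ.V) (h1 : x ≠ 1) : x = Φ.t ∨ x = Φ.u ∨ x = Φ.t * Φ.u := by
  haveI := Φ.klein
  exact Cfsg.Lib.Invol.klein_mem_cases Φ.t_mem Φ.u_mem (Cfsg.Lib.Invol.ne_one Φ.ht)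
    (Cfsg.Lib.Invol.ne_one Φ.hu) Φ.hne.symm hx h1

theorem commute_V {x : G} (h1 : Commute Φ.t x) (h2 : Commute Φ.u x) {w : G} (hw : w ∈ Φ.V) :
    Commute w x := by
  have : w ∈ centralizer ({x} : Set G) :=
    Φ.V_le (mem_centralizer_singleton_iff.2 h1.eq) (mem_centralizer_singleton_iff.2 h2.eq) hw
  exact mem_centralizer_singleton_iff.1 this

theorem g_mem_normalizer [Finite G] : Φ.g ∈ normalizer (Φ.V : Set G) := by
  refine Cfsg.Lib.Fusion.le_normalizer_of_conj_mem fun x hx => ?_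
  by_cases h1 : x = 1
  · simp [h1]
  rcases Φ.V_cases hx h1 with rfl | rfl | rfl
  · rw [Φ.gt]; exact Φ.u_mem
  · rw [Φ.gu]; exact mul_mem Φ.t_mem Φ.u_mem
  · rw [Φ.gv]; exact Φ.t_mem

end KFrame

/-- A counterexample with Sylow subgroups of order four. -/
structure KMin (G : Type u) [Group G] [Finite G] : Prop where
  min : GWMin G
  not_eight : ¬ 8 ∣ Nat.card G
  not_gw : ¬ IsGW G

namespace KMin

variable {G : Type u} [Group G] [Finite G] (hK : KMin G)
include hK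

theorem sylow_klein (P : Sylow 2 G) : Cfsg.Lib.Block.KleinCond P := by
  haveI : Fact (Nat.Prime 2) := ⟨Nat.prime_two⟩
  obtain ⟨n, hn, ⟨e⟩⟩ := hK.min.sylow P
  haveI : NeZero n := ⟨by omega⟩
  have hcard : Nat.card (P : Subgroup G) = 2 * n :=
    (Nat.card_congr e.toEquiv).trans DihedralGroup.nat_card
  obtain ⟨k, hk⟩ := P.2.exists_card_eq
  have hn2 : n = 2 := by
    have hd : Nat.card (P : Subgroup G) ∣ Nat.card G := card_subgroup_dvd_card _
    have hk2 : k ≤ 2 := by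
      by_contra h
      exact hK.not_eight (((pow_dvd_pow 2 (show 3 ≤ k by omega)).trans hk.symm.dvd).trans hd)
    have := Nat.pow_le_pow_right two_pos hk2
    omega
  subst hn2
  refine ⟨by omega, fun x hx => ?_, hK.min.oneClass⟩
  have h : ∀ y : DihedralGroup 2, y * y = 1 := by decide
  have h2 := e.injective (show e (⟨x, hx⟩ * ⟨x, hx⟩) = e 1 by rw [map_mul, map_one, h])
  exact congrArg Subtype.val h2

/-- A four group is a Sylow subgroup. -/
theorem exists_sylow_eq {V : Subgroup G} (hV : Nat.card V = 4) : ∃ P : Sylow 2 G, (P : Subgroup G) = V := by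
  haveI : Fact (Nat.Prime 2) := ⟨Nat.prime_two⟩
  obtain ⟨P, hP⟩ := (IsPGroup.of_card (n := 2) (by rw [hV]; norm_num) : IsPGroup 2 V).exists_le_sylow
  exact ⟨P, (eq_of_le_of_card_ge hP (by rw [hV, (hK.sylow_klein P).card])).symm⟩

theorem card_ne_sixty : Nat.card G ≠ 60 := by
  intro h
  haveI := hK.min.isSimple
  refine hK.not_gw (Or.inl ⟨ZMod 5, inferInstance, inferInstance, by decide, by decide, ?_⟩)
  haveI : IsSimpleGroup (Matrix.ProjectiveSpecialLinearGroup (Fin 2) (ZMod 5)) :=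
    Cfsg.Lib.Dickson.isSimpleGroup_psl_two (by decide)
  have hc := Cfsg.Lib.Dickson.card_psl_mul (K := ZMod 5) (by decide)
  rw [ZMod.card] at hc
  obtain ⟨e⟩ := Cfsg.Lib.OrderLeHundred.iso_alternating_five (G := G) h
  obtain ⟨e'⟩ := Cfsg.Lib.OrderLeHundred.iso_alternating_five
    (G := Matrix.ProjectiveSpecialLinearGroup (Fin 2) (ZMod 5)) (by omega)
  exact ⟨e.trans e'.symm⟩

/-- A nonsolvable subgroup containing `t` and `u` permutes them and their product cyclically. -/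
theorem exists_cycle {t u : G} (ht : orderOf t = 2) (hu : orderOf u = 2) (hne : u ≠ t) (hc : Commute t u)
    (N : Subgroup G) (htN : t ∈ N) (huN : u ∈ N) (hns : ¬ Group.IsSolvable N) :
    ∃ h ∈ N, h * t * h⁻¹ = u ∧ h * u * h⁻¹ = t * u := by
  haveI : Fact (Nat.Prime 2) := ⟨Nat.prime_two⟩
  obtain ⟨V, hVK, htV, huV, hle⟩ := Cfsg.Agent.S1255.exists_four (Cfsg.Lib.Invol.inv_mul_self ht)
    (Cfsg.Lib.Invol.inv_mul_self hu) (Cfsg.Lib.Invol.ne_one ht) (Cfsg.Lib.Invol.ne_one hu) hne.symm hc.eq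
  haveI := hVK
  have hVN : V ≤ N := hle N htN huN
  obtain ⟨P, hP⟩ := hK.exists_sylow_eq (IsKleinFour.card_four (G := V))
  let Q : Sylow 2 N := P.subtype (hP.le.trans hVN)
  have hQ : ∀ x : N, x ∈ (Q : Subgroup N) ↔ (x : G) ∈ V := fun x => by
    show x ∈ ((P.subtype _ : Sylow 2 N) : Subgroup N) ↔ _
    rw [Sylow.coe_subtype, mem_subgroupOf, hP]
  obtain ⟨z, hzN, hz⟩ : ∃ z : N, z ∈ normalizer ((Q : Subgroup N) : Set N) ∧
      z ∉ centralizer ((Q : Subgroup N) : Set N) := by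
    by_contra hno
    push Not at hno
    exact hns (isSolvable_of_complement
      (Cfsg.Lib.Fusion.hasNormalPComplement_of_normalizer_le_centralizer Q hno))
  obtain ⟨k, m, hm, hord⟩ := Nat.exists_eq_two_pow_mul_odd (orderOf_pos z).ne'
  have hmove : z ^ 2 ^ k ∉ centralizer ((Q : Subgroup N) : Set N) := by
    intro h
    refine hz ?_
    have h2 : IsPGroup 2 (zpowers (z ^ m)) := IsPGroup.of_card (n := k) (by
      rw [Nat.card_zpowers, orderOf_pow, hord, Nat.gcd_eq_right (dvd_mul_left m (2 ^ k)),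
        Nat.mul_div_cancel _ hm.pos])
    have hzm : z ^ m ∈ (Q : Subgroup N) :=
      Q.is_maximal' (Cfsg.Lib.Local.isPGroup_sup_of_le_normalizer h2 Q.isPGroup'
        (zpowers_le.mpr (pow_mem hzN m))) le_sup_right ▸ mem_sup_left (mem_zpowers _)
    have hcen : z ^ m ∈ centralizer ((Q : Subgroup N) : Set N) := mem_centralizer_iff.2 fun w hw =>
      Subtype.ext (Cfsg.Lib.Invol.klein_comm ((hQ w).1 hw) ((hQ _).1 hzm))
    have hcop : Nat.gcd (2 ^ k) m = 1 := (Nat.coprime_two_left.2 hm).pow_left k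
    have hb := Nat.gcd_eq_gcd_ab (2 ^ k) m
    rw [hcop] at hb
    have : z = (z ^ 2 ^ k) ^ Nat.gcdA (2 ^ k) m * (z ^ m) ^ Nat.gcdB (2 ^ k) m := by
      rw [← zpow_natCast, ← zpow_natCast z m, ← zpow_mul, ← zpow_mul, ← zpow_add, ← hb]
      simp
    rw [this]
    exact mul_mem (zpow_mem h _) (zpow_mem hcen _)
  set y : G := ((z ^ 2 ^ k : N) : G) with hy
  have hyodd : Odd (orderOf y) := by
    rw [hy, orderOf_coe, orderOf_pow, hord, Nat.gcd_eq_right (dvd_mul_right (2 ^ k) m),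
      Nat.mul_div_cancel_left _ (Nat.two_pow_pos k)]
    exact hm
  have hyV : ∀ x ∈ V, y * x * y⁻¹ ∈ V := fun x hx =>
    (hQ _).1 ((mem_normalizer_iff.1 (pow_mem hzN (2 ^ k)) ⟨x, hVN hx⟩).1 ((hQ _).2 hx))
  -- `y` has no two-cycle
  have hswap : ∀ a b : G, y * a * y⁻¹ = b → y * b * y⁻¹ = a → a = b := by
    intro a b h1 h2
    have hfix : Commute (y * y) a := by
      show y * y * a = a * (y * y)
      calc y * y * a = y * (y * a * y⁻¹) * y := by group
        _ = (y * b * y⁻¹) * y * y := by rw [h1]; group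
        _ = a * (y * y) := by rw [h2, mul_assoc]
    rw [← h1, (commute_of_sq_commute hyodd hfix).eq, mul_inv_cancel_right]
  have hfix1 : ∀ a ∈ V, y * a * y⁻¹ = a → a ≠ 1 → False := by
    intro a ha hfa ha1
    refine hmove (mem_centralizer_iff.2 fun w hw => ?_)
    have hwV := (hQ w).1 hw
    apply Subtype.ext
    show (w : G) * y = y * (w : G)
    have hw2 : y * (w : G) * y⁻¹ = w := by
      by_cases hw1 : (w : G) = 1
      · simp [hw1]
      by_cases hwa : (w : G) = a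
      · rw [hwa, hfa]
      rcases Cfsg.Lib.Invol.klein_mem_cases ha hwV ha1 hw1 (Ne.symm hwa) (hyV _ hwV) (fun h => hw1 (by simpa using h))
        with h | h | h
      · exact absurd (mul_left_cancel (mul_right_cancel (h.trans hfa.symm))) hwa
      · exact h
      · refine h.trans (hswap (w : G) (a * w) h ?_).symm
        rw [show y * (a * (w : G)) * y⁻¹ = (y * a * y⁻¹) * (y * w * y⁻¹) by group, hfa, h, ← mul_assoc,
          Cfsg.Lib.Invol.klein_mul_self ha, one_mul]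
    exact (mul_inv_eq_iff_eq_mul.1 hw2).symm
  have hyne : ∀ a ∈ V, a ≠ 1 → y * a * y⁻¹ ≠ a := fun a ha ha1 h => hfix1 a ha h ha1
  have ht1 := Cfsg.Lib.Invol.ne_one ht
  have hu1 := Cfsg.Lib.Invol.ne_one hu
  have hyt1 : y * t * y⁻¹ ≠ 1 := fun h => ht1 (by simpa using h)
  have hyu1 : y * u * y⁻¹ ≠ 1 := fun h => hu1 (by simpa using h)
  have hyN : y ∈ N := (z ^ 2 ^ k : N).2
  rcases Cfsg.Lib.Invol.klein_mem_cases htV huV ht1 hu1 hne.symm (hyV t htV) hyt1 with h | h | h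
  · exact absurd h (hyne t htV ht1)
  · refine ⟨y, hyN, h, ?_⟩
    rcases Cfsg.Lib.Invol.klein_mem_cases htV huV ht1 hu1 hne.symm (hyV u huV) hyu1 with h' | h' | h'
    · exact absurd (hswap t u h h') hne.symm
    · exact absurd h' (hyne u huV hu1)
    · exact h'
  · have hu' : y * u * y⁻¹ = t := by
      rcases Cfsg.Lib.Invol.klein_mem_cases htV huV ht1 hu1 hne.symm (hyV u huV) hyu1 with h' | h' | h'
      · exact h'
      · exact absurd h' (hyne u huV hu1)
      · exact absurd (mul_left_cancel (mul_right_cancel (h'.trans h.symm))) hne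
    refine ⟨y⁻¹, inv_mem hyN, ?_, ?_⟩
    · rw [inv_inv]; conv_lhs => rw [← hu']
      group
    · have : y * (t * u) * y⁻¹ = u := by
        rw [show y * (t * u) * y⁻¹ = (y * t * y⁻¹) * (y * u * y⁻¹) by group, h, hu', hc.eq, mul_assoc,
          Cfsg.Lib.Invol.inv_mul_self ht, mul_one]
      rw [inv_inv]; conv_lhs => rw [← this]
      group

theorem exists_frame : Nonempty (KFrame G) := by
  classical
  haveI := Fintype.ofFinite G
  haveI : Fact (Nat.Prime 2) := ⟨Nat.prime_two⟩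
  obtain ⟨P⟩ : Nonempty (Sylow 2 G) := inferInstance
  haveI := (hK.sylow_klein P).isKleinFour
  obtain ⟨a, b, ha, hb, ha1, hb1, hne⟩ : ∃ a b : G, a ∈ (P : Subgroup G) ∧ b ∈ (P : Subgroup G) ∧
      a ≠ 1 ∧ b ≠ 1 ∧ b ≠ a := by
    classical
    haveI := Fintype.ofFinite (P : Subgroup G)
    have h4 : 2 < Fintype.card (P : Subgroup G) := by
      rw [← Nat.card_eq_fintype_card, IsKleinFour.card_four]; norm_num
    obtain ⟨a, ha⟩ := Fintype.exists_ne_of_one_lt_card (by omega) (1 : (P : Subgroup G))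
    have h3 : 2 < (Finset.univ : Finset (P : Subgroup G)).card := h4
    obtain ⟨b, -, hb1, hba⟩ : ∃ b ∈ (Finset.univ : Finset (P : Subgroup G)), b ≠ 1 ∧ b ≠ a := by
      by_contra hno
      push Not at hno
      have := Finset.card_le_card (show (Finset.univ : Finset (P : Subgroup G)) ⊆ {1, a} by
        intro x hx
        by_cases h : x = 1
        · simp [h]
        · simp [hno x hx h])
      have h2 := Finset.card_le_two (a := (1 : (P : Subgroup G))) (b := a)
      omega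
    exact ⟨a, b, a.2, b.2, fun h => ha (Subtype.ext h), fun h => hb1 (Subtype.ext h),
      fun h => hba (Subtype.ext h)⟩
  have hoa : orderOf a = 2 := Cfsg.Lib.Invol.orderOf_eq_two_of ha1 (Cfsg.Lib.Invol.klein_mul_self ha)
  have hob : orderOf b = 2 := Cfsg.Lib.Invol.orderOf_eq_two_of hb1 (Cfsg.Lib.Invol.klein_mul_self hb)
  have hns : ¬ Group.IsSolvable (⊤ : Subgroup G) := fun h => hK.min.not_isSolvable
    (haveI := h; solvable_of_surjective (f := (topEquiv : (⊤ : Subgroup G) ≃* G).toMonoidHom) topEquiv.surjective)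
  obtain ⟨g, -, h1, h2⟩ := hK.exists_cycle hoa hob hne (Cfsg.Lib.Invol.klein_comm ha hb) ⊤ (mem_top _)
    (mem_top _) hns
  exact ⟨⟨a, b, g, hoa, hob, hne, Cfsg.Lib.Invol.klein_comm ha hb, h1, h2⟩⟩

/-- A proper overgroup of the centralizer of an involution has a normal 2-complement. -/
theorem complement_of_ge {t : G} (ht : orderOf t = 2) {H : Subgroup G} (hC : centralizer ({t} : Set G) ≤ H)
    (hH : H ≠ ⊤) : Cfsg.HasNormalPComplement 2 H := by
  classical
  letI := Fintype.ofFinite G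
  haveI : Fact (Nat.Prime 2) := ⟨Nat.prime_two⟩
  haveI := hK.min.isSimple
  obtain ⟨P, htP⟩ := (IsPGroup.of_card (n := 1) (by rw [Nat.card_zpowers, ht, pow_one]) :
    IsPGroup 2 (zpowers t)).exists_le_sylow
  have htP' : t ∈ (P : Subgroup G) := htP (mem_zpowers t)
  haveI := (hK.sylow_klein P).isKleinFour
  have hPC : (P : Subgroup G) ≤ centralizer ({t} : Set G) := fun x hx =>
    mem_centralizer_singleton_iff.2 (Cfsg.Lib.Invol.klein_comm hx htP')
  let Q : Sylow 2 H := P.subtype (hPC.trans hC)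
  have hQ : ∀ x : H, x ∈ (Q : Subgroup H) ↔ (x : G) ∈ (P : Subgroup G) := fun x => by
    show x ∈ ((P.subtype _ : Sylow 2 H) : Subgroup H) ↔ _
    rw [Sylow.coe_subtype, mem_subgroupOf]
  haveI : IsKleinFour (Q : Subgroup H) :=
    ⟨((Nat.card_congr (subgroupOfEquivOfLe (hPC.trans hC)).toEquiv).trans IsKleinFour.card_four :
        Nat.card ((P : Subgroup G).subgroupOf H) = 4),
      ((Monoid.exponent_eq_of_mulEquiv (subgroupOfEquivOfLe (hPC.trans hC))).trans IsKleinFour.exponent_two :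
        Monoid.exponent ((P : Subgroup G).subgroupOf H) = 2)⟩
  refine Cfsg.Lib.Fusion.hasNormalPComplement_of_normalizer_le_centralizer Q fun z hz =>
    mem_centralizer_iff.2 fun w hw => ?_
  by_contra hne
  have hone : OneClass H := by
    intro a b ha hb
    obtain ⟨x, hx, hxo, hxa⟩ := Cfsg.Lib.Invol.klein_exists_rep Q ha
    obtain ⟨y, hy, hyo, hyb⟩ := Cfsg.Lib.Invol.klein_exists_rep Q hb
    exact (hxa.symm.trans (Cfsg.Lib.Invol.klein_isConj_of_moved Q hz hw
      (fun h => hne (mul_inv_eq_iff_eq_mul.1 h).symm) hx (Cfsg.Lib.Invol.ne_one hxo) hy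
      (Cfsg.Lib.Invol.ne_one hyo))).trans hyb
  rcases klein_eq_top_or_sixty (hK.sylow_klein P) htP' ht H hC hone with h | h
  · exact hH h
  · exact hK.card_ne_sixty h

theorem solvable_of_ge {t : G} (ht : orderOf t = 2) {H : Subgroup G} (hC : centralizer ({t} : Set G) ≤ H)
    (hH : H ≠ ⊤) : Group.IsSolvable H := isSolvable_of_complement (hK.complement_of_ge ht hC hH)

end KMin

end Cfsg.Lib.GW
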