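import Cfsg.Agent.Lib.GW.Klein.Core
import Cfsg.Agent.Lib.GW.RankOne
import Cfsg.Agent.Lib.GW.DGroupDihedral

/-!
# Gorenstein–Walter, Sylow four groups: a component and the centralizer of the four group

A perfect central extension of `PSL₂(q)`, `q ≠ 9` odd, has kernel of order at most two. So if a proper
subgroup containing `V` and `W` has a component, some element cycling the four group centralizes `W`.
-/

set_option autoImplicit false
set_option linter.style.haveILetI false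

namespace Cfsg.Lib.GW

open Subgroup

universe u

/-- A perfect central extension of `PSL₂(q)`, `q ≠ 9` odd, has kernel of order at most two. -/
theorem psl_cover_ker_le {F : Type} [Field F] [Fintype F] (hodd : Odd (Fintype.card F))
    (h3 : 3 < Fintype.card F) (h9 : Fintype.card F ≠ 9) {Q : Type u} [Group Q] [Finite Q]
    (hQ : commutator Q = ⊤) (π : Q →* Matrix.ProjectiveSpecialLinearGroup (Fin 2) F)
    (hπ : Function.Surjective π) (hk : π.ker ≤ center Q) : Nat.card π.ker ≤ 2 := by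
  classical
  let S := Matrix.SpecialLinearGroup (Fin 2) F
  have hS : commutator S = ⊤ := Cfsg.Lib.Linear.commutator_SL_eq_top' (Or.inr (by omega))
  let θ : S →* Matrix.ProjectiveSpecialLinearGroup (Fin 2) F := QuotientGroup.mk' (center S)
  have hθ : Function.Surjective θ := QuotientGroup.mk'_surjective _
  let P : Subgroup (Q × S) := (π.comp (MonoidHom.fst Q S)).eqLocus (θ.comp (MonoidHom.snd Q S))
  let p₁ : P →* Q := (MonoidHom.fst Q S).comp P.subtype
  let p₂ : P →* S := (MonoidHom.snd Q S).comp P.subtype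
  have hp₁ : Function.Surjective p₁ := fun q => by
    obtain ⟨s, hs⟩ := hθ (π q)
    exact ⟨⟨(q, s), hs.symm⟩, rfl⟩
  have hp₂ : Function.Surjective p₂ := fun s => by
    obtain ⟨q, hq⟩ := hπ (θ s)
    exact ⟨⟨(q, s), hq⟩, rfl⟩
  have hmem : ∀ x : P, p₂ x = 1 → (x : Q × S).1 ∈ π.ker := fun x hx => by
    have h := x.2
    show π (x : Q × S).1 = 1
    rw [show π (x : Q × S).1 = θ (x : Q × S).2 from h, show (x : Q × S).2 = 1 from hx, map_one]
  have hcen : ∀ x : P, p₂ x = 1 → x ∈ center P := fun x hx => by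
    rw [mem_center_iff]
    intro y
    refine Subtype.ext (Prod.ext ?_ ?_)
    · exact mem_center_iff.1 (hk (hmem x hx)) _
    · show (y : Q × S).2 * (x : Q × S).2 = (x : Q × S).2 * (y : Q × S).2
      rw [show (x : Q × S).2 = 1 from hx, mul_one, one_mul]
  let K : Subgroup P := commutator P
  let f : K →* S := p₂.comp K.subtype
  have hf : Function.Surjective f := by
    rw [← MonoidHom.range_eq_top]
    show (p₂.comp K.subtype).range = ⊤
    rw [MonoidHom.range_comp, range_subtype, commutator_map_top p₂ hp₂, hS]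
  have hsplit : ∀ x : P, ∃ k ∈ K, ∃ z ∈ center P, x = k * z := fun x => by
    obtain ⟨k, hk'⟩ := hf (p₂ x)
    refine ⟨k, k.2, (k : P)⁻¹ * x, hcen _ ?_, by rw [mul_inv_cancel_left]⟩
    rw [map_mul, map_inv, show p₂ (k : P) = p₂ x from hk', inv_mul_cancel]
  have hKperf : commutator K = ⊤ := by
    refine Subgroup.map_injective K.subtype_injective ?_
    rw [map_subtype_commutator, ← MonoidHom.range_eq_map, range_subtype]
    refine le_antisymm (commutator_le_self K) ?_
    show ⁅(⊤ : Subgroup P), ⊤⁆ ≤ ⁅K, K⁆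
    rw [commutator_le]
    intro a _ b _
    obtain ⟨k, hk', z, hz, rfl⟩ := hsplit a
    obtain ⟨l, hl, w, hw, rfl⟩ := hsplit b
    rw [Cfsg.Lib.Chev.comm_mul_central hz hw]
    exact commutator_mem_commutator hk' hl
  have hker : ∀ x : K, f x = 1 → x ∈ center K := fun x hx => by
    rw [mem_center_iff]
    exact fun y => Subtype.ext (mem_center_iff.1 (hcen (x : P) hx) _)
  -- carry the extension to the universe of the field
  obtain ⟨n, ⟨e⟩⟩ : ∃ n : ℕ, Nonempty (K ≃ Fin n) := ⟨Nat.card K, ⟨Finite.equivFin K⟩⟩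
  let ρ : K →* Equiv.Perm (Fin n) :=
    (Equiv.permCongrHom e).toMonoidHom.comp (MulAction.toPermHom K K)
  have hρ : Function.Injective ρ :=
    (Equiv.permCongrHom e).injective.comp MulAction.toPerm_injective
  let eK : K ≃* ρ.range := MonoidHom.ofInjective hρ
  let σ : ρ.range →* S := f.comp eK.symm.toMonoidHom
  have hσ : Cfsg.IsStemExtension σ := by
    refine ⟨hf.comp eK.symm.surjective, fun x hx => ?_, ?_⟩
    · rw [mem_center_iff]
      intro y
      refine eK.symm.injective ?_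
      rw [map_mul, map_mul]
      exact mem_center_iff.1 (hker _ hx) _
    · refine le_top.trans (le_of_eq ?_)
      have h := commutator_map_top eK.toMonoidHom eK.surjective
      rw [hKperf] at h
      exact (map_top_of_surjective _ eK.surjective).symm.trans h
  have h4 : Fintype.card F ≠ 4 := fun h => by rw [h] at hodd; exact absurd hodd (by decide)
  obtain ⟨φ, hφ⟩ := (Cfsg.Agent.S2117.result h4 h9).2 _ σ hσ
  have hσ1 : Nat.card σ.ker ≤ 1 := (Nat.card_le_card_of_surjective φ hφ).trans (by simp)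
  have hσinj : Function.Injective σ := (MonoidHom.ker_eq_bot_iff σ).1
    (Subgroup.card_eq_one.1 (le_antisymm hσ1 Nat.card_pos))
  have hfinj : Function.Injective f := fun a b hab => eK.injective (hσinj (by
    show f (eK.symm (eK a)) = f (eK.symm (eK b))
    rw [eK.symm_apply_apply, eK.symm_apply_apply, hab]))
  have hsur : Function.Surjective (p₁.comp K.subtype) := by
    rw [← MonoidHom.range_eq_top, MonoidHom.range_comp, range_subtype, commutator_map_top p₁ hp₁, hQ]
  have hle : Nat.card Q ≤ Nat.card S :=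
    (Nat.card_le_card_of_surjective _ hsur).trans (Nat.card_le_card_of_injective f hfinj)
  have hθk : Nat.card θ.ker = 2 := by
    rw [QuotientGroup.ker_mk']
    show Nat.card (center (Matrix.SpecialLinearGroup (Fin 2) F)) = 2
    rw [Cfsg.Lib.Linear.card_center_SL, Fintype.card_fin]
    obtain ⟨m, hm⟩ := hodd
    rw [show Fintype.card F - 1 = 2 * m by omega, Nat.gcd_mul_right_right]
  rw [card_eq_card_quotient_mul_card_subgroup π.ker,
    Nat.card_congr (QuotientGroup.quotientKerEquivOfSurjective π hπ).toEquiv,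
    card_eq_card_quotient_mul_card_subgroup θ.ker, hθk,
    Nat.card_congr (QuotientGroup.quotientKerEquivOfSurjective θ hθ).toEquiv] at hle
  exact Nat.le_of_mul_le_mul_left hle Nat.card_pos

namespace KMin

variable {G : Type u} [Group G] [Finite G] (hK : KMin G) (Φ : KFrame G)
include hK

/-- If a proper subgroup containing `V` and `W` has a component, an element cycling `V` centralizes `W`. -/
theorem exists_cycle_commute {N : Subgroup G} (hN : N ≠ ⊤) (htN : Φ.t ∈ N) (huN : Φ.u ∈ N)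
    (hWN : Φ.W ≤ N) (hLayer : Cfsg.layer ↥N ≠ ⊥) :
    ∃ h : G, h * Φ.t * h⁻¹ = Φ.u ∧ h * Φ.u * h⁻¹ = Φ.t * Φ.u ∧ ∀ w ∈ Φ.W, Commute h w := by
  haveI : Fact (Nat.Prime 2) := ⟨Nat.prime_two⟩
  haveI := Φ.klein
  set O := Cfsg.oddCore ↥N with hOdef
  obtain ⟨L, hLc⟩ : ∃ L : Subgroup ↥N, Cfsg.IsComponent L := by
    by_contra h
    push Not at h
    exact hLayer (Cfsg.Lib.Core.layer_eq_bot_iff.2 h)
  have hOs : Group.IsSolvable ↥O := Cfsg.Agent.S0205.result Cfsg.Lib.ZStar.odd_card_oddCore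
  have hns : ¬ Group.IsSolvable ↥N := fun h =>
    haveI := h
    Cfsg.Lib.Core.component_not_le_solvable hLc (H := ⊤) inferInstance le_top
  have hDN : TwoCycDih ↥N := hK.min.twoCycDih.subgroup N
  have hlt : Nat.card (↥N ⧸ O) < Nat.card G :=
    lt_of_le_of_lt (Nat.card_le_card_of_surjective _ (QuotientGroup.mk_surjective (s := O)))
      (Cfsg.Lib.Core.lt_card_of_ne_top hN)
  have hsolv : Group.IsSolvable (↥N ⧸ O) → False := fun h => by
    haveI := h
    haveI := hOs
    exact hns (Group.isSolvable_of_ker_le_range O.subtype (QuotientGroup.mk' O) (by simp))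
  have h8 : ¬ 8 ∣ Nat.card (↥N ⧸ O) := fun h => hK.not_eight
    ((h.trans (card_quotient_dvd_card O)).trans (card_subgroup_dvd_card N))
  rcases shape (hDN.quotient O) (gwSections_of_below hK.min.below (hDN.quotient O) hlt)
    (Cfsg.Lib.Core.pPrimeCore_quotient_eq_bot (p := 2)) with
    h2 | ⟨W, -, -, -, hc⟩ | ⟨E, hEn, hEs, hna, hgw, hED, -, hmin, -⟩
  · haveI := h2.isNilpotent
    exact (hsolv inferInstance).elim
  · exact (hsolv (Cfsg.Lib.Recog.Icosa.solvable_of_lt_sixty _ _ rfl (by rcases hc with h | h <;> omega))).elim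
  haveI := hEn
  have h4 : 4 ∣ Nat.card ↥E := by
    obtain ⟨S⟩ : Nonempty (Sylow 2 ↥E) := inferInstance
    obtain ⟨n, hn, ⟨e⟩⟩ := hED S
    haveI : NeZero n := ⟨by omega⟩
    have hcard : Nat.card (S : Subgroup ↥E) = 2 * n :=
      (Nat.card_congr e.toEquiv).trans DihedralGroup.nat_card
    obtain ⟨k, hk⟩ := S.2.exists_card_eq
    have hk2 : 2 ≤ k := by
      by_contra h
      have := Nat.pow_le_pow_right two_pos (show k ≤ 1 by omega)
      omega
    exact ((pow_dvd_pow 2 hk2).trans hk.symm.dvd).trans (card_subgroup_dvd_card _)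
  have hidx : Odd E.index := by
    rw [← Nat.not_even_iff_odd, even_iff_two_dvd]
    intro h
    exact h8 ((mul_dvd_mul h4 h).trans E.card_mul_index.dvd)
  obtain ⟨F, iF, jF, hFodd, hF3, ⟨eE⟩⟩ : ∃ (F : Type) (_ : Field F) (_ : Fintype F),
      Odd (Fintype.card F) ∧ 3 < Fintype.card F ∧
        Nonempty (E ≃* Matrix.ProjectiveSpecialLinearGroup (Fin 2) F) := by
    rcases hgw with h | ⟨⟨e⟩⟩
    · exact h
    exfalso
    refine h8 (dvd_trans ?_ (card_subgroup_dvd_card E))
    rw [Nat.card_congr e.toEquiv, Nat.card_eq_fintype_card]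
    have h := two_mul_card_alternatingGroup (α := Fin 7)
    rw [Fintype.card_perm, Fintype.card_fin] at h
    have h7 : Nat.factorial 7 = 5040 := rfl
    omega
  have hF9 : Fintype.card F ≠ 9 := fun h9 => by
    refine h8 (dvd_trans ?_ (card_subgroup_dvd_card E))
    rw [Nat.card_congr eE.toEquiv]
    have h := DGroup.card_psl_two (F := F) hFodd
    rw [h9] at h
    omega
  set φ := QuotientGroup.mk' O with hφ
  haveI hLn : L.Normal := Cfsg.Lib.Core.normal_iff_map_conj.2 fun g =>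
    component_unique hDN (Cfsg.Lib.Core.IsComponent.map_conj hLc g) hLc
  have hLO : ⁅L, O⁆ = ⊥ := Cfsg.Lib.Core.component_commute_solvable hLc hOs le_normalizer_of_normal
  have hcomm : ∀ l ∈ L, ∀ o ∈ O, Commute l o := fun l hl o ho =>
    (mem_centralizer_iff.1 (commutator_eq_bot_iff_le_centralizer.1 hLO hl) o ho).symm
  have himne : L.map φ ≠ ⊥ := fun h => by
    rw [Subgroup.map_eq_bot_iff, hφ, QuotientGroup.ker_mk'] at h
    exact Cfsg.Lib.Core.component_not_le_solvable hLc hOs h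
  have hEL : E ≤ L.map φ := hmin _ (Subgroup.Normal.map hLn _ (QuotientGroup.mk'_surjective O)) himne
  have hperfL : commutator ↥L = ⊤ := Cfsg.Lib.Core.quasisimple_commutator hLc.2
  have hLE : L.map φ ≤ E := by
    haveI : Group.IsSolvable ((↥N ⧸ O) ⧸ E) := Cfsg.Agent.S0205.result (by rwa [← index_eq_card])
    set ξ := (QuotientGroup.mk' E).comp (φ.comp L.subtype) with hξ
    have hs : Group.IsSolvable ↥ξ.range := inferInstance
    have hp : commutator ↥ξ.range = ⊤ := by
      rw [← commutator_map_top ξ.rangeRestrict ξ.rangeRestrict_surjective, hperfL,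
        map_top_of_surjective _ ξ.rangeRestrict_surjective]
    haveI := hs
    haveI := subsingleton_of_perfect_solvable hp
    rintro _ ⟨l, hl, rfl⟩
    exact (QuotientGroup.eq_one_iff _).1 (congrArg Subtype.val (Subsingleton.elim (ξ.rangeRestrict ⟨l, hl⟩) 1))
  have hmapV : ∀ w : ↥N, (w : G) ∈ Φ.V → w ∈ L := by
    intro w hw
    have h2 : w * w = 1 := Subtype.ext (Cfsg.Lib.Invol.klein_mul_self hw)
    have hwE : φ w ∈ E := by
      obtain ⟨j, hj⟩ := hidx
      have h := E.pow_index_mem (φ w)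
      rwa [hj, pow_succ, pow_mul, ← map_pow, pow_two, h2, map_one, one_pow, one_mul] at h
    obtain ⟨l, hl, hlw⟩ := hEL hwE
    have ho : l⁻¹ * w ∈ O := QuotientGroup.eq.1 hlw
    have hc : Commute l (l⁻¹ * w) := hcomm l hl _ ho
    have hsq : l⁻¹ * w * (l⁻¹ * w) ∈ L := by
      have : l * l * (l⁻¹ * w * (l⁻¹ * w)) = 1 := by
        calc l * l * (l⁻¹ * w * (l⁻¹ * w)) = l * (l * (l⁻¹ * w)) * (l⁻¹ * w) := by group
          _ = l * ((l⁻¹ * w) * l) * (l⁻¹ * w) := by rw [hc.eq]
          _ = (l * (l⁻¹ * w)) * (l * (l⁻¹ * w)) := by group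
          _ = 1 := by rw [mul_inv_cancel_left, h2]
      rw [eq_inv_of_mul_eq_one_right this]
      exact inv_mem (mul_mem hl hl)
    have := mul_mem hl (mem_of_sq_mem (Cfsg.Lib.ZStar.odd_orderOf_oddCore ho) hsq)
    rwa [mul_inv_cancel_left] at this
  -- the extension
  let ψ : ↥L →* E := (φ.comp L.subtype).codRestrict E fun x => hLE (mem_map_of_mem φ x.2)
  have hψ : Function.Surjective ψ := fun x => by
    obtain ⟨l, hl, e⟩ := hEL x.2
    exact ⟨⟨l, hl⟩, Subtype.ext e⟩
  have hψk : ∀ x : ↥L, ψ x = 1 ↔ (x : ↥N) ∈ O := fun x => by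
    rw [Subtype.ext_iff]
    exact QuotientGroup.eq_one_iff _
  have hker : Nat.card (eE.toMonoidHom.comp ψ).ker ≤ 2 :=
    psl_cover_ker_le hFodd hF3 hF9 hperfL _ (eE.surjective.comp hψ) fun x hx => by
      have hx' : (x : ↥N) ∈ O := (hψk x).1 (eE.injective ((show eE (ψ x) = 1 from hx).trans (map_one eE).symm))
      exact mem_center_iff.2 fun y => Subtype.ext (hcomm y y.2 x hx').eq
  have hLO1 : ∀ c : ↥N, c ∈ L → c ∈ O → c = 1 := by
    intro c hcL hcO
    have hck : (⟨c, hcL⟩ : L) ∈ (eE.toMonoidHom.comp ψ).ker := by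
      show eE (ψ ⟨c, hcL⟩) = 1
      rw [(hψk ⟨c, hcL⟩).2 hcO, map_one]
    have hd := Subgroup.orderOf_dvd_natCard _ hck
    rw [Subgroup.orderOf_mk] at hd
    obtain ⟨j, hj⟩ := Cfsg.Lib.ZStar.odd_orderOf_oddCore hcO
    have := Nat.le_of_dvd Nat.card_pos hd
    exact orderOf_eq_one_iff.1 (by omega)
  -- an element of the component cycling the four group
  have hnsL : ¬ Group.IsSolvable ↥(L.map N.subtype) := fun h => Cfsg.Lib.Core.IsComponent.not_solvable hLc
    (haveI := h
     solvable_of_solvable_injective (f := (L.equivMapOfInjective N.subtype N.subtype_injective).toMonoidHom)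
      (MulEquiv.injective _))
  obtain ⟨_, ⟨h, hh, rfl⟩, hht, hhu⟩ := hK.exists_cycle Φ.ht Φ.hu Φ.hne Φ.hc (L.map N.subtype)
    ⟨⟨Φ.t, htN⟩, hmapV ⟨Φ.t, htN⟩ Φ.t_mem, rfl⟩ ⟨⟨Φ.u, huN⟩, hmapV ⟨Φ.u, huN⟩ Φ.u_mem, rfl⟩ hnsL
  refine ⟨(h : G), hht, hhu, fun w hw => ?_⟩
  set w' : ↥N := ⟨w, hWN hw⟩
  set c := w' * h * w'⁻¹ * h⁻¹ with hc
  have hcL : c ∈ L := mul_mem (hLn.conj_mem h hh w') (inv_mem hh)
  have hfix : ∀ v ∈ Φ.V, (h : G)⁻¹ * v * (h : G) ∈ Φ.V → Commute v ((c : ↥N) : G) := by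
    intro v hv hv'
    refine (mul_inv_eq_iff_eq_mul.1 ?_).symm
    have e1 := Φ.commute_V_W hw hv'
    have e2 := Φ.commute_V_W hw hv
    show ((w' * h * w'⁻¹ * h⁻¹ : ↥N) : G) * v * ((w' * h * w'⁻¹ * h⁻¹ : ↥N) : G)⁻¹ = v
    simp only [Subgroup.coe_mul, InvMemClass.coe_inv, w']
    calc w * (h : G) * w⁻¹ * (h : G)⁻¹ * v * (w * (h : G) * w⁻¹ * (h : G)⁻¹)⁻¹
        = w * (h : G) * (w⁻¹ * ((h : G)⁻¹ * v * (h : G)) * w) * (h : G)⁻¹ * w⁻¹ := by group
      _ = w * v * w⁻¹ := by rw [mul_assoc w⁻¹, e1.eq, inv_mul_cancel_left]; group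
      _ = v := by rw [← e2.eq, mul_inv_cancel_right]
  let Ω : KFrame G := ⟨Φ.t, Φ.u, (h : G), Φ.ht, Φ.hu, Φ.hne, Φ.hc, hht, hhu⟩
  have hht' : (h : G)⁻¹ * Φ.t * (h : G) = Φ.t * Φ.u := Ω.gt'
  have hhu' : (h : G)⁻¹ * Φ.u * (h : G) = Φ.t := Ω.gu'
  have hct := hfix _ Φ.t_mem (hht' ▸ mul_mem Φ.t_mem Φ.u_mem)
  have hcu := hfix _ Φ.u_mem (hhu' ▸ Φ.t_mem)
  obtain ⟨v, hv, x, hx, hvx⟩ := hK.exists_mul_of_mem_C Φ (Φ.mem_C.2 hct)
  have hxu : Commute Φ.u x := by
    have h1 : Commute Φ.u v := Cfsg.Lib.Invol.klein_comm Φ.u_mem hv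
    rw [show x = v⁻¹ * ((c : ↥N) : G) by rw [hvx]; group]
    exact h1.inv_right.mul_right hcu
  have hxW : x ∈ Φ.W := ⟨hx, mem_centralizer_singleton_iff.2 hxu.eq.symm⟩
  set v' : ↥N := ⟨v, Φ.V_le htN huN hv⟩
  set x' : ↥N := ⟨x, hWN hxW⟩
  have hcv : c = v' * x' := Subtype.ext hvx
  have hx'L : x' ∈ L := by
    rw [show x' = v'⁻¹ * c by rw [hcv]; group]
    exact mul_mem (inv_mem (hmapV v' hv)) hcL
  have hxO : x' ∈ O := by
    refine (QuotientGroup.eq_one_iff _).1 ?_
    by_contra hne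
    set a : ↥N := ⟨Φ.t, htN⟩
    set b : ↥N := ⟨Φ.u, huN⟩
    have hodd : Odd (orderOf (φ x')) := by
      refine Odd.of_dvd_nat ?_ (orderOf_map_dvd φ x')
      rw [← orderOf_coe]
      exact Φ.odd_of_mem hx
    have hxx : φ x' * φ x' ≠ 1 := fun h1 => hne (by
      obtain ⟨k, hk⟩ := exists_pow_sq_eq hodd
      rw [h1, one_pow] at hk
      exact hk.symm)
    have hord : ∀ (y : ↥N), orderOf (y : G) = 2 → orderOf (φ y) = 2 := fun y hy => by
      rw [orderOf_coe] at hy
      refine Cfsg.Lib.Invol.orderOf_eq_two_of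
        (fun h1 => Cfsg.Lib.ZStar.notMem_oddCore hy ((QuotientGroup.eq_one_iff y).1 h1)) ?_
      rw [← map_mul, Cfsg.Lib.Invol.inv_mul_self hy, map_one]
    have hxE : φ x' ∈ E := hLE (mem_map_of_mem φ hx'L)
    have hoE : ∀ (y : ↥E), orderOf (eE y) = orderOf (y : ↥N ⧸ O) := fun y => by
      rw [MulEquiv.orderOf_eq, orderOf_coe]
    have hae : φ a ∈ E := hLE (mem_map_of_mem φ (hmapV a Φ.t_mem))
    have hbe : φ b ∈ E := hLE (mem_map_of_mem φ (hmapV b Φ.u_mem))
    have := psl_involution_unique (Nat.odd_iff.1 hFodd) (y := eE ⟨φ x', hxE⟩) (a := eE ⟨φ a, hae⟩)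
      (b := eE ⟨φ b, hbe⟩)
      (fun h1 => hxx (by
        rw [← map_mul, MulEquiv.map_eq_one_iff] at h1
        exact congrArg Subtype.val h1))
      (by rw [hoE]; exact hord a Φ.ht) (by rw [hoE]; exact hord b Φ.hu)
      ((show Commute (⟨φ a, hae⟩ : E) ⟨φ x', hxE⟩ from Subtype.ext
        ((show Commute a x' from Subtype.ext (Φ.commute_t hx).eq).map φ).eq).map eE.toMonoidHom)
      ((show Commute (⟨φ b, hbe⟩ : E) ⟨φ x', hxE⟩ from Subtype.ext
        ((show Commute b x' from Subtype.ext hxu.eq).map φ).eq).map eE.toMonoidHom)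
    have hab : φ a = φ b := congrArg Subtype.val (eE.injective this)
    refine Cfsg.Lib.ZStar.notMem_oddCore (z := a * b) ?_ ?_
    · rw [← orderOf_coe]; exact Φ.hv
    · refine (QuotientGroup.eq_one_iff _).1 ?_
      show φ (a * b) = 1
      rw [map_mul, hab, ← map_mul, show b * b = 1 from Subtype.ext Φ.uu, map_one]
  -- iterate
  have hwv : Commute (φ w') (φ v') :=
    (show Commute w' v' from Subtype.ext (Φ.commute_V_W hw hv).symm.eq).map φ
  have hstep : φ w' * φ h * (φ w')⁻¹ = φ v' * φ h := by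
    have e : φ c = φ v' := by
      rw [hcv, map_mul, show φ x' = 1 from (QuotientGroup.eq_one_iff _).2 hxO, mul_one]
    rw [← e, hc]
    simp only [map_mul, map_inv, inv_mul_cancel_right]
  have hiter : ∀ n : ℕ, φ w' ^ n * φ h * (φ w' ^ n)⁻¹ = φ v' ^ n * φ h := by
    intro n
    induction n with
    | zero => simp
    | succ n ih =>
      calc φ w' ^ (n + 1) * φ h * (φ w' ^ (n + 1))⁻¹
          = φ w' * (φ w' ^ n * φ h * (φ w' ^ n)⁻¹) * (φ w')⁻¹ := by
            rw [pow_succ', mul_inv_rev]; simp only [mul_assoc]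
        _ = (φ w' * φ v' ^ n * (φ w')⁻¹) * (φ w' * φ h * (φ w')⁻¹) := by rw [ih]; group
        _ = _ := by rw [(hwv.pow_right n).eq, mul_inv_cancel_right, hstep, ← mul_assoc, ← pow_succ]
  have hvO : v' ∈ O := by
    refine (QuotientGroup.eq_one_iff _).1 ?_
    show φ v' = 1
    have h1 := hiter (orderOf w')
    rw [← map_pow φ w', pow_orderOf_eq_one, map_one, one_mul, inv_one, mul_one] at h1
    have h2 : φ v' ^ orderOf w' = 1 := right_eq_mul.1 h1
    have h3 : φ v' ^ 2 = 1 := by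
      rw [← map_pow, pow_two, show v' * v' = 1 from Subtype.ext (Cfsg.Lib.Invol.klein_mul_self hv), map_one]
    have hwodd : Odd (orderOf w') := by rw [← orderOf_coe]; exact Φ.odd_of_mem (Φ.W_le_U hw)
    obtain ⟨m, hm⟩ := hwodd
    rwa [hm, pow_succ, pow_mul, h3, one_pow, one_mul] at h2
  have hc1 : c = 1 := hLO1 c hcL (hcv ▸ mul_mem hvO hxO)
  have h0 := congrArg (fun y : ↥N => (y : G)) hc1
  simp only [hc, Subgroup.coe_mul, InvMemClass.coe_inv, OneMemClass.coe_one, w'] at h0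
  exact (mul_inv_eq_iff_eq_mul.1 (mul_inv_eq_one.1 h0)).symm

end KMin

end Cfsg.Lib.GW
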