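import Mathlib

/-!
# Gorenstein–Walter, Sylow four groups: arithmetic of signed degrees
-/

set_option autoImplicit false

namespace Cfsg.Lib.GW.Klein

/-- Integers congruent to `1` modulo `4` other than `1` and `-3`. -/
def Signed (a : ℤ) : Prop := a % 4 = 1 ∧ a ≠ 1 ∧ a ≠ -3

theorem Signed.cases {a : ℤ} (h : Signed a) : 5 ≤ a ∨ a ≤ -7 := by
  obtain ⟨h1, h2, h3⟩ := h
  omega

theorem inv_pos_le {a : ℤ} {c : ℚ} (hc : 0 < c) (h : c ≤ (a : ℚ)) :
    0 < 1 / (a : ℚ) ∧ 1 / (a : ℚ) ≤ 1 / c :=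
  ⟨by have : (0 : ℚ) < a := lt_of_lt_of_le hc h; positivity, one_div_le_one_div_of_le hc h⟩

theorem inv_neg_ge {a : ℤ} {c : ℚ} (hc : 0 < c) (h : (a : ℚ) ≤ -c) :
    1 / (a : ℚ) < 0 ∧ -(1 / c) ≤ 1 / (a : ℚ) := by
  have ha : (a : ℚ) < 0 := by linarith
  refine ⟨by simp [one_div, ha], ?_⟩
  have h2 : 1 / (-(a : ℚ)) ≤ 1 / c := one_div_le_one_div_of_le hc (by linarith)
  rw [one_div_neg_eq_neg_one_div] at h2
  linarith

/-- The bound from above for a group without linear characters. -/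
theorem sum_le {a b c : ℤ} (ha : a % 4 = 1) (hb : b % 4 = 1) (hc : c % 4 = 1)
    (ha1 : a ≠ 1) (hb1 : b ≠ 1) (hc1 : c ≠ 1) (h : 1 + a + b + c = 0) :
    1 + 1 / (a : ℚ) + 1 / (b : ℚ) + 1 / (c : ℚ) ≤ 7 / 5 := by
  have key : ∀ x : ℤ, x % 4 = 1 → x ≠ 1 → (5 ≤ x ∧ 1 / (x : ℚ) ≤ 1 / 5) ∨ (x ≤ -3 ∧ 1 / (x : ℚ) < 0) := by
    intro x h1 h2
    rcases (show 5 ≤ x ∨ x ≤ -3 by omega) with p | p
    · exact Or.inl ⟨p, (inv_pos_le (c := 5) (by norm_num) (by exact_mod_cast p)).2⟩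
    · exact Or.inr ⟨p, (inv_neg_ge (c := 3) (by norm_num) (by exact_mod_cast p)).1⟩
  rcases key a ha ha1 with ⟨pa, qa⟩ | ⟨pa, qa⟩ <;> rcases key b hb hb1 with ⟨pb, qb⟩ | ⟨pb, qb⟩ <;>
    rcases key c hc hc1 with ⟨pc, qc⟩ | ⟨pc, qc⟩ <;> first | omega | linarith

/-- The bound from below. -/
theorem sum_ge {a b c : ℤ} (ha : Signed a) (hb : Signed b) (hc : Signed c) (h : 1 + a + b + c = 0) :
    5 / 7 ≤ 1 + 1 / (a : ℚ) + 1 / (b : ℚ) + 1 / (c : ℚ) := by
  have key : ∀ x : ℤ, Signed x → (5 ≤ x ∧ 0 < 1 / (x : ℚ)) ∨ (x ≤ -7 ∧ -(1 / 7) ≤ 1 / (x : ℚ)) := by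
    intro x hx
    rcases hx.cases with p | p
    · exact Or.inl ⟨p, (inv_pos_le (c := 5) (by norm_num) (by exact_mod_cast p)).1⟩
    · exact Or.inr ⟨p, (inv_neg_ge (c := 7) (by norm_num) (by exact_mod_cast p)).2⟩
  rcases key a ha with ⟨pa, qa⟩ | ⟨pa, qa⟩ <;> rcases key b hb with ⟨pb, qb⟩ | ⟨pb, qb⟩ <;>
    rcases key c hc with ⟨pc, qc⟩ | ⟨pc, qc⟩ <;> first | omega | linarith

theorem not_eight_ordered {p q r : ℤ} (hp : Signed p) (hq : Signed q) (hr : Signed r) (hpq : q ≤ p) (hqr : r ≤ q)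
    (h : 1 + p + q + r = 0) :
    1 + 1 / (p : ℚ) + 1 / (q : ℚ) + 1 / (r : ℚ) ≠ 8 / 7 ∧
      1 + 1 / (p : ℚ) + 1 / (q : ℚ) + 1 / (r : ℚ) ≠ 8 / 11 := by
  have hr7 : r ≤ -7 := by rcases hr.cases with h' | h' <;> omega
  have hp5 : 5 ≤ p := by rcases hp.cases with h' | h' <;> omega
  have p0 : (0 : ℚ) < p := by exact_mod_cast (show (0 : ℤ) < p by omega)
  rcases hq.cases with hq5 | hq7
  · -- one negative
    have hre : r = -(p + q + 1) := by omega
    subst hre
    push_cast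
    rw [one_div_neg_eq_neg_one_div]
    have q0 : (0 : ℚ) < q := by exact_mod_cast (show (0 : ℤ) < q by omega)
    have hS : (0 : ℚ) < (p : ℚ) + q + 1 := by positivity
    have hlt : 1 / ((p : ℚ) + q + 1) < 1 / (q : ℚ) := one_div_lt_one_div_of_lt q0 (by linarith)
    have hp1 : 0 < 1 / (p : ℚ) := by positivity
    refine ⟨fun he => ?_, fun he => by linarith⟩
    have key : 7 * (((p : ℚ) + q) * (p + q + 1) - p * q) = p * q * (p + q + 1) := by
      field_simp at he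
      linear_combination he
    rcases (show q = 5 ∨ q = 9 ∨ 13 ≤ q by obtain ⟨h1, -, -⟩ := hq; omega) with hc | hc | hc
    · subst hc
      have hlt2 : 1 / ((p : ℚ) + (5 : ℤ) + 1) < 1 / (p : ℚ) :=
        one_div_lt_one_div_of_lt p0 (by push_cast; linarith)
      push_cast at hlt2 he
      norm_num at hlt2 he
      linarith
    · subst hc
      push_cast at key
      have hk : p * (p + 10) = 315 := by
        have : (p : ℚ) * (p + 10) = 315 := by linarith
        exact_mod_cast this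
      obtain ⟨h1, -, -⟩ := hp
      rcases (show p ≤ 9 ∨ p = 13 ∨ 17 ≤ p by omega) with h' | h' | h'
      · nlinarith
      · subst h'; norm_num at hk
      · nlinarith
    · have q13 : (13 : ℚ) ≤ q := by exact_mod_cast hc
      have qp : (q : ℚ) ≤ p := by exact_mod_cast hpq
      nlinarith [mul_nonneg (sub_nonneg.2 qp) (sub_nonneg.2 q13), sq_nonneg ((p : ℚ) - q),
        mul_le_mul q13 q13 (by norm_num) (le_of_lt q0), mul_pos p0 q0]
  · -- two negatives
    have hpe : p = -(q + r + 1) := by omega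
    subst hpe
    push_cast at p0 ⊢
    have q7 : (q : ℚ) ≤ -7 := by exact_mod_cast hq7
    have r7 : (r : ℚ) ≤ -7 := by exact_mod_cast hr7
    refine ⟨fun he => ?_, fun he => ?_⟩
    · have h1 : 1 / -((q : ℚ) + r + 1) < -(1 / (q : ℚ)) := by
        rw [← one_div_neg_eq_neg_one_div]
        exact one_div_lt_one_div_of_lt (by linarith) (by linarith)
      have h2 := (inv_neg_ge (a := r) (c := 7) (by norm_num) r7).1
      linarith
    · have hqne : (q : ℚ) ≠ 0 := by linarith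
      have hrne : (r : ℚ) ≠ 0 := by linarith
      have hne : (q : ℚ) + r + 1 ≠ 0 := by linarith
      field_simp at he
      nlinarith [mul_nonneg (neg_nonneg.2 (by linarith : (q : ℚ) + 7 ≤ 0)) (neg_nonneg.2 (by linarith : (r : ℚ) + 7 ≤ 0)),
        sq_nonneg ((q : ℚ) - r), mul_le_mul (show (7:ℚ) ≤ -q by linarith) (show (7:ℚ) ≤ -r by linarith) (by norm_num) (by linarith)]

/-- The sum is neither `8/7` nor `8/11`. -/
theorem not_eight {a b c : ℤ} (ha : Signed a) (hb : Signed b) (hc : Signed c) (h : 1 + a + b + c = 0) :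
    1 + 1 / (a : ℚ) + 1 / (b : ℚ) + 1 / (c : ℚ) ≠ 8 / 7 ∧
      1 + 1 / (a : ℚ) + 1 / (b : ℚ) + 1 / (c : ℚ) ≠ 8 / 11 := by
  have go : ∀ p q r : ℤ, Signed p → Signed q → Signed r → q ≤ p → r ≤ q → 1 + p + q + r = 0 →
      1 / (p : ℚ) + 1 / (q : ℚ) + 1 / (r : ℚ) = 1 / (a : ℚ) + 1 / (b : ℚ) + 1 / (c : ℚ) →
      1 + 1 / (a : ℚ) + 1 / (b : ℚ) + 1 / (c : ℚ) ≠ 8 / 7 ∧
        1 + 1 / (a : ℚ) + 1 / (b : ℚ) + 1 / (c : ℚ) ≠ 8 / 11 := by
    intro p q r hp hq hr h1 h2 h3 h4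
    obtain ⟨x, y⟩ := not_eight_ordered hp hq hr h1 h2 h3
    exact ⟨fun e => x (by linarith), fun e => y (by linarith)⟩
  rcases le_total b a with p | p <;> rcases le_total c b with q | q <;> rcases le_total c a with r | r
  all_goals first
    | exact go a b c ha hb hc (by omega) (by omega) (by omega) (by ring)
    | exact go a c b ha hc hb (by omega) (by omega) (by omega) (by ring)
    | exact go b a c hb ha hc (by omega) (by omega) (by omega) (by ring)
    | exact go b c a hb hc ha (by omega) (by omega) (by omega) (by ring)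
    | exact go c a b hc ha hb (by omega) (by omega) (by omega) (by ring)
    | exact go c b a hc hb ha (by omega) (by omega) (by omega) (by ring)

/-- Four signed degrees with sum zero. -/
theorem four_lt {a : Fin 4 → ℤ} (h : ∀ i, a i % 4 = 1) (h1 : ∀ i, a i ≠ 1) (hs : ∑ i, a i = 0) :
    ∑ i, 1 / (a i : ℚ) ≤ 3 / 5 := by
  obtain ⟨j, hj⟩ : ∃ j, a j ≤ -3 := by
    by_contra hno
    push Not at hno
    have h5 : ∀ i, 5 ≤ a i := fun i => by have := h i; have := h1 i; have := hno i; omega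
    rw [Fin.sum_univ_four] at hs
    have := h5 0; have := h5 1; have := h5 2; have := h5 3
    omega
  rw [← Finset.add_sum_erase _ _ (Finset.mem_univ j)]
  have hneg := (inv_neg_ge (a := a j) (c := 3) (by norm_num) (by exact_mod_cast hj)).1
  have hle : ∑ i ∈ Finset.univ.erase j, 1 / (a i : ℚ) ≤ ∑ i ∈ (Finset.univ.erase j), (1 / 5 : ℚ) := by
    refine Finset.sum_le_sum fun i _ => ?_
    have := h i; have := h1 i
    rcases (show 5 ≤ a i ∨ a i ≤ -3 by omega) with p | p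
    · exact (inv_pos_le (c := 5) (by norm_num) (by exact_mod_cast p)).2
    · exact ((inv_neg_ge (a := a i) (c := 3) (by norm_num) (by exact_mod_cast p)).1.le).trans (by norm_num)
  rw [Finset.sum_const, Finset.card_erase_of_mem (Finset.mem_univ j), Finset.card_univ, Fintype.card_fin] at hle
  norm_num at hle ⊢
  rw [one_div] at hneg
  linarith

end Cfsg.Lib.GW.Klein
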