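import Cfsg.Agent.Lib.Char.Orthogonality
import Cfsg.Agent.Lib.Char.Formulas

/-!
# Class functions supported on special elements of a subgroup

If elements of a set `S ⊆ C` are only conjugate through elements of `C`, then the coefficients of a
function on `S` in the characters of the group form an isometry and reproduce the function on `S`.
-/

set_option autoImplicit false
set_option linter.unusedSectionVars false

namespace Cfsg.Lib.GW.Klein

open Cfsg
open scoped ComplexConjugate

universe u

variable {G : Type u} [Group G] [Fintype G]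

/-- `S` is a special set of `C`. -/
structure Special (C : Subgroup G) (S : Finset G) : Prop where
  sub : ∀ c ∈ S, c ∈ C
  closed : ∀ k ∈ C, ∀ c ∈ S, k * c * k⁻¹ ∈ S
  ti : ∀ c ∈ S, ∀ x : G, x * c * x⁻¹ ∈ S → x ∈ C

/-- The coefficient at `χ` of the function `β` on `S`. -/
noncomputable def coef (C : Subgroup G) (S : Finset G) (β : G → ℂ) (χ : IrrCharacter G) : ℂ :=
  (Nat.card C : ℂ)⁻¹ * ∑ c ∈ S, (χ : G → ℂ) c * conj (β c)

variable {C : Subgroup G} {S : Finset G} (hS : Special C S)
include hS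

open Classical in
/-- The sum over the conjugates of an element of `S` is a sum over `C`. -/
theorem sum_conj_ite {c : G} (hc : c ∈ S) (f : G → ℂ) :
    ∑ d ∈ S, (if IsConj c d then (Nat.card (Subgroup.centralizer ({c} : Set G)) : ℂ) else 0) * f d =
      ∑ k ∈ Finset.univ.filter (fun k : G => k ∈ C), f (k * c * k⁻¹) := by
  rw [← Finset.sum_fiberwise_of_maps_to (s := Finset.univ.filter fun k : G => k ∈ C) (t := S)
    (g := fun k => k * c * k⁻¹) (fun k hk => hS.closed k (Finset.mem_filter.1 hk).2 c hc)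
    (fun k => f (k * c * k⁻¹))]
  refine Finset.sum_congr rfl fun d hd => ?_
  rw [Finset.sum_congr rfl (g := fun _ => f d) fun k hk => by rw [(Finset.mem_filter.1 hk).2],
    Finset.sum_const, nsmul_eq_mul]
  congr 1
  split_ifs with h
  · obtain ⟨x, hx⟩ := isConj_iff.1 h
    have hxC : x ∈ C := hS.ti c hc x (hx ▸ hd)
    rw [← Nat.card_eq_finsetCard, Nat.cast_inj]
    exact Nat.card_congr
      { toFun := fun z => ⟨x * z, Finset.mem_filter.2 ⟨Finset.mem_filter.2 ⟨Finset.mem_univ _,
            mul_mem hxC (hS.ti c hc z (by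
              rw [(Subgroup.mem_centralizer_singleton_iff.1 z.2), mul_inv_cancel_right]; exact hc))⟩, by
          rw [← hx, show x * (z : G) * c * (x * (z : G))⁻¹ = x * ((z : G) * c * (z : G)⁻¹) * x⁻¹ by group,
            Subgroup.mem_centralizer_singleton_iff.1 z.2, mul_inv_cancel_right]⟩⟩
        invFun := fun k => ⟨x⁻¹ * k, Subgroup.mem_centralizer_singleton_iff.2 (by
          have h2 := ((Finset.mem_filter.1 k.2).2).trans hx.symm
          calc x⁻¹ * (k : G) * c = x⁻¹ * ((k : G) * c * (k : G)⁻¹) * k := by group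
            _ = c * (x⁻¹ * k) := by rw [h2]; group)⟩
        left_inv := fun z => Subtype.ext (inv_mul_cancel_left x (z : G))
        right_inv := fun k => Subtype.ext (mul_inv_cancel_left x (k : G)) }
  · rw [Finset.card_eq_zero.2 (Finset.filter_eq_empty_iff.2 fun k _ e => h (isConj_iff.2 ⟨k, e⟩)),
      Nat.cast_zero]

/-- The isometry. -/
theorem gram {β β' : G → ℂ} (hβ' : ∀ k ∈ C, ∀ c ∈ S, β' (k * c * k⁻¹) = β' c) :
    ∑ χ : IrrCharacter G, coef C S β χ * conj (coef C S β' χ) =
      (Nat.card C : ℂ)⁻¹ * ∑ c ∈ S, β' c * conj (β c) := by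
  classical
  have hC : (Nat.card C : ℂ) ≠ 0 := Nat.cast_ne_zero.2 Nat.card_pos.ne'
  simp only [coef, map_mul, map_sum, map_inv₀, map_natCast, Complex.conj_conj]
  rw [Finset.sum_congr rfl (g := fun χ : IrrCharacter G => ∑ c ∈ S, ∑ d ∈ S,
      ((Nat.card C : ℂ)⁻¹ * (Nat.card C : ℂ)⁻¹) * (conj (β c) *
        (((χ : G → ℂ) c * conj ((χ : G → ℂ) d)) * β' d))) fun χ _ => by
    rw [mul_mul_mul_comm, Finset.sum_mul_sum, Finset.mul_sum]
    refine Finset.sum_congr rfl fun c _ => ?_
    rw [Finset.mul_sum]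
    exact Finset.sum_congr rfl fun d _ => by ring]
  rw [Finset.sum_comm, Finset.mul_sum]
  refine Finset.sum_congr rfl fun c hc => ?_
  rw [Finset.sum_comm]
  simp only [← Finset.mul_sum, ← Finset.sum_mul, Char.column_orthogonality]
  rw [sum_conj_ite hS hc β', Finset.sum_congr rfl (g := fun _ => β' c) fun k hk =>
    hβ' k (Finset.mem_filter.1 hk).2 c hc, Finset.sum_const, nsmul_eq_mul]
  rw [show (Finset.univ.filter fun k : G => k ∈ C).card = Nat.card C by
    rw [Nat.card_eq_fintype_card, Fintype.card_subtype]]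
  field_simp

/-- The function is recovered on `S`. -/
theorem value {β : G → ℂ} (hβ : ∀ k ∈ C, ∀ c ∈ S, β (k * c * k⁻¹) = β c) {g : G} (hg : g ∈ S) :
    ∑ χ : IrrCharacter G, coef C S β χ * conj ((χ : G → ℂ) g) = conj (β g) := by
  classical
  have hC : (Nat.card C : ℂ) ≠ 0 := Nat.cast_ne_zero.2 Nat.card_pos.ne'
  apply (starRingEnd ℂ).injective
  simp only [coef, map_mul, map_sum, map_inv₀, map_natCast, Complex.conj_conj]
  rw [Finset.sum_congr rfl (g := fun χ : IrrCharacter G => ∑ c ∈ S,
      (Nat.card C : ℂ)⁻¹ * (((χ : G → ℂ) g * conj ((χ : G → ℂ) c)) * β c)) fun χ _ => by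
    rw [mul_assoc, Finset.sum_mul, Finset.mul_sum]
    exact Finset.sum_congr rfl fun c _ => by ring]
  rw [Finset.sum_comm]
  simp only [← Finset.mul_sum, ← Finset.sum_mul, Char.column_orthogonality]
  rw [sum_conj_ite hS hg β, Finset.sum_congr rfl (g := fun _ => β g) fun k hk =>
    hβ k (Finset.mem_filter.1 hk).2 g hg, Finset.sum_const, nsmul_eq_mul]
  rw [show (Finset.univ.filter fun k : G => k ∈ C).card = Nat.card C by
    rw [Nat.card_eq_fintype_card, Fintype.card_subtype]]
  field_simp

omit hS in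
/-- It vanishes away from the conjugates of `S`. -/
theorem value_eq_zero (β : G → ℂ) {g : G} (hg : ∀ c ∈ S, ¬ IsConj c g) :
    ∑ χ : IrrCharacter G, coef C S β χ * conj ((χ : G → ℂ) g) = 0 := by
  classical
  simp only [coef, mul_assoc, Finset.sum_mul, Finset.mul_sum]
  rw [Finset.sum_comm]
  refine Finset.sum_eq_zero fun c hc => ?_
  rw [Finset.sum_congr rfl (g := fun χ : IrrCharacter G => ((Nat.card C : ℂ)⁻¹ * conj (β c)) *
    ((χ : G → ℂ) c * conj ((χ : G → ℂ) g))) fun χ _ => by ring]
  rw [← Finset.mul_sum, Char.column_orthogonality, if_neg (hg c hc), mul_zero]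

omit hS in
/-- The orthogonality to the degrees. -/
theorem sum_degree (β : G → ℂ) (h1 : (1 : G) ∉ S) :
    ∑ χ : IrrCharacter G, coef C S β χ * (χ : G → ℂ) 1 = 0 := by
  have h := value_eq_zero (C := C) β (g := (1 : G)) fun c hc e => h1 (by
    rw [← isConj_one_left.1 e]; exact hc)
  refine Eq.trans (Finset.sum_congr rfl fun χ _ => ?_) h
  obtain ⟨n, -, hn⟩ := χ.2.exists_degree
  rw [hn, map_natCast]

end Cfsg.Lib.GW.Klein
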