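import Cfsg.Agent.Lib.GW.Klein.Frame
import Cfsg.Agent.Lib.GW.AlmostSimple
import Cfsg.Agent.Lib.GW.Shape

/-!
# Gorenstein–Walter, Sylow four groups: proper subgroups with a component

Modulo its odd core such a subgroup has a normal `PSL₂(q)` containing the four group, and elements of
tori belonging to different involutions do not commute.
-/

set_option autoImplicit false
set_option linter.style.haveILetI false

namespace Cfsg.Lib.GW

open Subgroup

universe u

namespace KMin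

variable {G : Type u} [Group G] [Finite G] (hK : KMin G) (Φ : KFrame G)
include hK

/-- The facts about the image of `N` modulo its odd core. -/
theorem quot_facts (N : Subgroup G) (hN : N ≠ ⊤) (htN : Φ.t ∈ N) (huN : Φ.u ∈ N)
    (hL : Cfsg.layer ↥N ≠ ⊥) :
    ∃ E : Subgroup (↥N ⧸ Cfsg.oddCore ↥N), E.Normal ∧
      (∀ w : ↥N, (w : G) ∈ Φ.V → QuotientGroup.mk' (Cfsg.oddCore ↥N) w ∈ E) ∧
      (∀ c ∈ E, c * c ≠ 1 → ∀ a ∈ E, ∀ b ∈ E, orderOf a = 2 → orderOf b = 2 →
        Commute a c → Commute b c → a = b) ∧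
      (∀ x ∈ Cfsg.oddCore ↥N, ∀ w ∈ Φ.V, Commute w (x : G)) := by
  haveI : Fact (Nat.Prime 2) := ⟨Nat.prime_two⟩
  set O := Cfsg.oddCore ↥N with hOdef
  obtain ⟨L, hLc⟩ : ∃ L : Subgroup ↥N, Cfsg.IsComponent L := by
    by_contra h
    push Not at h
    exact hL (Cfsg.Lib.Core.layer_eq_bot_iff.2 h)
  have hOs : Group.IsSolvable ↥O := Cfsg.Agent.S0205.result Cfsg.Lib.ZStar.odd_card_oddCore
  have hns : ¬ Group.IsSolvable ↥N := fun h =>
    haveI := h
    Cfsg.Lib.Core.component_not_le_solvable hLc (H := ⊤) inferInstance le_top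
  have hDN : TwoCycDih ↥N := hK.min.twoCycDih.subgroup N
  have hlt : Nat.card (↥N ⧸ O) < Nat.card G :=
    lt_of_le_of_lt (Nat.card_le_card_of_surjective _ (QuotientGroup.mk_surjective (s := O)))
      (Cfsg.Lib.Core.lt_card_of_ne_top hN)
  have hsolv : Group.IsSolvable (↥N ⧸ O) → False := fun h => by
    haveI := h
    haveI := hOs
    exact hns (Group.isSolvable_of_ker_le_range O.subtype (QuotientGroup.mk' O) (by simp))
  have h8 : ¬ 8 ∣ Nat.card (↥N ⧸ O) := fun h => hK.not_eight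
    ((h.trans (card_quotient_dvd_card O)).trans (card_subgroup_dvd_card N))
  rcases shape (hDN.quotient O) (gwSections_of_below hK.min.below (hDN.quotient O) hlt)
    (Cfsg.Lib.Core.pPrimeCore_quotient_eq_bot (p := 2)) with
    h2 | ⟨W, -, -, -, hc⟩ | ⟨E, hEn, hEs, hna, hgw, hED, -, hmin, -⟩
  · haveI := h2.isNilpotent
    exact (hsolv inferInstance).elim
  · exact (hsolv (Cfsg.Lib.Recog.Icosa.solvable_of_lt_sixty _ _ rfl (by rcases hc with h | h <;> omega))).elim
  haveI := hEn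
  have h4 : 4 ∣ Nat.card ↥E := by
    obtain ⟨S⟩ : Nonempty (Sylow 2 ↥E) := inferInstance
    obtain ⟨n, hn, ⟨e⟩⟩ := hED S
    haveI : NeZero n := ⟨by omega⟩
    have hcard : Nat.card (S : Subgroup ↥E) = 2 * n :=
      (Nat.card_congr e.toEquiv).trans DihedralGroup.nat_card
    obtain ⟨k, hk⟩ := S.2.exists_card_eq
    have hk2 : 2 ≤ k := by
      by_contra h
      have := Nat.pow_le_pow_right two_pos (show k ≤ 1 by omega)
      omega
    exact ((pow_dvd_pow 2 hk2).trans hk.symm.dvd).trans (card_subgroup_dvd_card _)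
  have hidx : Odd E.index := by
    rw [← Nat.not_even_iff_odd, even_iff_two_dvd]
    intro h
    exact h8 ((mul_dvd_mul h4 h).trans E.card_mul_index.dvd)
  have hVE : ∀ w : ↥N, (w : G) ∈ Φ.V → QuotientGroup.mk' O w ∈ E := by
    intro w hw
    obtain ⟨j, hj⟩ := hidx
    haveI := Φ.klein
    have h2 : w ^ 2 = 1 := Subtype.ext (by
      rw [SubmonoidClass.coe_pow, pow_two, OneMemClass.coe_one]; exact Cfsg.Lib.Invol.klein_mul_self hw)
    have h := E.pow_index_mem (QuotientGroup.mk' O w)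
    rwa [hj, pow_succ, pow_mul, ← map_pow, h2, map_one, one_pow, one_mul] at h
  refine ⟨E, hEn, hVE, ?_, ?_⟩
  · rcases hgw with ⟨F, i, j, hodd, h3, ⟨e⟩⟩ | ⟨⟨e⟩⟩
    · intro c hc hcc a ha b hb hoa hob hac hbc
      have ho : ∀ (z) (hz : z ∈ E), orderOf (e ⟨z, hz⟩) = orderOf z := fun z hz => by
        rw [MulEquiv.orderOf_eq, Subgroup.orderOf_mk]
      have h := psl_involution_unique (Nat.odd_iff.1 hodd) (y := e ⟨c, hc⟩) (a := e ⟨a, ha⟩) (b := e ⟨b, hb⟩)
        (fun h => hcc (by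
          rw [← map_mul, MulEquiv.map_eq_one_iff] at h
          exact congrArg Subtype.val h))
        (by rw [ho, hoa]) (by rw [ho, hob])
        ((show Commute (⟨a, ha⟩ : E) ⟨c, hc⟩ from Subtype.ext hac.eq).map e.toMonoidHom)
        ((show Commute (⟨b, hb⟩ : E) ⟨c, hc⟩ from Subtype.ext hbc.eq).map e.toMonoidHom)
      exact congrArg Subtype.val (e.injective h)
    · exfalso
      refine h8 (dvd_trans ?_ (card_subgroup_dvd_card E))
      rw [Nat.card_congr e.toEquiv, Nat.card_eq_fintype_card]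
      have h := two_mul_card_alternatingGroup (α := Fin 7)
      rw [Fintype.card_perm, Fintype.card_fin] at h
      have h7 : Nat.factorial 7 = 5040 := rfl
      omega
  · haveI hLn : L.Normal := Cfsg.Lib.Core.normal_iff_map_conj.2 fun g =>
      component_unique hDN (Cfsg.Lib.Core.IsComponent.map_conj hLc g) hLc
    have hLO : ⁅L, O⁆ = ⊥ := Cfsg.Lib.Core.component_commute_solvable hLc hOs le_normalizer_of_normal
    have himne : L.map (QuotientGroup.mk' O) ≠ ⊥ := fun h => by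
      rw [Subgroup.map_eq_bot_iff, QuotientGroup.ker_mk'] at h
      exact Cfsg.Lib.Core.component_not_le_solvable hLc hOs h
    have hEL : E ≤ L.map (QuotientGroup.mk' O) :=
      hmin _ (Subgroup.Normal.map hLn _ (QuotientGroup.mk'_surjective O)) himne
    have hcomm : ∀ l ∈ L, ∀ o ∈ O, Commute l o := fun l hl o ho =>
      (mem_centralizer_iff.1 (commutator_eq_bot_iff_le_centralizer.1 hLO hl) o ho).symm
    have hwL : ∀ w : ↥N, (w : G) ∈ Φ.V → w ∈ L := by
      intro w hw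
      obtain ⟨l, hl, hlw⟩ := hEL (hVE w hw)
      haveI := Φ.klein
      have ho : l⁻¹ * w ∈ O := QuotientGroup.eq.1 hlw
      have h2 : w * w = 1 := Subtype.ext (Cfsg.Lib.Invol.klein_mul_self hw)
      have hc : Commute l (l⁻¹ * w) := hcomm l hl _ ho
      have hsq : l⁻¹ * w * (l⁻¹ * w) ∈ L := by
        have : l * l * (l⁻¹ * w * (l⁻¹ * w)) = 1 := by
          calc l * l * (l⁻¹ * w * (l⁻¹ * w)) = l * (l * (l⁻¹ * w)) * (l⁻¹ * w) := by group
            _ = l * ((l⁻¹ * w) * l) * (l⁻¹ * w) := by rw [hc.eq]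
            _ = (l * (l⁻¹ * w)) * (l * (l⁻¹ * w)) := by group
            _ = 1 := by rw [mul_inv_cancel_left, h2]
        rw [eq_inv_of_mul_eq_one_right this]
        exact inv_mem (mul_mem hl hl)
      have := mul_mem hl (mem_of_sq_mem (Cfsg.Lib.ZStar.odd_orderOf_oddCore ho) hsq)
      rwa [mul_inv_cancel_left] at this
    intro x hx w hw
    have hwN : w ∈ N := Φ.V_le htN huN hw
    exact congrArg Subtype.val (hcomm ⟨w, hwN⟩ (hwL _ hw) x hx).eq

/-- An element of odd order fixed by `s` and not centralizing the four group commutes with no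
nontrivial element of odd order inverted by `s`. -/
theorem torus (N : Subgroup G) (hN : N ≠ ⊤) (htN : Φ.t ∈ N) (huN : Φ.u ∈ N) (hL : Cfsg.layer ↥N ≠ ⊥)
    {a x s r : G} (ha : a ∈ N) (hx : x ∈ N) (hao : Odd (orderOf a)) (hxo : Odd (orderOf x)) (ha1 : a ≠ 1)
    (hs : s ∈ Φ.V) (hs1 : s ≠ 1) (hr : r ∈ Φ.V) (has : Commute s a) (har : r * a * r = a⁻¹)
    (hax : Commute a x) (hxs : s * x * s = x⁻¹) : x = 1 := by
  haveI := Φ.klein
  obtain ⟨E, hE, hVE, huniq, hO⟩ := hK.quot_facts Φ N hN htN huN hL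
  set φ := QuotientGroup.mk' (Cfsg.oddCore ↥N) with hφ
  have hVN : Φ.V ≤ N := Φ.V_le htN huN
  set a' : ↥N := ⟨a, ha⟩
  set x' : ↥N := ⟨x, hx⟩
  set s' : ↥N := ⟨s, hVN hs⟩
  set r' : ↥N := ⟨r, hVN hr⟩
  have hinv : r * r = 1 := Cfsg.Lib.Invol.klein_mul_self hr
  have hss : s * s = 1 := Cfsg.Lib.Invol.klein_mul_self hs
  have hφodd : ∀ y : ↥N, Odd (orderOf (y : G)) → Odd (orderOf (φ y)) := fun y hy => by
    rw [orderOf_coe] at hy
    exact hy.of_dvd_nat (orderOf_map_dvd φ y)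
  have haE : φ a' ∈ E := by
    refine mem_of_sq_mem (hφodd a' hao) ?_
    have h : a' * a' = (a' * r' * a'⁻¹) * r' := by
      apply Subtype.ext
      show a * a = a * r * a⁻¹ * r
      have h1 := inv_inverted hinv har
      rw [mul_assoc (a * r), mul_assoc a r, ← mul_assoc r, h1]
    rw [← map_mul, h, map_mul, map_mul, map_mul, map_inv]
    exact mul_mem (hE.conj_mem _ (hVE r' hr) _) (hVE r' hr)
  have haa : φ a' * φ a' ≠ 1 := by
    intro h
    obtain ⟨k, hk⟩ := exists_pow_sq_eq (hφodd a' hao)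
    rw [h, one_pow] at hk
    have hmem : a' ∈ Cfsg.oddCore ↥N := (QuotientGroup.eq_one_iff a').1 hk.symm
    exact ha1 (eq_one_of_fixed_inverted hinv (hO a' hmem r hr) har hao)
  have hoS : orderOf (φ s') = 2 := by
    refine Cfsg.Lib.Invol.orderOf_eq_two_of (fun h => ?_) ?_
    · refine Cfsg.Lib.ZStar.notMem_oddCore (z := s') ?_ ((QuotientGroup.eq_one_iff s').1 h)
      rw [← orderOf_coe]
      exact Cfsg.Lib.Invol.orderOf_eq_two_of hs1 hss
    · rw [← map_mul, show s' * s' = 1 from Subtype.ext hss, map_one]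
  have hsc : Commute (φ s') (φ a') := (show Commute s' a' from Subtype.ext has.eq).map φ
  have hxc : Commute (φ x') (φ a') := (show Commute x' a' from Subtype.ext hax.symm.eq).map φ
  have heq : φ x' * φ s' * (φ x')⁻¹ = φ s' := by
    refine huniq _ haE haa _ (hE.conj_mem _ (hVE s' hs) _) _ (hVE s' hs) ?_ hoS ?_ hsc
    · rw [Cfsg.Lib.Invol.orderOf_conj_eq, hoS]
    · exact (hxc.mul_left hsc).mul_left hxc.inv_left
  have hxE : φ x' = 1 := by
    refine eq_one_of_fixed_inverted (t := φ s') ?_ (mul_inv_eq_iff_eq_mul.1 heq).symm ?_ (hφodd x' hxo)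
    · rw [← map_mul, show s' * s' = 1 from Subtype.ext hss, map_one]
    · rw [← map_mul, ← map_mul, ← map_inv, show s' * x' * s' = x'⁻¹ from Subtype.ext hxs]
  exact eq_one_of_fixed_inverted hss (hO x' ((QuotientGroup.eq_one_iff x').1 hxE) s hs) hxs hxo

/-- In a `V`-invariant subgroup of prime power order the elements inverted by `t` lie on one side. -/
theorem one_sided (N : Subgroup G) (hN : N ≠ ⊤) (htN : Φ.t ∈ N) (huN : Φ.u ∈ N) (hL : Cfsg.layer ↥N ≠ ⊥)
    {p : ℕ} [Fact p.Prime] (hp : p ≠ 2) {A : Subgroup G} (hAN : A ≤ N) (hA : IsPGroup p A)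
    (htA : ∀ z ∈ A, Φ.t * z * Φ.t ∈ A) (huA : ∀ z ∈ A, Φ.u * z * Φ.u ∈ A)
    {x y : G} (hx : x ∈ A) (hy : y ∈ A) (hxu : Commute Φ.u x) (hxt : Φ.t * x * Φ.t = x⁻¹)
    (hyv : Commute (Φ.t * Φ.u) y) (hyt : Φ.t * y * Φ.t = y⁻¹) (hx1 : x ≠ 1) : y = 1 := by
  obtain ⟨E, hE, hVE, huniq, hO⟩ := hK.quot_facts Φ N hN htN huN hL
  set φ := QuotientGroup.mk' (Cfsg.oddCore ↥N) with hφ
  let T : ↥N := ⟨Φ.t, htN⟩
  let U : ↥N := ⟨Φ.u, huN⟩
  have hTT : T * T = 1 := Subtype.ext Φ.tt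
  have hUU : U * U = 1 := Subtype.ext Φ.uu
  have hTU : Commute T U := Subtype.ext Φ.hc.eq
  set I : Set ↥N := {z | (z : G) ∈ A ∧ T * z * T = z⁻¹} with hI
  set B := closure (φ '' I) with hB
  have hBE : B ≤ E := (closure_le E).2 (by
    rintro _ ⟨z, ⟨hzA, hz⟩, rfl⟩
    refine mem_of_sq_mem ?_ ?_
    · refine Odd.of_dvd_nat ?_ (orderOf_map_dvd φ z)
      rw [← orderOf_coe]
      obtain ⟨k, hk⟩ := IsPGroup.iff_orderOf.1 hA ⟨(z : G), hzA⟩
      rw [← orderOf_coe] at hk
      rw [hk]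
      exact ((Fact.out : p.Prime).odd_of_ne_two hp).pow
    · have h : z * z = (z * T * z⁻¹) * T := by
        rw [mul_assoc (z * T), mul_assoc z T, ← mul_assoc T, inv_inverted hTT hz]
      rw [← map_mul, h, map_mul, map_mul, map_mul, map_inv]
      exact mul_mem (hE.conj_mem _ (hVE T Φ.t_mem) _) (hVE T Φ.t_mem))
  have hBA : B ≤ (A.subgroupOf N).map φ := (closure_le _).2 (by
    rintro _ ⟨z, ⟨hzA, -⟩, rfl⟩
    exact mem_map_of_mem φ (mem_subgroupOf.2 hzA))
  have hBp : IsPGroup p B := ((hA.comap_of_injective N.subtype N.subtype_injective).map φ).to_le hBA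
  have hodd : ∀ c ∈ B, Odd (orderOf c) := fun c hc => by
    obtain ⟨k, hk⟩ := IsPGroup.iff_orderOf.1 hBp ⟨c, hc⟩
    rw [← orderOf_coe] at hk
    rw [hk]
    exact ((Fact.out : p.Prime).odd_of_ne_two hp).pow
  have hxI : φ ⟨x, hAN hx⟩ ∈ B := subset_closure ⟨_, ⟨hx, Subtype.ext hxt⟩, rfl⟩
  have hyI : φ ⟨y, hAN hy⟩ ∈ B := subset_closure ⟨_, ⟨hy, Subtype.ext hyt⟩, rfl⟩
  have hAodd : ∀ z ∈ A, Odd (orderOf z) := fun z hz => by
    obtain ⟨k, hk⟩ := IsPGroup.iff_orderOf.1 hA ⟨z, hz⟩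
    rw [← orderOf_coe] at hk
    rw [hk]
    exact ((Fact.out : p.Prime).odd_of_ne_two hp).pow
  have hback : ∀ z : ↥N, (z : G) ∈ A → Φ.t * (z : G) * Φ.t = (z : G)⁻¹ → φ z = 1 → (z : G) = 1 :=
    fun z hzA hz h => eq_one_of_fixed_inverted Φ.tt
      (hO z ((QuotientGroup.eq_one_iff z).1 h) _ Φ.t_mem) hz (hAodd _ hzA)
  -- `T` and `U` normalize `B`
  have hnorm : ∀ W : ↥N, W * W = 1 → Commute T W → (∀ z ∈ A, (W : G) * z * (W : G) ∈ A) →
      ∀ c ∈ B, φ W * c * φ W ∈ B := by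
    intro W hW hTW hWA
    have hcl : B ≤ B.comap (MulAut.conj (φ W)).toMonoidHom := (closure_le _).2 (by
      rintro _ ⟨z, ⟨hzA, hz⟩, rfl⟩
      show φ W * φ z * (φ W)⁻¹ ∈ B
      rw [← map_inv, ← map_mul, ← map_mul, inv_eq_of_mul_eq_one_right hW]
      refine subset_closure ⟨_, ⟨hWA _ hzA, ?_⟩, rfl⟩
      calc T * (W * z * W) * T = (T * W) * z * (W * T) := by group
        _ = (W * T) * z * (T * W) := by rw [hTW.eq]
        _ = W * (T * z * T) * W := by group
        _ = (W * z * W)⁻¹ := by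
          rw [hz, mul_inv_rev, mul_inv_rev, inv_eq_of_mul_eq_one_right hW, mul_assoc])
    intro c hc
    have := hcl hc
    have hWi : (φ W)⁻¹ = φ W := by rw [← map_inv, inv_eq_of_mul_eq_one_right hW]
    simpa [hWi] using this
  have hcenT : ∀ W : ↥N, W * W = 1 → (∀ c ∈ B, φ W * c * φ W ∈ B) →
      ∀ c ∈ B, c ∈ centralizer (B : Set _) → φ W * c * φ W ∈ centralizer (B : Set _) := by
    intro W hW hWB c _ hc
    refine mem_centralizer_iff.2 fun b hb => ?_
    have h2 : φ W * φ W = 1 := by rw [← map_mul, hW, map_one]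
    have hb' := mem_centralizer_iff.1 hc _ (hWB b hb)
    calc b * (φ W * c * φ W) = (φ W * φ W) * b * (φ W * c * φ W) := by rw [h2, one_mul]
      _ = φ W * ((φ W * b * φ W) * c) * φ W := by group
      _ = φ W * (c * (φ W * b * φ W)) * φ W := by rw [hb']
      _ = φ W * c * φ W * b * (φ W * φ W) := by group
      _ = _ := by rw [h2, mul_one]
  have htB := hnorm T hTT (Commute.refl T) fun z hz => htA z hz
  have huB := hnorm U hUU hTU fun z hz => huA z hz
  haveI : Nontrivial ↥B := ⟨⟨_, hxI⟩, 1, fun h => hx1 (hback _ hx hxt (congrArg Subtype.val h))⟩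
  haveI := hBp.center_nontrivial
  obtain ⟨z, hz⟩ := exists_ne (1 : center ↥B)
  set c : ↥N ⧸ Cfsg.oddCore ↥N := ((z : ↥B) : ↥N ⧸ Cfsg.oddCore ↥N) with hcdef
  have hcB : c ∈ B := (z : ↥B).2
  have hcC : c ∈ centralizer (B : Set _) := mem_centralizer_iff.2 fun b hb =>
    congrArg Subtype.val (mem_center_iff.1 z.2 ⟨b, hb⟩)
  have hc1 : c ≠ 1 := fun h => hz (Subtype.ext (Subtype.ext h))
  have hφT : φ T * φ T = 1 := by rw [← map_mul, hTT, map_one]
  have hφU : φ U * φ U = 1 := by rw [← map_mul, hUU, map_one]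
  -- a nontrivial central element commuting with an involution of the four group
  obtain ⟨S, hS, d, hdB, hdC, hd1, hSd⟩ : ∃ S : ↥N, (S = T ∨ S = U ∨ S = T * U) ∧
      ∃ d, d ∈ B ∧ d ∈ centralizer (B : Set _) ∧ d ≠ 1 ∧ Commute (φ S) d := by
    have hcomm : ∀ W : ↥N, φ W * φ W = 1 → ∀ e, e ∈ B → e ∈ centralizer (B : Set _) → φ W * e * φ W ∈ B →
        Commute (φ W) (e * (φ W * e * φ W)) := by
      intro W hW e heB heC hWe
      have hce : Commute e (φ W * e * φ W) := (mem_centralizer_iff.1 heC _ hWe).symm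
      show _ = _
      calc φ W * (e * (φ W * e * φ W)) = (φ W * e * φ W) * e * φ W := by group
        _ = e * (φ W * e * φ W) * φ W := by rw [hce.eq]
    by_cases h1 : c * (φ T * c * φ T) = 1
    · have hcT : φ T * c * φ T = c⁻¹ := eq_inv_of_mul_eq_one_right h1
      by_cases h2 : c * (φ U * c * φ U) = 1
      · have hcU : φ U * c * φ U = c⁻¹ := eq_inv_of_mul_eq_one_right h2
        refine ⟨T * U, Or.inr (Or.inr rfl), c, hcB, hcC, hc1, ?_⟩
        have hfix : φ T * (φ U * c * φ U) * φ T = c := by rw [hcU, inv_inverted hφT hcT]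
        show φ (T * U) * c = c * φ (T * U)
        rw [map_mul]
        calc φ T * φ U * c = φ T * (φ U * c * φ U) * φ T * (φ T * φ U) := by
              rw [show φ T * (φ U * c * φ U) * φ T * (φ T * φ U) =
                φ T * φ U * c * φ U * (φ T * φ T) * φ U by group, hφT, mul_one,
                mul_assoc (φ T * φ U * c), hφU, mul_one]
          _ = c * (φ T * φ U) := by rw [hfix]
      · exact ⟨U, Or.inr (Or.inl rfl), _, mul_mem hcB (huB c hcB),
          mul_mem hcC (hcenT U hUU huB c hcB hcC), h2, hcomm U hφU c hcB hcC (huB c hcB)⟩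
    · exact ⟨T, Or.inl rfl, _, mul_mem hcB (htB c hcB),
        mul_mem hcC (hcenT T hTT htB c hcB hcC), h1, hcomm T hφT c hcB hcC (htB c hcB)⟩
  have hdd : d * d ≠ 1 := by
    intro h
    obtain ⟨k, hk⟩ := exists_pow_sq_eq (hodd d hdB)
    rw [h, one_pow] at hk
    exact hd1 hk.symm
  have hS2 : orderOf (S : G) = 2 := by
    rcases hS with rfl | rfl | rfl
    · exact Φ.ht
    · exact Φ.hu
    · exact Φ.hv
  have hSV : (S : G) ∈ Φ.V := by
    rcases hS with rfl | rfl | rfl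
    · exact Φ.t_mem
    · exact Φ.u_mem
    · exact mul_mem Φ.t_mem Φ.u_mem
  have hSo : orderOf (φ S) = 2 := by
    rw [orderOf_coe] at hS2
    refine Cfsg.Lib.Invol.orderOf_eq_two_of
      (fun h => Cfsg.Lib.ZStar.notMem_oddCore hS2 ((QuotientGroup.eq_one_iff S).1 h)) ?_
    rw [← map_mul, Cfsg.Lib.Invol.inv_mul_self hS2, map_one]
  have hkey : ∀ w ∈ B, Commute (φ S) w := by
    intro w hw
    have hwd : Commute w d := mem_centralizer_iff.1 hdC w hw
    have h : w * φ S * w⁻¹ = φ S := by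
      refine huniq d (hBE hdB) hdd _ (hE.conj_mem _ (hVE S hSV) _) _ (hVE S hSV) ?_ hSo ?_ hSd
      · rw [Cfsg.Lib.Invol.orderOf_conj_eq, hSo]
      · exact (hwd.mul_left hSd).mul_left hwd.inv_left
    exact (mul_inv_eq_iff_eq_mul.1 h).symm
  have hcu : Commute (φ U) (φ ⟨x, hAN hx⟩) :=
    (show Commute U ⟨x, hAN hx⟩ from Subtype.ext hxu.eq).map φ
  have hcv : Commute (φ (T * U)) (φ ⟨y, hAN hy⟩) :=
    (show Commute (T * U) ⟨y, hAN hy⟩ from Subtype.ext hyv.eq).map φ
  have hzT : ∀ w : ↥N, (w : G) ∈ A → Φ.t * (w : G) * Φ.t = (w : G)⁻¹ → Commute (φ T) (φ w) →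
      (w : G) = 1 := fun w hwA hwt hc => hback w hwA hwt <| eq_one_of_fixed_inverted hφT hc
    (by rw [← map_mul, ← map_mul, ← map_inv, show T * w * T = w⁻¹ from Subtype.ext hwt])
    (Odd.of_dvd_nat (by simpa [orderOf_coe] using hAodd _ hwA) (orderOf_map_dvd φ w))
  have hTeq : φ T = φ (T * U) * φ U := by rw [← map_mul, mul_assoc, hUU, mul_one]
  rcases hS with rfl | rfl | rfl
  · exact absurd (hzT ⟨x, hAN hx⟩ hx hxt (hkey _ hxI)) hx1
  · refine hzT ⟨y, hAN hy⟩ hy hyt ?_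
    rw [hTeq]
    exact hcv.mul_left (hkey _ hyI)
  · refine absurd (hzT ⟨x, hAN hx⟩ hx hxt ?_) hx1
    rw [hTeq]
    exact (hkey _ hxI).mul_left hcu

end KMin

end Cfsg.Lib.GW
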