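import Cfsg.Agent.Lib.GW.Klein.NoOvergroup

/-!
# Gorenstein–Walter, Sylow four groups: the centralizer of an involution

`C = C(t)` is `U ⋊ V` with `U` of odd order, it is a maximal subgroup, and `W = C_U(u)` is the odd
part of the centralizer of the four group.
-/

set_option autoImplicit false
set_option linter.style.haveILetI false
set_option linter.unusedSectionVars false

namespace Cfsg.Lib.GW

open Subgroup

universe u

section Elements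

variable {G : Type*} [Group G]

/-- `x = k * w` with `k` inverted and `w` fixed by the involution `u`. -/
theorem exists_inverted_mul_fixed {u x : G} (hu : u * u = 1) {H : Subgroup G}
    (hodd : ∀ z ∈ H, Odd (orderOf z)) (hx : x ∈ H) (hux : u * x * u ∈ H) :
    ∃ k ∈ H, ∃ w ∈ H, u * k * u = k⁻¹ ∧ Commute u w ∧ x = k * w := by
  have hui : u⁻¹ = u := inv_eq_of_mul_eq_one_right hu
  have hy : u * x * u * x⁻¹ ∈ H := mul_mem hux (inv_mem hx)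
  have hinv : u * (u * x * u * x⁻¹) * u⁻¹ = (u * x * u * x⁻¹)⁻¹ := by
    calc u * (u * x * u * x⁻¹) * u⁻¹ = u * u * x * u * x⁻¹ * u := by rw [hui]; group
      _ = x * u * x⁻¹ * u := by rw [hu, one_mul]
      _ = x * u⁻¹ * x⁻¹ * u⁻¹ := by rw [hui]
      _ = _ := by group
  obtain ⟨j, hj⟩ := exists_pow_sq_eq (hodd _ hy)
  set k := ((u * x * u * x⁻¹) ^ j)⁻¹ with hk
  have hkk : k⁻¹ * k⁻¹ = u * x * u * x⁻¹ := by
    rw [hk, inv_inv, ← (Commute.refl (u * x * u * x⁻¹)).mul_pow, hj]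
  have hki : u * k * u = k⁻¹ := by
    have h := pow_conj_inv hinv j
    rw [hui, inv_pow] at h
    rw [hk, inv_inv]
    conv_rhs => rw [← inv_inv ((u * x * u * x⁻¹) ^ j), ← h]
    rw [mul_inv_rev, mul_inv_rev, hui, mul_assoc]
  have hkH : k ∈ H := inv_mem (pow_mem hy j)
  refine ⟨k, hkH, k⁻¹ * x, mul_mem (inv_mem hkH) hx, hki, ?_, by rw [mul_inv_cancel_left]⟩
  have h1 : u * k⁻¹ * u = k := by
    conv_rhs => rw [← inv_inv k, ← hki]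
    rw [mul_inv_rev, mul_inv_rev, hui, mul_assoc]
  have h2 : u * (k⁻¹ * x) * u = k⁻¹ * x := by
    calc u * (k⁻¹ * x) * u = (u * k⁻¹ * u) * (u * x * u) := by
          rw [show (u * k⁻¹ * u) * (u * x * u) = u * k⁻¹ * (u * u) * x * u by group, hu]
          group
      _ = k * (k⁻¹ * k⁻¹) * x := by rw [h1, hkk]; group
      _ = k⁻¹ * x := by rw [mul_inv_cancel_left]
  show _ = _
  calc u * (k⁻¹ * x) = u * (k⁻¹ * x) * (u * u) := by rw [hu, mul_one]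
    _ = (u * (k⁻¹ * x) * u) * u := by group
    _ = _ := by rw [h2]

theorem fix_iff_commute {u x : G} (hu : u * u = 1) : u * x * u = x ↔ Commute u x := by
  refine ⟨fun h => ?_, fun h => by rw [h.eq, mul_assoc, hu, mul_one]⟩
  show _ = _
  conv_rhs => rw [← h, mul_assoc, hu, mul_one]

end Elements

namespace KFrame

variable {G : Type u} [Group G] (Φ : KFrame G)

/-- The centralizer of `t`. -/
abbrev C : Subgroup G := centralizer ({Φ.t} : Set G)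

/-- The odd part of the centralizer of `t`. -/
def U [Finite G] : Subgroup G := (Cfsg.oddCore ↥Φ.C).map Φ.C.subtype

/-- The odd part of the centralizer of the four group. -/
def W [Finite G] : Subgroup G := Φ.U ⊓ centralizer ({Φ.u} : Set G)

theorem mem_C {x : G} : x ∈ Φ.C ↔ Commute Φ.t x :=
  mem_centralizer_singleton_iff.trans ⟨fun h => h.symm, fun h => h.symm⟩

theorem t_mem_C : Φ.t ∈ Φ.C := Φ.mem_C.2 (Commute.refl _)

theorem u_mem_C : Φ.u ∈ Φ.C := Φ.mem_C.2 Φ.hc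

theorem V_le_C : Φ.V ≤ Φ.C := Φ.V_le Φ.t_mem_C Φ.u_mem_C

variable [Finite G]

theorem U_le_C : Φ.U ≤ Φ.C := map_subtype_le _

theorem W_le_U : Φ.W ≤ Φ.U := inf_le_left

theorem C_le_normalizer_U : Φ.C ≤ normalizer (Φ.U : Set G) := by
  intro c hc
  refine Cfsg.Lib.Fusion.le_normalizer_of_conj_mem (fun y hy => ?_)
  obtain ⟨z, hz, rfl⟩ := hy
  exact ⟨⟨c, hc⟩ * z * ⟨c, hc⟩⁻¹, Normal.conj_mem inferInstance z hz _, rfl⟩

theorem commute_t {x : G} (hx : x ∈ Φ.U) : Commute Φ.t x := Φ.mem_C.1 (Φ.U_le_C hx)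

theorem commute_u {x : G} (hx : x ∈ Φ.W) : Commute Φ.u x :=
  (mem_centralizer_singleton_iff.1 hx.2).symm

theorem odd_of_mem {x : G} (hx : x ∈ Φ.U) : Odd (orderOf x) := by
  obtain ⟨z, hz, rfl⟩ := hx
  rw [Subgroup.coe_subtype, orderOf_coe]
  exact Cfsg.Lib.ZStar.odd_orderOf_oddCore hz

theorem odd_card_U : Odd (Nat.card Φ.U) := by
  rw [U, card_map_of_injective Φ.C.subtype_injective]
  exact Cfsg.Lib.ZStar.odd_card_oddCore

theorem u_conj_mem {x : G} (hx : x ∈ Φ.U) : Φ.u * x * Φ.u ∈ Φ.U := by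
  have := (mem_normalizer_iff.1 (Φ.C_le_normalizer_U Φ.u_mem_C) x).1 hx
  rwa [Cfsg.Lib.Invol.inv_eq_self Φ.hu] at this

theorem swap_C : Φ.swap.C = Φ.C := rfl

theorem swap_U : Φ.swap.U = Φ.U := rfl

theorem swap_W : Φ.swap.W = Φ.W := by
  ext x
  simp only [W, swap_U, swap_u, Subgroup.mem_inf, mem_centralizer_singleton_iff]
  refine and_congr_right fun hx => ⟨fun h => ?_, fun h => ?_⟩
  · have h2 : Commute x (Φ.t * (Φ.t * Φ.u)) := (Φ.commute_t hx).symm.mul_right h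
    rwa [Φ.t_mul_v] at h2
  · exact (Φ.commute_t hx).symm.mul_right h

theorem commute_v {x : G} (hx : x ∈ Φ.W) : Commute (Φ.t * Φ.u) x :=
  (Φ.commute_t (Φ.W_le_U hx)).mul_left (Φ.commute_u hx)

theorem commute_V_W {x : G} (hx : x ∈ Φ.W) {v : G} (hv : v ∈ Φ.V) : Commute v x :=
  Φ.commute_V (Φ.commute_t (Φ.W_le_U hx)) (Φ.commute_u hx) hv

theorem g_cube : Commute Φ.t (Φ.g * Φ.g * Φ.g) ∧ Commute Φ.u (Φ.g * Φ.g * Φ.g) := by
  have h1 : (Φ.g * Φ.g * Φ.g) * Φ.t * (Φ.g * Φ.g * Φ.g)⁻¹ = Φ.t := by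
    conv_rhs => rw [← Φ.gv, ← Φ.gu, ← Φ.gt]
    group
  have h2 : (Φ.g * Φ.g * Φ.g) * Φ.u * (Φ.g * Φ.g * Φ.g)⁻¹ = Φ.u := by
    conv_rhs => rw [← Φ.gt, ← Φ.gv, ← Φ.gu]
    group
  exact ⟨(mul_inv_eq_iff_eq_mul.1 h1).symm, (mul_inv_eq_iff_eq_mul.1 h2).symm⟩

end KFrame

namespace KMin

variable {G : Type u} [Group G] [Finite G] (hK : KMin G) (Φ : KFrame G)
include hK

theorem C_ne_top : Φ.C ≠ ⊤ := by
  intro h
  haveI := hK.min.isSimple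
  have hz : Φ.t ∈ center G := mem_center_iff.2 fun x => mem_centralizer_singleton_iff.1 (h.ge (mem_top x))
  rcases IsSimpleGroup.eq_bot_or_eq_top_of_normal (center G) inferInstance with h' | h'
  · exact Cfsg.Lib.Invol.ne_one Φ.ht (mem_bot.1 (h' ▸ hz))
  · exact hK.min.nonab ⟨⟨fun a b => mem_center_iff.1 (h' ▸ mem_top b) a⟩⟩

theorem solvable_C : Group.IsSolvable Φ.C := hK.solvable_of_ge Φ.ht le_rfl (hK.C_ne_top Φ)

theorem isCoatom_C : IsCoatom Φ.C := by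
  refine ⟨hK.C_ne_top Φ, fun H hH => ?_⟩
  by_contra hne
  exact hH.ne (hK.eq_centralizer Φ hH.le hne).symm

theorem mem_U {x : G} : x ∈ Φ.U ↔ Commute Φ.t x ∧ Odd (orderOf x) := by
  refine ⟨fun hx => ⟨Φ.commute_t hx, Φ.odd_of_mem hx⟩, fun ⟨h1, h2⟩ => ?_⟩
  haveI : Fact (Nat.Prime 2) := ⟨Nat.prime_two⟩
  obtain ⟨S⟩ : Nonempty (Sylow 2 ↥Φ.C) := inferInstance
  have hc := hK.complement_of_ge Φ.ht le_rfl (hK.C_ne_top Φ)
  refine mem_map_of_mem Φ.C.subtype (?_ : (⟨x, Φ.mem_C.2 h1⟩ : Φ.C) ∈ Cfsg.oddCore ↥Φ.C)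
  obtain ⟨w, hw, y, hy, hwy⟩ := Cfsg.Lib.Fusion.exists_mul_of_sylow S (⟨x, Φ.mem_C.2 h1⟩ : Φ.C)
  have hle : Cfsg.pResidual 2 ↥Φ.C ≤ Cfsg.oddCore ↥Φ.C := Cfsg.Lib.ZStar.le_oddCore inferInstance
    (Nat.coprime_two_right.1 (Cfsg.Lib.Fusion.hasNormalPComplement_iff_coprime.1 hc))
  have hyO := hle hy
  obtain ⟨k, hk⟩ := IsPGroup.iff_orderOf.1 S.2 ⟨w, hw⟩
  rw [← orderOf_coe] at hk
  simp only at hk
  set q := QuotientGroup.mk' (Cfsg.oddCore ↥Φ.C)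
  have hq : q ⟨x, Φ.mem_C.2 h1⟩ = q w := by
    rw [hwy, map_mul, show q y = 1 from (QuotientGroup.eq_one_iff y).2 hyO, mul_one]
  refine (QuotientGroup.eq_one_iff (N := Cfsg.oddCore ↥Φ.C) _).1 (orderOf_eq_one_iff.1 ?_)
  show orderOf (q ⟨x, Φ.mem_C.2 h1⟩) = 1
  have d1 : orderOf (q ⟨x, Φ.mem_C.2 h1⟩) ∣ orderOf x := by
    have := orderOf_map_dvd q (⟨x, Φ.mem_C.2 h1⟩ : Φ.C)
    rwa [Subgroup.orderOf_mk] at this
  have d2 : orderOf (q ⟨x, Φ.mem_C.2 h1⟩) ∣ 2 ^ k := by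
    rw [hq, ← hk]
    exact orderOf_map_dvd q w
  exact Nat.eq_one_of_dvd_coprimes ((Nat.coprime_two_left.2 h2).pow_left k) d2 d1

theorem mem_W {x : G} : x ∈ Φ.W ↔ Commute Φ.t x ∧ Commute Φ.u x ∧ Odd (orderOf x) := by
  rw [KFrame.W, Subgroup.mem_inf, hK.mem_U Φ, mem_centralizer_singleton_iff]
  exact ⟨fun ⟨⟨a, c⟩, b⟩ => ⟨a, b.symm, c⟩, fun ⟨a, b, c⟩ => ⟨⟨a, c⟩, b.symm⟩⟩

theorem g_conj_mem_W {x : G} (hx : x ∈ Φ.W) : Φ.g * x * Φ.g⁻¹ ∈ Φ.W := by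
  obtain ⟨h1, h2, h3⟩ := (hK.mem_W Φ).1 hx
  refine (hK.mem_W Φ).2 ⟨?_, ?_, by rwa [Cfsg.Lib.Invol.orderOf_conj_eq]⟩
  · rw [← Φ.gv]; exact fixed_conj (h1.mul_left h2)
  · rw [← Φ.gt]; exact fixed_conj h1

theorem g_inv_conj_mem_W {x : G} (hx : x ∈ Φ.W) : Φ.g⁻¹ * x * Φ.g ∈ Φ.W := by
  have h := hK.g_conj_mem_W Φ.swap (x := x) (by rwa [Φ.swap_W])
  rw [Φ.swap_W] at h
  rw [show Φ.swap.g = Φ.g⁻¹ from rfl, inv_inv] at h
  exact h

/-- Every element of `C` is a product of elements of `V` and `U`. -/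
theorem exists_mul_of_mem_C {c : G} (hc : c ∈ Φ.C) : ∃ v ∈ Φ.V, ∃ x ∈ Φ.U, c = v * x := by
  haveI : Fact (Nat.Prime 2) := ⟨Nat.prime_two⟩
  obtain ⟨P, hP⟩ := hK.exists_sylow_eq Φ.card_V
  let S : Sylow 2 ↥Φ.C := P.subtype (hP.le.trans Φ.V_le_C)
  obtain ⟨w, hw, y, hy, hwy⟩ := Cfsg.Lib.Fusion.exists_mul_of_sylow S (⟨c, hc⟩ : Φ.C)
  have hle : Cfsg.pResidual 2 ↥Φ.C ≤ Cfsg.oddCore ↥Φ.C := Cfsg.Lib.ZStar.le_oddCore inferInstance
    (Nat.coprime_two_right.1 (Cfsg.Lib.Fusion.hasNormalPComplement_iff_coprime.1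
      (hK.complement_of_ge Φ.ht le_rfl (hK.C_ne_top Φ))))
  refine ⟨w, ?_, y, mem_map_of_mem Φ.C.subtype (hle hy), congrArg Subtype.val hwy⟩
  rw [← hP]
  rw [show (S : Subgroup ↥Φ.C) = (P : Subgroup G).subgroupOf Φ.C from Sylow.coe_subtype _ _,
    mem_subgroupOf] at hw
  exact hw

theorem disjoint_U_V {x : G} (hx : x ∈ Φ.U) (hv : x ∈ Φ.V) : x = 1 := by
  haveI := Φ.klein
  have h2 : x * x = 1 := Cfsg.Lib.Invol.klein_mul_self hv
  obtain ⟨k, hk⟩ := exists_pow_sq_eq (Φ.odd_of_mem hx)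
  rw [← hk, h2, one_pow]

theorem card_C : Nat.card Φ.C = 4 * Nat.card Φ.U := by
  let f : Φ.V × Φ.U → Φ.C := fun p => ⟨p.1.1 * p.2.1, mul_mem (Φ.V_le_C p.1.2) (Φ.U_le_C p.2.2)⟩
  have hf : Function.Bijective f := by
    constructor
    · rintro ⟨v, x⟩ ⟨v', x'⟩ h
      have h' : (v : G) * x = v' * x' := congrArg Subtype.val h
      have e : (v' : G)⁻¹ * v = x' * (x : G)⁻¹ := by
        rw [inv_mul_eq_iff_eq_mul, ← mul_assoc, ← h', mul_inv_cancel_right]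
      have h1 := hK.disjoint_U_V Φ (mul_mem x'.2 (inv_mem x.2)) (e ▸ mul_mem (inv_mem v'.2) v.2)
      rw [← e, inv_mul_eq_one] at h1
      have hv : v = v' := Subtype.ext h1.symm
      subst hv
      exact Prod.ext rfl (Subtype.ext (mul_left_cancel h'))
    · rintro ⟨c, hc⟩
      obtain ⟨v, hv, x, hx, rfl⟩ := hK.exists_mul_of_mem_C Φ hc
      exact ⟨(⟨v, hv⟩, ⟨x, hx⟩), rfl⟩
  rw [← Nat.card_congr (Equiv.ofBijective f hf), Nat.card_prod, Φ.card_V]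

/-- The involutions of `C` are `t` and the conjugates of `u` and `t * u` under `U`. -/
theorem involution_cases {i : G} (hi : orderOf i = 2) (hic : i ∈ Φ.C) :
    i = Φ.t ∨ ∃ a ∈ Φ.U, i = a * Φ.u * a⁻¹ ∨ i = a * (Φ.t * Φ.u) * a⁻¹ := by
  haveI : Fact (Nat.Prime 2) := ⟨Nat.prime_two⟩
  obtain ⟨P, hP⟩ := hK.exists_sylow_eq Φ.card_V
  let S : Sylow 2 ↥Φ.C := P.subtype (hP.le.trans Φ.V_le_C)
  obtain ⟨c, hc⟩ := Cfsg.Lib.Invol.exists_conj_mem_sylow S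
    (IsPGroup.of_card (n := 1) (by rw [Nat.card_zpowers, Subgroup.orderOf_mk, hi, pow_one]) :
      IsPGroup 2 (zpowers (⟨i, hic⟩ : Φ.C)))
  have hmem := hc _ (mem_zpowers _)
  rw [show (S : Subgroup ↥Φ.C) = (P : Subgroup G).subgroupOf Φ.C from Sylow.coe_subtype _ _,
    mem_subgroupOf, hP] at hmem
  push_cast at hmem
  obtain ⟨v, hv, x, hx, hcx⟩ := hK.exists_mul_of_mem_C Φ (inv_mem c.2)
  have hne : (c : G) * i * (c : G)⁻¹ ≠ 1 := fun h =>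
    Cfsg.Lib.Invol.ne_one hi (conj_eq_one_iff.1 h)
  haveI := Φ.klein
  set z := (c : G) * i * (c : G)⁻¹ with hz
  set a := v * x * v⁻¹ with ha
  have haU : a ∈ Φ.U := (mem_normalizer_iff.1 (Φ.C_le_normalizer_U (Φ.V_le_C hv)) x).1 hx
  have hiz : i = a * z * a⁻¹ := by
    calc i = (c : G)⁻¹ * z * ((c : G)⁻¹)⁻¹ := by rw [hz]; group
      _ = a * (v * z * v⁻¹) * a⁻¹ := by rw [hcx, ha]; group
      _ = _ := by rw [Cfsg.Lib.Invol.klein_comm hv hmem, mul_inv_cancel_right]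
  rcases Φ.V_cases hmem hne with h | h | h
  · exact Or.inl (by rw [hiz, h, (Φ.commute_t haU).symm.eq, mul_inv_cancel_right])
  · exact Or.inr ⟨a, haU, Or.inl (by rw [hiz, h])⟩
  · exact Or.inr ⟨a, haU, Or.inr (by rw [hiz, h])⟩

/-- A nontrivial normal subgroup of `C` of odd order has normalizer `C`. -/
theorem normalizer_eq_C {Y : Subgroup G} (hY : Y ≤ Φ.U) (h1 : Y ≠ ⊥) (hn : Φ.C ≤ normalizer (Y : Set G)) :
    normalizer (Y : Set G) = Φ.C := by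
  refine hK.eq_centralizer Φ hn (hK.normalizer_ne_top h1 ?_)
  rintro rfl
  exact hK.C_ne_top Φ (top_le_iff.1 (hY.trans Φ.U_le_C))

/-- An element centralizing a nontrivial normal subgroup of `C` of odd order lies in `C`. -/
theorem mem_C_of_commute {Y : Subgroup G} (hY : Y ≤ Φ.U) (h1 : Y ≠ ⊥) (hn : Φ.C ≤ normalizer (Y : Set G))
    {x : G} (hx : ∀ y ∈ Y, Commute x y) : x ∈ Φ.C :=
  (hK.normalizer_eq_C Φ hY h1 hn).le (Cfsg.Lib.Fusion.le_normalizer_of_conj_mem fun y hy => by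
    rwa [(hx y hy).eq, mul_inv_cancel_right])

theorem g_notMem_C : Φ.g ∉ Φ.C := fun h => Φ.hne (by
  rw [← Φ.gt, (Φ.mem_C.1 h).symm.eq, mul_inv_cancel_right])

/-- The four group determines the frame up to `W`. -/
theorem exists_eq_mul_g {h : G} (h1 : h * Φ.t * h⁻¹ = Φ.u) (h2 : h * Φ.u * h⁻¹ = Φ.t * Φ.u) :
    Commute Φ.t (Φ.g⁻¹ * h) ∧ Commute Φ.u (Φ.g⁻¹ * h) := by
  constructor
  · have e : (Φ.g⁻¹ * h) * Φ.t * (Φ.g⁻¹ * h)⁻¹ = Φ.t := by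
      rw [show (Φ.g⁻¹ * h) * Φ.t * (Φ.g⁻¹ * h)⁻¹ = Φ.g⁻¹ * (h * Φ.t * h⁻¹) * Φ.g by group, h1, Φ.gu']
    exact (mul_inv_eq_iff_eq_mul.1 e).symm
  · have e : (Φ.g⁻¹ * h) * Φ.u * (Φ.g⁻¹ * h)⁻¹ = Φ.u := by
      rw [show (Φ.g⁻¹ * h) * Φ.u * (Φ.g⁻¹ * h)⁻¹ = Φ.g⁻¹ * (h * Φ.u * h⁻¹) * Φ.g by group, h2, Φ.gv']
    exact (mul_inv_eq_iff_eq_mul.1 e).symm

end KMin

end Cfsg.Lib.GW
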