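import Cfsg.Agent.Lib.GW.Klein.Core

/-!
# Gorenstein–Walter, Sylow four groups: subgroups invariant under the fixed points of an involution

In a group `U` of odd order with an involution `u` acting, the inverted elements of an `r`-subgroup
normalized by `C_U(u)` lie in `O_r(U)`.
-/

set_option autoImplicit false
set_option linter.style.haveILetI false
set_option linter.unusedSectionVars false

namespace Cfsg.Lib.GW

open Subgroup

variable {H : Type*} [Group H] [Finite H]

/-- An inverted element that centralizes the fixed points of `u` on a `u`-invariant group of coprime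
order centralizes the group. -/
theorem commute_of_fixed_commute {u y : H} (hu : u * u = 1) (hy : u * y * u = y⁻¹) (hyo : Odd (orderOf y))
    {s : ℕ} [Fact s.Prime] (hs : s ≠ 2) {P : Subgroup H} (hP : IsPGroup s P)
    (hcop : (orderOf y).Coprime s) (huP : ∀ z ∈ P, u * z * u ∈ P) (hyP : y ∈ normalizer (P : Set H))
    (hfix : ∀ z ∈ P, Commute u z → Commute y z) : ∀ z ∈ P, Commute y z := by
  set E := P ⊓ centralizer ({y} : Set H) with hE
  have hmemE : ∀ {z : H}, z ∈ E ↔ z ∈ P ∧ Commute y z := fun {z} => by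
    rw [hE, Subgroup.mem_inf, mem_centralizer_singleton_iff]
    exact and_congr_right fun _ => ⟨fun h => h.symm, fun h => h.symm⟩
  have huy : u * y⁻¹ * u = y := inv_inverted hu hy
  have huE : ∀ z ∈ E, u * z * u ∈ E := by
    intro z hz
    obtain ⟨hzP, hc⟩ := hmemE.1 hz
    refine hmemE.2 ⟨huP z hzP, ?_⟩
    show _ = _
    calc y * (u * z * u) = (u * y⁻¹ * u) * (u * z * u) := by rw [huy]
      _ = u * y⁻¹ * (u * u) * z * u := by group
      _ = u * (y⁻¹ * z) * u := by rw [hu, mul_one, mul_assoc u]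
      _ = u * (z * y⁻¹) * u := by rw [(hc.inv_left).eq]
      _ = u * z * (u * u) * y⁻¹ * u := by rw [hu, mul_one]; group
      _ = (u * z * u) * (u * y⁻¹ * u) := by group
      _ = (u * z * u) * y := by rw [huy]
  by_contra hne
  push Not at hne
  obtain ⟨z₀, hz₀, hz₀c⟩ := hne
  haveI := hP.isNilpotent
  have hlt : E.subgroupOf P < ⊤ := lt_top_iff_ne_top.2 fun h =>
    hz₀c (hmemE.1 (subgroupOf_eq_top.1 h hz₀)).2
  obtain ⟨⟨z, hzP⟩, hzn, hznot⟩ := SetLike.exists_of_lt (Group.normalizerCondition_of_isNilpotent _ hlt)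
  refine hznot (mem_subgroupOf.2 (hmemE.2 ⟨hzP, ?_⟩))
  have hzE : ∀ e ∈ E, z * e * z⁻¹ ∈ E := fun e he =>
    mem_subgroupOf.1 ((mem_normalizer_iff.1 hzn ⟨e, (hmemE.1 he).1⟩).1 (mem_subgroupOf.2 he))
  obtain ⟨k, hkP, w, hwP, hk, hw, rfl⟩ := exists_inverted_mul_fixed hu
    (fun a ha => conj_odd hs hP ha) hzP (huP _ hzP)
  have hyw := hfix w hwP hw
  suffices hyk : Commute y k from hyk.mul_right hyw
  have hwE : ∀ e ∈ E, k * e * k⁻¹ ∈ E := by
    intro e he
    have h := hzE _ (mul_mem (mul_mem (inv_mem (hmemE.2 ⟨hwP, hyw⟩)) he) (hmemE.2 ⟨hwP, hyw⟩))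
    rwa [show k * w * (w⁻¹ * e * w) * (k * w)⁻¹ = k * e * k⁻¹ by group] at h
  have hkE' : ∀ e ∈ E, k⁻¹ * e * k ∈ E := by
    intro e he
    have h := huE _ (hwE _ (huE e he))
    have hui : u⁻¹ = u := inv_eq_of_mul_eq_one_right hu
    have e1 : u * (k * (u * e * u) * k⁻¹) * u = (u * k * u) * e * (u * k⁻¹ * u) := by group
    rwa [e1, hk, inv_inverted hu hk] at h
  -- the decomposition of `y k y⁻¹`
  have hykP : y * k * y⁻¹ ∈ P := (mem_normalizer_iff.1 hyP k).1 hkP
  obtain ⟨k', hk'P, e, he, hk', hew, hdec⟩ := exists_inverted_mul_fixed hu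
    (fun a ha => conj_odd hs hP ha) hykP (huP _ hykP)
  have heE : e ∈ E := hmemE.2 ⟨he, hfix e he hew⟩
  -- `k'` also normalizes `E`
  have hkey : (y * y) * k * (y * y)⁻¹ ∈ (· * ·) k '' (E : Set H) := by
    have h1 : y⁻¹ * k⁻¹ * y = k'⁻¹ * e := by
      calc y⁻¹ * k⁻¹ * y = (u * y * u) * (u * k * u) * (u * y⁻¹ * u) := by rw [hy, hk, huy]
        _ = u * y * (u * u) * k * (u * u) * y⁻¹ * u := by group
        _ = u * (y * k * y⁻¹) * u := by rw [hu, mul_one, mul_one]; group
        _ = u * (k' * e) * u := by rw [hdec]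
        _ = (u * k' * u) * (u * e * u) := by
          rw [show u * k' * u * (u * e * u) = u * k' * (u * u) * e * u by group, hu, mul_one]; group
        _ = _ := by rw [hk', (fix_iff_commute hu).2 hew]
    have h2 : y⁻¹ * k * y = e⁻¹ * k' := by
      rw [show y⁻¹ * k * y = (y⁻¹ * k⁻¹ * y)⁻¹ by group, h1, mul_inv_rev, inv_inv]
    have h3 : y * k * y⁻¹ = e * (y⁻¹ * k * y) * e := by rw [h2, hdec]; group
    have hye : Commute y e := (hmemE.1 heE).2
    refine ⟨k⁻¹ * e * k * e, mul_mem (hkE' e heE) heE, ?_⟩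
    show k * (k⁻¹ * e * k * e) = _
    calc k * (k⁻¹ * e * k * e) = y * (y⁻¹ * e * k * e * y) * y⁻¹ := by group
      _ = y * (e * (y⁻¹ * k * y) * e) * y⁻¹ := by
        rw [show y⁻¹ * e * k * e * y = (y⁻¹ * e) * k * (e * y) by group, hye.inv_left.eq, ← hye.eq]; group
      _ = _ := by rw [← h3]; group
  obtain ⟨d, hd, hdk⟩ := hkey
  have hyd : Commute (y * y) d := ((hmemE.1 hd).2).mul_left (hmemE.1 hd).2
  have hiter : ∀ n : ℕ, (y * y) ^ n * k * ((y * y) ^ n)⁻¹ = k * d ^ n := by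
    intro n
    induction n with
    | zero => simp
    | succ n ih =>
      calc (y * y) ^ (n + 1) * k * ((y * y) ^ (n + 1))⁻¹
          = (y * y) * ((y * y) ^ n * k * ((y * y) ^ n)⁻¹) * (y * y)⁻¹ := by
            rw [pow_succ', mul_inv_rev]
            simp only [mul_assoc]
        _ = ((y * y) * k * (y * y)⁻¹) * ((y * y) * d ^ n * (y * y)⁻¹) := by rw [ih]; group
        _ = _ := by
          rw [← hdk, (hyd.pow_right n).eq, mul_inv_cancel_right, mul_assoc, ← pow_succ']
  have hdn : d ^ orderOf (y * y) = 1 := by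
    have h := hiter (orderOf (y * y))
    rw [pow_orderOf_eq_one, one_mul, inv_one, mul_one] at h
    exact left_eq_mul.1 h
  have hd1 : d = 1 := by
    refine orderOf_eq_one_iff.1 (Nat.eq_one_of_dvd_coprimes ?_ (orderOf_dvd_of_pow_eq_one hdn) (dvd_refl _))
    obtain ⟨j, hj⟩ := IsPGroup.iff_orderOf.1 hP ⟨d, (hmemE.1 hd).1⟩
    rw [← orderOf_coe] at hj
    rw [hj]
    refine Nat.Coprime.pow_right _ (hcop.coprime_dvd_left ?_)
    rw [← pow_two]
    exact orderOf_pow_dvd 2
  rw [hd1] at hdk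
  refine commute_of_sq_commute hyo ?_
  show _ = _
  exact mul_inv_eq_iff_eq_mul.1 (by simpa using hdk.symm)

/-- The inverted elements of a `C_U(u)`-invariant `r`-subgroup of `U` lie in `O_r`. -/
theorem inverted_mem_pCore {U : Subgroup H} [U.Normal] (hodd : Odd (Nat.card U)) {u : H} (hu : u * u = 1)
    {r : ℕ} [Fact r.Prime] {Y : Subgroup H} (hY : IsPGroup r Y) (hYU : Y ≤ U)
    (hn : ∀ w ∈ U, Commute u w → w ∈ normalizer (Y : Set H)) {y : H} (hy : y ∈ Y) (hyu : u * y * u = y⁻¹) :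
    y ∈ Cfsg.pCore r H := by
  set K := Cfsg.pCore r H with hK
  set φ := QuotientGroup.mk' K with hφ
  have hφs : Function.Surjective φ := QuotientGroup.mk'_surjective K
  have hui : u⁻¹ = u := inv_eq_of_mul_eq_one_right hu
  have hoddU : ∀ z ∈ U, Odd (orderOf z) := fun z hz => hodd.of_dvd_nat (Subgroup.orderOf_dvd_natCard _ hz)
  have huU : ∀ z ∈ U, u * z * u ∈ U := fun z hz => by
    have := (inferInstance : U.Normal).conj_mem z hz u
    rwa [hui] at this
  set Ub := U.map φ with hUb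
  haveI hUbn : Ub.Normal := Subgroup.Normal.map inferInstance φ hφs
  have hUbodd : Odd (Nat.card Ub) := hodd.of_dvd_nat (Subgroup.card_map_dvd U φ)
  have huu : φ u * φ u = 1 := by rw [← map_mul, hu, map_one]
  have hyb : φ u * φ y * φ u = (φ y)⁻¹ := by rw [← map_mul, ← map_mul, hyu, map_inv]
  have hnb : ∀ z ∈ Ub, Commute (φ u) z → z ∈ normalizer ((Y.map φ : Subgroup _) : Set (H ⧸ K)) := by
    rintro _ ⟨x, hx, rfl⟩ hc
    obtain ⟨k, hk, w, hw, hki, hkw, rfl⟩ := exists_inverted_mul_fixed hu hoddU hx (huU x hx)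
    have hk1 : φ k = 1 := by
      have h1 : φ u * φ (k * w) * φ u = φ (k * w) := (fix_iff_commute huu).2 hc
      rw [← map_mul, ← map_mul, show u * (k * w) * u = (u * k * u) * (u * w * u) by
          rw [show u * k * u * (u * w * u) = u * k * (u * u) * w * u by group, hu, mul_one]; group,
        hki, (fix_iff_commute hu).2 hkw, map_mul, map_mul] at h1
      have h2 : φ k * φ k = 1 := by
        rw [mul_eq_one_iff_inv_eq, ← map_inv]
        exact mul_right_cancel h1
      obtain ⟨j, hj⟩ := exists_pow_sq_eq (hoddU k hk)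
      rw [← hj, map_pow, map_mul, h2, one_pow]
    rw [map_mul, hk1, one_mul]
    exact Subgroup.le_normalizer_map φ (mem_map_of_mem φ (hn w hw hkw))
  -- `φ y` centralizes the Fitting subgroup of `Ub`
  have hYb : IsPGroup r ↥(Y.map φ) := hY.map φ
  have hrbot : Cfsg.pCore r ↥Ub = ⊥ := by
    have h := (Cfsg.Lib.Core.pCore_map_le_of_isSubnormal (p := r) hUbn.isSubnormal).trans
      (Cfsg.Lib.Core.pCore_quotient_pCore_eq_bot (p := r) (G := H)).le
    exact (Subgroup.map_eq_bot_iff_of_injective _ Ub.subtype_injective).1 (le_bot_iff.1 h)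
  haveI : Group.IsSolvable ↥Ub := Cfsg.Agent.S0205.result hUbodd
  have hyU : φ y ∈ Ub := mem_map_of_mem φ (hYU hy)
  have hyF : (⟨φ y, hyU⟩ : Ub) ∈ Cfsg.fittingSubgroup ↥Ub := by
    refine Cfsg.Lib.Core.centralizer_fitting_le_of_isSolvable (mem_centralizer_iff.2 fun z hz => ?_)
    have hle : Cfsg.fittingSubgroup ↥Ub ≤ centralizer ({⟨φ y, hyU⟩} : Set ↥Ub) := by
      rw [Cfsg.Lib.Core.fittingSubgroup_eq_iSup_pCore]
      refine iSup_le fun s x hx => mem_centralizer_singleton_iff.2 ?_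
      haveI : Fact (s : ℕ).Prime := ⟨s.2⟩
      by_cases hsr : (s : ℕ) = r
      · rw [hsr, hrbot, mem_bot] at hx
        rw [hx, one_mul, mul_one]
      by_cases hs2 : (s : ℕ) = 2
      · have hx1 : x = 1 := by
          obtain ⟨j, hj⟩ := IsPGroup.iff_orderOf.1 (Cfsg.Lib.Core.pCore_isPGroup (s : ℕ) ↥Ub) ⟨x, hx⟩
          rw [Subgroup.orderOf_mk, hs2] at hj
          refine orderOf_eq_one_iff.1 (Nat.eq_one_of_dvd_coprimes
            ((Nat.coprime_two_left.2 (hUbodd.of_dvd_nat (orderOf_dvd_natCard x))).pow_left j) hj.dvd (dvd_refl _))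
        rw [hx1, one_mul, mul_one]
      set P := (Cfsg.pCore (s : ℕ) ↥Ub).map Ub.subtype with hP
      have hPn : ∀ g : H ⧸ K, g ∈ normalizer (P : Set (H ⧸ K)) := fun g =>
        (Cfsg.Lib.Core.normalizer_le_normalizer_map_char _) (normalizer_eq_top_iff.2 hUbn ▸ mem_top g)
      have hPp : IsPGroup (s : ℕ) P := (Cfsg.Lib.Core.pCore_isPGroup (s : ℕ) ↥Ub).map _
      have hzfix : ∀ z ∈ P, Commute (φ u) z → Commute (φ y) z := by
        intro z hz hc
        have h1 := hnb z ((map_subtype_le _ : P ≤ Ub) hz) hc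
        have hcom : φ y * z * (φ y)⁻¹ * z⁻¹ = 1 := by
          refine eq_one_of_two_primes hsr hPp hYb
            (mul_mem ((mem_normalizer_iff.1 (hPn _) z).1 hz) (inv_mem hz)) ?_
          rw [show φ y * z * (φ y)⁻¹ * z⁻¹ = φ y * (z * (φ y)⁻¹ * z⁻¹) by group]
          exact mul_mem (mem_map_of_mem φ hy) ((mem_normalizer_iff.1 h1 _).1 (inv_mem (mem_map_of_mem φ hy)))
        exact mul_inv_eq_one.1 hcom |> mul_inv_eq_iff_eq_mul.1
      have huPmem : ∀ z ∈ P, φ u * z * φ u ∈ P := fun z hz => by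
        have := (mem_normalizer_iff.1 (hPn (φ u)) z).1 hz
        rwa [inv_eq_of_mul_eq_one_right huu] at this
      have hco : (orderOf (φ y)).Coprime (s : ℕ) := by
        obtain ⟨j, hj⟩ := IsPGroup.iff_orderOf.1 hYb ⟨φ y, mem_map_of_mem φ hy⟩
        rw [← orderOf_coe] at hj
        rw [hj]
        exact ((Nat.coprime_primes (Fact.out : r.Prime) s.2).2 (Ne.symm hsr)).pow_left _
      have := commute_of_fixed_commute huu hyb
        ((hoddU y (hYU hy)).of_dvd_nat (orderOf_map_dvd φ y)) hs2 hPp hco huPmem (hPn _) hzfix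
        (x : H ⧸ K) (mem_map_of_mem Ub.subtype hx)
      exact Subtype.ext this.eq.symm
    exact (mem_centralizer_singleton_iff.1 (hle hz))
  obtain ⟨j, hj⟩ := IsPGroup.iff_orderOf.1 hYb ⟨φ y, mem_map_of_mem φ hy⟩
  rw [← orderOf_coe] at hj
  have hone : (⟨φ y, hyU⟩ : Ub) ∈ Cfsg.pCore r ↥Ub := by
    have h := Cfsg.Lib.Core.fittingSubgroup_isNilpotent ↥Ub
    haveI := h
    let x : Cfsg.fittingSubgroup ↥Ub := ⟨⟨φ y, hyU⟩, hyF⟩
    have hx : x ∈ Cfsg.pCore r ↥(Cfsg.fittingSubgroup ↥Ub) := by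
      obtain ⟨S, hS⟩ := (IsPGroup.of_card (n := j) (by
        rw [Nat.card_zpowers, ← orderOf_coe, ← orderOf_coe]; exact hj) :
          IsPGroup r (zpowers x)).exists_le_sylow
      haveI := S.normal_of_normalizerCondition (Group.normalizerCondition_of_isNilpotent (G := ↥(Cfsg.fittingSubgroup ↥Ub)))
      exact Cfsg.Lib.Core.le_pCore S.2 (hS (mem_zpowers x))
    exact Cfsg.Lib.Core.pCore_map_le_of_isSubnormal (p := r)
      (Cfsg.Lib.Core.fittingSubgroup_normal' ↥Ub).isSubnormal (mem_map_of_mem _ hx)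
  rw [hrbot, mem_bot] at hone
  exact (QuotientGroup.eq_one_iff y).1 (congrArg Subtype.val hone)

end Cfsg.Lib.GW
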