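import Cfsg.Agent.Lib.GW.Klein.Linear
import Cfsg.Agent.Lib.GW.Klein.Signalizer
import Cfsg.Agent.Lib.GW.Klein.CompCentral

/-!
# Gorenstein–Walter, Sylow four groups: some element cycling the four group centralizes `W`

Otherwise `O_q(C) ≤ W` whenever `O_q(C) ∩ W ≠ 1`, the inverted elements form an abelian normal complement
to `W` in `U`, and every linear character of `W` extends to `U`.
-/

set_option autoImplicit false
set_option linter.style.haveILetI false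
set_option linter.unusedSectionVars false

namespace Cfsg.Lib.GW

open Cfsg Subgroup
open Cfsg.Agent.S1312 (Op op_le op_isPGroup le_normalizer_op op_commute le_op normalizer_eq_max)
open Cfsg.Lib.Sig.BenderPair (op_le_fitting op_le_left)

universe u

variable {G : Type u} [Group G]

/-- An element cycling the four group centralizes `W`. -/
def KFrame.Bad [Finite G] (Φ : KFrame G) : Prop :=
  ∃ h : G, h * Φ.t * h⁻¹ = Φ.u ∧ h * Φ.u * h⁻¹ = Φ.t * Φ.u ∧ ∀ w ∈ Φ.W, Commute h w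

/-- The frame moved one step. -/
def KFrame.rot (Φ : KFrame G) : KFrame G where
  t := Φ.u
  u := Φ.t * Φ.u
  g := Φ.g
  ht := Φ.hu
  hu := Φ.hv
  hne := Φ.v_ne_u
  hc := (Φ.hc.symm.mul_right (Commute.refl Φ.u))
  gt := Φ.gu
  gu := by rw [Φ.gv, Φ.hc.eq, ← mul_assoc, Φ.uu, one_mul]

theorem KFrame.rot_v (Φ : KFrame G) : Φ.rot.t * Φ.rot.u = Φ.t := by
  show Φ.u * (Φ.t * Φ.u) = Φ.t
  rw [Φ.hc.eq, ← mul_assoc, Φ.uu, one_mul]

variable [Finite G]

/-- Thompson's lemma for an involution: if the inverted elements commuting with `A` are trivial, the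
involution centralizes the group. -/
theorem commute_of_inverted_centralized {q : ℕ} [Fact q.Prime] (hq : q ≠ 2) {Q A : Subgroup G}
    (hQ : IsPGroup q Q) (hA : IsPGroup q A) {t : G} (ht : t * t = 1) (htQ : ∀ z ∈ Q, t * z * t ∈ Q)
    (hAQ : A ≤ normalizer (Q : Set G)) (hAt : ∀ a ∈ A, Commute t a)
    (h : ∀ z ∈ Q, t * z * t = z⁻¹ → (∀ a ∈ A, Commute a z) → z = 1) : ∀ z ∈ Q, Commute t z := by
  classical
  set I : Set G := {z | z ∈ Q ∧ t * z * t = z⁻¹} with hI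
  have hodd : ∀ z ∈ Q, Odd (orderOf z) := fun z hz => conj_odd hq hQ hz
  by_contra hne
  push Not at hne
  obtain ⟨z₀, hz₀, hzc⟩ := hne
  set E := Q ⊓ centralizer ({t} : Set G) with hE
  have hmemE : ∀ {z : G}, z ∈ E ↔ z ∈ Q ∧ Commute t z := fun {z} => by
    rw [hE, Subgroup.mem_inf, mem_centralizer_singleton_iff]
    exact and_congr_right fun _ => ⟨fun h => h.symm, fun h => h.symm⟩
  -- inverted elements and cosets
  have huniq : ∀ k ∈ I, ∀ k' ∈ I, k⁻¹ * k' ∈ E → k = k' := by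
    intro k hk k' hk' he
    have hc := fix_iff_commute ht |>.2 (hmemE.1 he).2
    rw [show t * (k⁻¹ * k') * t = (t * k⁻¹ * t) * (t * k' * t) by
      rw [show t * k⁻¹ * t * (t * k' * t) = t * k⁻¹ * (t * t) * k' * t by group, ht]; group,
      inv_inverted ht hk.2, hk'.2] at hc
    have hsq : k * k = k' * k' := by
      calc k * k = k * (k * k'⁻¹) * k' := by group
        _ = k * (k⁻¹ * k') * k' := by rw [hc]
        _ = _ := by group
    have hodd' := hodd k hk.1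
    obtain ⟨i, hi⟩ := exists_pow_sq_eq (hodd k hk.1)
    obtain ⟨j, hj⟩ := exists_pow_sq_eq (hodd k' hk'.1)
    have hck : Commute k k' := by
      rw [← hi, ← hj, hsq]
      exact Commute.pow_pow (Commute.refl _) i j
    have h1 : (k⁻¹ * k') * (k⁻¹ * k') = 1 := by
      rw [show k⁻¹ * k' * (k⁻¹ * k') = k⁻¹ * (k' * k⁻¹) * k' by group, ← hck.inv_left.eq,
        show k⁻¹ * (k⁻¹ * k') * k' = (k * k)⁻¹ * (k' * k') by group, hsq, inv_mul_cancel]
    obtain ⟨m, hm⟩ := exists_pow_sq_eq (hodd _ (mul_mem (inv_mem hk.1) hk'.1))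
    rw [h1, one_pow] at hm
    exact inv_mul_eq_one.1 hm.symm
  let f : I → Q ⧸ E.subgroupOf Q := fun k => QuotientGroup.mk ⟨k, k.2.1⟩
  have hfb : Function.Bijective f := by
    refine ⟨fun a b hab => Subtype.ext (huniq a a.2 b b.2 ?_), fun x => ?_⟩
    · exact mem_subgroupOf.1 (QuotientGroup.eq.1 hab)
    · obtain ⟨⟨z, hz⟩, rfl⟩ := QuotientGroup.mk_surjective x
      obtain ⟨k, hk, w, hw, hki, hkw, rfl⟩ := exists_inverted_mul_fixed ht hodd hz (htQ z hz)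
      refine ⟨⟨k, hk, hki⟩, QuotientGroup.eq.2 (mem_subgroupOf.2 ?_)⟩
      show k⁻¹ * (k * w) ∈ E
      rw [inv_mul_cancel_left]
      exact hmemE.2 ⟨hw, hkw⟩
  have hqI : q ∣ Nat.card I := by
    rw [Nat.card_congr (Equiv.ofBijective f hfb)]
    obtain ⟨k, hk⟩ := hQ.index (E.subgroupOf Q)
    rw [← index_eq_card, hk]
    refine dvd_pow_self q fun h0 => hzc ?_
    rw [h0, pow_zero, index_eq_one, subgroupOf_eq_top] at hk
    exact (hmemE.1 (hk hz₀)).2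
  have hact : ∀ a ∈ A, ∀ k ∈ I, a * k * a⁻¹ ∈ I := by
    intro a ha k hk
    refine ⟨(mem_normalizer_iff.1 (hAQ ha) k).1 hk.1, ?_⟩
    calc t * (a * k * a⁻¹) * t = (t * a) * k * (a⁻¹ * t) := by group
      _ = (a * t) * k * (t * a⁻¹) := by rw [(hAt a ha).eq, ← (hAt a ha).inv_right.eq]
      _ = a * (t * k * t) * a⁻¹ := by group
      _ = _ := by rw [hk.2]; group
  letI : MulAction A I :=
    { smul := fun a k => ⟨(a : G) * k * (a : G)⁻¹, hact a a.2 k k.2⟩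
      one_smul := fun k => Subtype.ext (show (1 : G) * k * (1 : G)⁻¹ = k by group)
      mul_smul := fun a b k => Subtype.ext
        (show (a : G) * b * k * ((a : G) * b)⁻¹ = a * (b * k * (b : G)⁻¹) * (a : G)⁻¹ by group) }
  have hone : (⟨1, one_mem Q, by rw [mul_one, ht, inv_one]⟩ : I) ∈ MulAction.fixedPoints A I :=
    fun a => Subtype.ext (show (a : G) * 1 * (a : G)⁻¹ = 1 by group)
  obtain ⟨⟨k, hk⟩, hkfix, hkne⟩ := hA.exists_fixed_point_of_prime_dvd_card_of_fixed_point I hqI hone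
  refine hkne (Subtype.ext (h k hk.1 hk.2 fun a ha => ?_).symm)
  exact mul_inv_eq_iff_eq_mul.1 (congrArg Subtype.val (hkfix ⟨a, ha⟩))

namespace KMin

variable (hK : KMin G) (Φ : KFrame G)
include hK

theorem rot_W : Φ.rot.W = Φ.W := by
  ext x
  rw [hK.mem_W Φ.rot, hK.mem_W Φ]
  constructor
  · rintro ⟨a, b, c⟩
    have h : Commute (Φ.rot.t * Φ.rot.u) x := a.mul_left b
    rw [Φ.rot_v] at h
    exact ⟨h, a, c⟩
  · exact fun ⟨a, b, c⟩ => ⟨b, a.mul_left b, c⟩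

theorem map_C : Φ.C.map (MulAut.conj Φ.g).toMonoidHom = Φ.rot.C := by
  ext x
  rw [Cfsg.Lib.Core.mem_map_conj, Φ.mem_C, Φ.rot.mem_C]
  constructor
  · intro h
    have := fixed_conj (h := Φ.g) h
    rwa [Φ.gt, show Φ.g * (Φ.g⁻¹ * x * Φ.g) * Φ.g⁻¹ = x by group] at this
  · intro h
    have := fixed_conj (h := Φ.g⁻¹) h
    rwa [inv_inv, show Φ.g⁻¹ * Φ.rot.t * Φ.g = Φ.t from Φ.gu'] at this

theorem map_op (r : ℕ) [Fact r.Prime] :
    (Op r Φ.C).map (MulAut.conj Φ.g).toMonoidHom = Op r Φ.rot.C := by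
  rw [← op_map_conj, hK.map_C Φ]

theorem t_mem_op_two : Φ.t ∈ Op 2 Φ.C := by
  haveI : Fact (Nat.Prime 2) := ⟨Nat.prime_two⟩
  refine le_op (zpowers_le.2 Φ.t_mem_C) (fun c hc => Cfsg.Lib.Fusion.le_normalizer_of_conj_mem fun y hy => ?_)
    ?_ (mem_zpowers Φ.t)
  · obtain ⟨k, rfl⟩ := mem_zpowers_iff.1 hy
    rw [((Φ.mem_C.1 hc).zpow_left k).symm.eq, mul_inv_cancel_right]
    exact zpow_mem (mem_zpowers _) k
  · exact IsPGroup.of_card (n := 1) (by rw [Nat.card_zpowers, Φ.ht, pow_one])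

/-- An element of `O_r(N)` inverted by `t` and fixed by `u` lies in `O_r(C(u))`. -/
theorem fixed_mem_op {N : Subgroup G} (hWN : Φ.W ≤ N) {r : ℕ} [Fact r.Prime] (hr : r ≠ 2) {b : G}
    (hb : b ∈ Op r N) (hbu : Commute Φ.u b) (hbt : Φ.t * b * Φ.t = b⁻¹) : b ∈ Op r Φ.rot.C := by
  set Ψ := Φ.rot with hΨ
  have hbo : Odd (orderOf b) := conj_odd hr (op_isPGroup r N) hb
  have hbU : b ∈ Ψ.U := (hK.mem_U Ψ).2 ⟨hbu, hbo⟩
  have hbi : Ψ.u * b * Ψ.u = b⁻¹ := by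
    show Φ.t * Φ.u * b * (Φ.t * Φ.u) = b⁻¹
    rw [show Φ.t * Φ.u * b * (Φ.t * Φ.u) = Φ.t * (Φ.u * b * (Φ.t * Φ.u)) by group, Φ.hc.eq,
      show Φ.t * (Φ.u * b * (Φ.u * Φ.t)) = Φ.t * (Φ.u * b * Φ.u) * Φ.t by group, fix_of_commute Φ.uu hbu, hbt]
  haveI : (Ψ.U.subgroupOf Ψ.C).Normal := (normal_subgroupOf_iff_le_normalizer Ψ.U_le_C).2 Ψ.C_le_normalizer_U
  set Y := (Op r N ⊓ Ψ.U).subgroupOf Ψ.C with hY
  have h1 := inverted_mem_pCore (H := ↥Ψ.C) (U := Ψ.U.subgroupOf Ψ.C)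
    (by rw [Nat.card_congr (subgroupOfEquivOfLe Ψ.U_le_C).toEquiv]; exact Ψ.odd_card_U)
    (u := ⟨Ψ.u, Ψ.u_mem_C⟩) (Subtype.ext Ψ.uu) (r := r) (Y := Y)
    (((op_isPGroup r N).to_le inf_le_left).comap_of_injective Ψ.C.subtype Ψ.C.subtype_injective)
    (fun z hz => (mem_subgroupOf.1 hz).2) ?_ (y := ⟨b, Ψ.U_le_C hbU⟩)
    (mem_subgroupOf.2 ⟨hb, hbU⟩) (Subtype.ext hbi)
  · exact mem_map_of_mem Ψ.C.subtype h1
  · intro w hw hwu
    have hwW : (w : G) ∈ Φ.W := hK.rot_W Φ ▸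
      ⟨mem_subgroupOf.1 hw, mem_centralizer_singleton_iff.2 (congrArg Subtype.val hwu.eq).symm⟩
    refine mem_normalizer_iff.2 fun z => ?_
    have key : ∀ a : G, a ∈ Φ.W → ∀ z : G, z ∈ Op r N ⊓ Ψ.U → a * z * a⁻¹ ∈ Op r N ⊓ Ψ.U := fun a ha z hz =>
      ⟨conj_mem_op (hWN ha) hz.1,
        (mem_normalizer_iff.1 (Ψ.C_le_normalizer_U (Ψ.U_le_C (Ψ.W_le_U ((hK.rot_W Φ).ge ha)))) z).1 hz.2⟩
    refine ⟨fun hz => mem_subgroupOf.2 (key _ hwW _ (mem_subgroupOf.1 hz)), fun hz => mem_subgroupOf.2 ?_⟩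
    have := key _ (inv_mem hwW) _ (mem_subgroupOf.1 hz)
    rwa [Subgroup.coe_mul, Subgroup.coe_mul, InvMemClass.coe_inv,
      show (w : G)⁻¹ * ((w : G) * z * (w : G)⁻¹) * (w : G)⁻¹⁻¹ = z by group] at this

/-- If `O_q(C) ∩ W ≠ 1` and no element cycling `V` centralizes `W` then `O_q(C) ≤ W`. -/
theorem op_le_W (hgood : ¬ Φ.Bad) {q : ℕ} [Fact q.Prime] (hq : q ≠ 2) (hA : Op q Φ.C ⊓ Φ.W ≠ ⊥) :
    Op q Φ.C ≤ Φ.W := by
  haveI : Fact (Nat.Prime 2) := ⟨Nat.prime_two⟩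
  haveI := hK.min.isSimple
  haveI := Φ.klein
  set A := Op q Φ.C ⊓ Φ.W with hAdef
  set Q := Op q Φ.C with hQdef
  have hQodd : ∀ z ∈ Q, Odd (orderOf z) := fun z hz => conj_odd hq (op_isPGroup q Φ.C) hz
  have hQU : Q ≤ Φ.U := fun z hz => (hK.mem_U Φ).2 ⟨Φ.mem_C.1 (op_le q Φ.C hz), hQodd z hz⟩
  have hQu : ∀ z ∈ Q, Φ.u * z * Φ.u ∈ Q := fun z hz => by
    have := conj_mem_op Φ.u_mem_C hz
    rwa [Cfsg.Lib.Invol.inv_eq_self Φ.hu] at this
  by_contra hnot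
  -- an inverted element centralizing `A`
  obtain ⟨x, hxQ, hxu, hxA, hx1⟩ :
      ∃ x ∈ Q, Φ.u * x * Φ.u = x⁻¹ ∧ (∀ a ∈ A, Commute a x) ∧ x ≠ 1 := by
    by_contra h
    push Not at h
    refine hnot fun z hz => ⟨hQU hz, mem_centralizer_singleton_iff.2 ?_⟩
    refine (commute_of_inverted_centralized hq (op_isPGroup q Φ.C) ((op_isPGroup q Φ.C).to_le inf_le_left)
      Φ.uu hQu ?_ (fun a ha => Φ.commute_u ha.2) h z hz).eq.symm
    exact inf_le_left.trans le_normalizer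
  have hAp : IsPGroup q A := (op_isPGroup q Φ.C).to_le inf_le_left
  haveI := hAp.isNilpotent
  obtain ⟨N, hN, hle⟩ := hK.exists_max_ge_normalizer hA (inferInstance : Group.IsSolvable ↥A)
  have hWA : Φ.W ≤ normalizer (A : Set G) := fun w hw => Cfsg.Lib.Fusion.le_normalizer_of_conj_mem
    fun z hz => ⟨conj_mem_op (Φ.U_le_C (Φ.W_le_U hw)) hz.1, Φ.W.mul_mem (Φ.W.mul_mem hw hz.2) (Φ.W.inv_mem hw)⟩
  have hcA : ∀ z : G, (∀ a ∈ A, Commute a z) → z ∈ N := fun z hz =>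
    hle (centralizer_le_normalizer _ (mem_centralizer_iff.2 fun a ha => (hz a ha).eq))
  have hWN : Φ.W ≤ N := hWA.trans hle
  have htN : Φ.t ∈ N := hcA _ fun a ha => (Φ.commute_t (Φ.W_le_U ha.2)).symm
  have huN : Φ.u ∈ N := hcA _ fun a ha => (Φ.commute_u ha.2).symm
  have hxN : x ∈ N := hcA _ hxA
  have hxt : Commute Φ.t x := Φ.mem_C.1 (op_le q Φ.C hxQ)
  have hL : Cfsg.layer ↥N = ⊥ := by
    by_contra hL
    exact hgood (hK.exists_cycle_commute Φ hN.1 htN huN hWN hL)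
  by_cases hNC : N = Φ.C
  · -- `t` centralizes `O_q(C(u))`
    refine hnot fun z hz => ?_
    have hall : ∀ y ∈ Op q Φ.rot.C, Commute Φ.t y := by
      refine commute_of_inverted_centralized hq (op_isPGroup q _) hAp Φ.tt (fun y hy => ?_) ?_
        (fun a ha => Φ.commute_t (Φ.W_le_U ha.2)) fun y hy hyt hyA => ?_
      · have := conj_mem_op (M := Φ.rot.C) (x := Φ.t) (Φ.rot.mem_C.2 Φ.hc.symm) hy
        rwa [Cfsg.Lib.Invol.inv_eq_self Φ.ht] at this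
      · exact fun a ha => le_normalizer_op q _ (Φ.rot.mem_C.2 (Φ.commute_u ha.2))
      · exact eq_one_of_fixed_inverted Φ.tt (Φ.mem_C.1 (hNC ▸ hcA y hyA)) hyt
          (conj_odd hq (op_isPGroup q _) hy)
    have hgz : Φ.g * z * Φ.g⁻¹ ∈ Op q Φ.rot.C := hK.map_op Φ q ▸ mem_map_of_mem _ hz
    have h1 : Φ.g * z * Φ.g⁻¹ ∈ Φ.W := (hK.mem_W Φ).2 ⟨hall _ hgz, Φ.rot.mem_C.1 (op_le _ _ hgz),
      conj_odd hq (op_isPGroup q _) hgz⟩
    have := hK.g_inv_conj_mem_W Φ h1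
    rwa [show Φ.g⁻¹ * (Φ.g * z * Φ.g⁻¹) * Φ.g = z by group] at this
  -- `O_2(N) = 1`
  have hVN : Φ.V ≤ N := Φ.V_le htN huN
  have hO2 : Op 2 N = ⊥ := by
    by_contra hne
    obtain ⟨w₀, hw₀, hw₀1⟩ := (bot_or_exists_ne_one (Op 2 N)).resolve_left hne
    have hVp : IsPGroup 2 Φ.V := IsPGroup.of_card (n := 2) (by rw [Φ.card_V]; norm_num)
    have hP : IsPGroup 2 ↥(Op 2 N ⊔ Φ.V) :=
      IsPGroup.to_sup_of_normal_left' (op_isPGroup 2 N) hVp (hVN.trans (le_normalizer_op 2 N))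
    obtain ⟨P, hP'⟩ := hP.exists_le_sylow
    have hPV : Φ.V = (P : Subgroup G) := eq_of_le_of_card_ge (le_sup_right.trans hP')
      (by rw [(hK.sylow_klein P).card, Φ.card_V])
    have hin : ∀ w ∈ Op 2 N, w ∈ Φ.V := fun w hw => hPV ▸ hP' (mem_sup_left hw)
    have hxo : Odd (orderOf x) := hQodd x hxQ
    have hfix : ∀ w ∈ Op 2 N, w ≠ 1 → w = Φ.t := by
      intro w hw h1
      by_contra hwt
      have hwx : x * w * x⁻¹ ∈ Φ.V := hin _ (conj_mem_op hxN hw)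
      have hwx1 : x * w * x⁻¹ ≠ 1 := fun h => h1 (by simpa using h)
      have hwxt : x * w * x⁻¹ ≠ Φ.t := fun h => hwt (by
        have h' : x * w * x⁻¹ = x * Φ.t * x⁻¹ := by rw [h, ← hxt.eq, mul_inv_cancel_right]
        simpa using h')
      have hsq : Commute (x * x) w := by
        have e1 : x * (x * w * x⁻¹) * x⁻¹ ∈ Φ.V := hin _ (conj_mem_op hxN (conj_mem_op hxN hw))
        have e2 : x * (x * w * x⁻¹) * x⁻¹ = w := by
          by_cases hcw : x * w * x⁻¹ = w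
          · rw [hcw, hcw]
          rcases Φ.V_cases (hin w hw) h1 with rfl | rfl | rfl
          · exact absurd rfl hwt
          · rcases Φ.V_cases hwx hwx1 with h | h | h
            · exact absurd h hwxt
            · exact absurd h hcw
            · rw [h, show x * (Φ.t * Φ.u) * x⁻¹ = (x * Φ.t * x⁻¹) * (x * Φ.u * x⁻¹) by group, h,
                ← hxt.eq, mul_inv_cancel_right, ← mul_assoc, Φ.tt, one_mul]
          · rcases Φ.V_cases hwx hwx1 with h | h | h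
            · exact absurd h hwxt
            · rw [h]
              calc x * Φ.u * x⁻¹ = x * (Φ.t * (Φ.t * Φ.u)) * x⁻¹ := by rw [Φ.t_mul_v]
                _ = (x * Φ.t * x⁻¹) * (x * (Φ.t * Φ.u) * x⁻¹) := by group
                _ = _ := by rw [h, ← hxt.eq, mul_inv_cancel_right]
            · exact absurd h hcw
        show _ = _
        calc x * x * w = x * (x * w * x⁻¹) * x⁻¹ * (x * x) := by group
          _ = w * (x * x) := by rw [e2]
      have hc := commute_of_sq_commute hxo hsq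
      have hxu' : Commute Φ.u x := by
        rcases Φ.V_cases (hin w hw) h1 with rfl | rfl | rfl
        · exact absurd rfl hwt
        · exact hc.symm
        · have := hxt.mul_left hc.symm
          rwa [Φ.t_mul_v] at this
      exact hx1 (eq_one_of_fixed_inverted Φ.uu hxu' hxu hxo)
    refine hNC ((hN.le_iff.1 ((fun n hn => ?_ : N ≤ Φ.C))).resolve_left (hK.C_ne_top Φ) |>.symm)
    have ht2 : Φ.t ∈ Op 2 N := hfix w₀ hw₀ hw₀1 ▸ hw₀
    have := hfix _ (conj_mem_op hn ht2) fun h => Cfsg.Lib.Invol.ne_one Φ.ht (by simpa using h)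
    exact Φ.mem_C.2 (mul_inv_eq_iff_eq_mul.1 this).symm
  have hopodd : ∀ {r : ℕ}, r.Prime → ∀ z ∈ Op r N, Odd (orderOf z) := fun {r} hr z hz => by
    by_cases h : r = 2
    · subst h
      rw [hO2, mem_bot] at hz
      simp [hz]
    · haveI : Fact r.Prime := ⟨hr⟩
      exact conj_odd h (op_isPGroup r N) hz
  obtain ⟨r, hr, z, hz, hzt⟩ : ∃ r, r.Prime ∧ ∃ z ∈ Op r N, ¬ Commute Φ.t z := by
    by_contra h
    push Not at h
    have htF := mem_map_of_mem N.subtype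
      (Cfsg.Agent.S1312.mem_fitting_of_commute hL ⟨Φ.t, htN⟩ fun r hr m hm => (h r hr.out m hm).eq)
    have := Cfsg.Lib.Sig.BenderPair.mem_op_of_fitting (s := 2) htF ⟨1, by
      show Φ.t ^ 2 ^ 1 = 1
      rw [pow_one, pow_two, Φ.tt]⟩
    rw [hO2, mem_bot] at this
    exact Cfsg.Lib.Invol.ne_one Φ.ht this
  haveI : Fact r.Prime := ⟨hr⟩
  have hr2 : r ≠ 2 := by
    rintro rfl
    rw [hO2, mem_bot] at hz
    exact hzt (hz ▸ Commute.one_right _)
  have hconj : ∀ s ∈ N, s * s = 1 → ∀ y ∈ Op r N, s * y * s ∈ Op r N := fun s hs hss y hy => by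
    have := conj_mem_op hs hy
    rwa [inv_eq_of_mul_eq_one_right hss] at this
  obtain ⟨k, hk, w, hw, hkt, hwt, hzkw⟩ := exists_inverted_mul_fixed Φ.tt (fun y hy => hopodd hr y hy) hz
    (hconj _ htN Φ.tt z hz)
  have hk1 : k ≠ 1 := fun h => hzt (by rwa [hzkw, h, one_mul])
  -- some side is nontrivial
  obtain ⟨Ψ, hΨt, hΨW, hΨu, b, hb, hbu, hbt, hb1⟩ : ∃ Ψ : KFrame G, Ψ.t = Φ.t ∧ Ψ.W = Φ.W ∧
      Ψ.u ∈ N ∧ ∃ b ∈ Op r N, Commute Ψ.u b ∧ Ψ.t * b * Ψ.t = b⁻¹ ∧ b ≠ 1 := by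
    by_cases hv : ∃ y ∈ Op r N, Commute (Φ.t * Φ.u) y ∧ Φ.t * y * Φ.t = y⁻¹ ∧ y ≠ 1
    · obtain ⟨y, hy, hyv, hyt, hy1⟩ := hv
      exact ⟨Φ.swap, rfl, Φ.swap_W, mul_mem htN huN, y, hy, hyv, hyt, hy1⟩
    · push Not at hv
      exact ⟨Φ, rfl, rfl, huN, k, hk, commute_u_of_no_v Φ (Op r N) (fun y hy => hopodd hr y hy)
        (fun y hy => hconj _ huN Φ.uu y hy) (fun y hy hyt hc => hv y hy hc hyt) hk hkt, hkt, hk1⟩
  have hbop := hK.fixed_mem_op Ψ (hΨW ▸ hWN) hr2 hb hbu hbt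
  have hCeq : Ψ.C = Φ.C := by rw [KFrame.C, KFrame.C, hΨt]
  have hrne : Op r Φ.C ≠ ⊥ := fun h => hb1 (by
    rw [← hK.map_op Ψ r, hCeq, h, Subgroup.map_bot, mem_bot] at hbop
    exact hbop)
  have h2ne : Op 2 Φ.C ≠ ⊥ := fun h => Cfsg.Lib.Invol.ne_one Φ.ht (mem_bot.1 (h ▸ hK.t_mem_op_two Φ))
  haveI := hK.solvable_C Φ
  have hleft := op_le_left (q := r) (r := 2) (hK.isCoatom_C Φ) (Q := A) (N := N)
    (inf_le_left.trans (op_le_fitting Φ.C q)) (inf_le_right.trans hle) hr2 hrne h2ne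
  exact hk1 (eq_one_of_fixed_inverted Φ.tt (Φ.mem_C.1 (hleft hk)) hkt (hopodd hr k hk))

/-- Without an element cycling `V` and centralizing `W` the inverted elements of `U` commute. -/
theorem commute_inverted (hgood : ¬ Φ.Bad) {x y : G} (hx : x ∈ Φ.U) (hxu : Φ.u * x * Φ.u = x⁻¹)
    (hy : y ∈ Φ.U) (hyu : Φ.u * y * Φ.u = y⁻¹) : Commute x y := by
  haveI : Fact (Nat.Prime 2) := ⟨Nat.prime_two⟩
  haveI := hK.solvable_C Φ
  have key : ∀ k ∈ Φ.U, Φ.u * k * Φ.u = k⁻¹ → ∀ q : ℕ, q.Prime → ∀ z ∈ Op q Φ.C, Commute k z := by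
    intro k hk hku q hq z hz
    haveI : Fact q.Prime := ⟨hq⟩
    have hkc : k * z * k⁻¹ ∈ Op q Φ.C := conj_mem_op (Φ.U_le_C hk) hz
    by_cases hq2 : q = 2
    · subst hq2
      refine mul_inv_eq_iff_eq_mul.1 (mul_inv_eq_one.1 ?_)
      have h1 : k * z * k⁻¹ * z⁻¹ ∈ Φ.U := by
        rw [show k * z * k⁻¹ * z⁻¹ = k * (z * k⁻¹ * z⁻¹) by group]
        exact mul_mem hk ((mem_normalizer_iff.1 (Φ.C_le_normalizer_U (op_le 2 Φ.C hz)) _).1 (inv_mem hk))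
      obtain ⟨j, hj⟩ := IsPGroup.iff_orderOf.1 (op_isPGroup 2 Φ.C) ⟨_, mul_mem hkc (inv_mem hz)⟩
      rw [Subgroup.orderOf_mk] at hj
      exact orderOf_eq_one_iff.1 (Nat.eq_one_of_dvd_coprimes
        ((Nat.coprime_two_left.2 (Φ.odd_of_mem h1)).pow_left j) hj.dvd (dvd_refl _))
    have hqu : ∀ m ∈ Op q Φ.C, Φ.u * m * Φ.u ∈ Op q Φ.C := fun m hm => by
      have := conj_mem_op Φ.u_mem_C hm
      rwa [Cfsg.Lib.Invol.inv_eq_self Φ.hu] at this
    by_cases hA : Op q Φ.C ⊓ Φ.W = ⊥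
    · have hinv : ∀ m ∈ Op q Φ.C, Φ.u * m * Φ.u = m⁻¹ := fun m hm =>
        inverts_of_fixed_trivial Φ.uu hqu (fun a ha hc => mem_bot.1 (hA ▸ (show a ∈ Op q Φ.C ⊓ Φ.W from
          ⟨ha, (hK.mem_U Φ).2 ⟨Φ.mem_C.1 (op_le q Φ.C ha), conj_odd hq2 (op_isPGroup q Φ.C) ha⟩,
            mem_centralizer_singleton_iff.2 hc.symm.eq⟩))) hm
      exact commute_of_inverted_inverted Φ.uu hku (hinv z hz) (hinv _ hkc) (Φ.odd_of_mem hk)
    · have hle := hK.op_le_W Φ hgood hq2 hA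
      exact commute_of_inverted_fixed Φ.uu hku (Φ.commute_u (hle hz)) (Φ.commute_u (hle hkc))
        (Φ.odd_of_mem hk)
  have hy' : (⟨y, Φ.U_le_C hy⟩ : Φ.C) ∈ Cfsg.fittingSubgroup ↥Φ.C :=
    Cfsg.Agent.S1312.mem_fitting_of_commute (layer_eq_bot_of_solvable (hK.solvable_C Φ)) _
      fun r hr m hm => (key y hy hyu r hr.out m hm).eq
  have hle : (Cfsg.fittingSubgroup ↥Φ.C).map Φ.C.subtype ≤ centralizer ({x} : Set G) :=
    fitting_le_iff.2 fun q hq z hz => mem_centralizer_singleton_iff.2 (key x hx hxu q hq z hz).eq.symm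
  exact (mem_centralizer_singleton_iff.1 (hle (mem_map_of_mem Φ.C.subtype hy'))).symm

end KMin

end Cfsg.Lib.GW
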