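import Cfsg.Agent.Lib.GW.Klein.Dichotomy

/-!
# Gorenstein–Walter, Sylow four groups: extending linear characters of `W`

If no element cycling the four group centralizes `W`, the linear characters of `W` extend to `U`, against
the two theorems on linear characters of `U`.
-/

set_option autoImplicit false
set_option linter.style.haveILetI false
set_option linter.unusedSectionVars false

namespace Cfsg.Lib.GW

open Cfsg Subgroup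

universe u

variable {G : Type u} [Group G]

namespace KFrame

variable [Finite G] (Φ : KFrame G)

/-- A frame with the same `t` and `u`, centralizing `W`, out of `Bad`. -/
theorem Bad.exists_frame (h : Φ.Bad) : ∃ Ψ : KFrame G, Ψ.t = Φ.t ∧ Ψ.u = Φ.u ∧ Ψ.W = Φ.W ∧
    ∀ w ∈ Ψ.W, Commute Ψ.g w := by
  obtain ⟨g, h1, h2, h3⟩ := h
  exact ⟨⟨Φ.t, Φ.u, g, Φ.ht, Φ.hu, Φ.hne, Φ.hc, h1, h2⟩, rfl, rfl, rfl, h3⟩

end KFrame

namespace KMin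

variable [Finite G] (hK : KMin G) (Φ : KFrame G)
include hK

/-- Some element cycling `V` centralizes `W`. -/
theorem bad (hW : Φ.W ≠ ⊥) : Φ.Bad := by
  classical
  haveI := Φ.klein
  by_contra hgood
  letI := Fintype.ofFinite G
  haveI := hK.solvable_C Φ
  have hWs : Group.IsSolvable ↥Φ.W := Cfsg.Lib.Core.isSolvable_of_le (Φ.W_le_U.trans Φ.U_le_C) (hK.solvable_C Φ)
  haveI : Nontrivial ↥Φ.W := (Subgroup.nontrivial_iff_ne_bot _).2 hW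
  haveI := hWs
  obtain ⟨w₀, hw₀⟩ := SetLike.exists_of_lt (Group.IsSolvable.commutator_lt_top_of_nontrivial ↥Φ.W)
  haveI : IsMulCommutative (Abelianization ↥Φ.W) := ⟨⟨mul_comm⟩⟩
  have hab : (Abelianization.of w₀ : Abelianization ↥Φ.W) ≠ 1 := fun h => hw₀.2 (by
    rw [← Abelianization.ker_of]
    exact MonoidHom.mem_ker.2 h)
  obtain ⟨ξ, hξ⟩ := CommGroup.exists_apply_ne_one_of_hasEnoughRootsOfUnity (Abelianization ↥Φ.W) ℂ hab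
  let ψ : ↥Φ.W →* ℂˣ := ξ.comp Abelianization.of
  have hψ : ψ w₀ ≠ 1 := hξ
  -- the decomposition
  have hdec : ∀ y : ↥Φ.U, ∃ w : ↥Φ.W, Φ.u * ((y : G) * (w : G)⁻¹) * Φ.u = ((y : G) * (w : G)⁻¹)⁻¹ := by
    intro y
    obtain ⟨k, -, w, hw, hk, hkw, hy⟩ := exists_inverted_mul_fixed Φ.uu (fun z hz => Φ.odd_of_mem hz) y.2
      (Φ.u_conj_mem y.2)
    exact ⟨⟨w, hw, mem_centralizer_singleton_iff.2 hkw.eq.symm⟩, by rw [hy, mul_inv_cancel_right]; exact hk⟩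
  choose π hπ using hdec
  have huniq : ∀ (y : ↥Φ.U) (w : ↥Φ.W),
      Φ.u * ((y : G) * (w : G)⁻¹) * Φ.u = ((y : G) * (w : G)⁻¹)⁻¹ → π y = w := by
    intro y w hw
    have hk : (y : G) * (π y : G)⁻¹ ∈ Φ.U := mul_mem y.2 (inv_mem (Φ.W_le_U (π y).2))
    have hk' : (y : G) * (w : G)⁻¹ ∈ Φ.U := mul_mem y.2 (inv_mem (Φ.W_le_U w.2))
    have hc := hK.commute_inverted Φ hgood hk (hπ y) hk' hw
    set k := (y : G) * (π y : G)⁻¹ with hkdef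
    set k' := (y : G) * (w : G)⁻¹ with hk'def
    have e : k'⁻¹ * k = (w : G) * (π y : G)⁻¹ := by rw [hkdef, hk'def]; group
    have hfix : Commute Φ.u (k'⁻¹ * k) := e ▸ (Φ.commute_u w.2).mul_right (Φ.commute_u (π y).2).inv_right
    have hinv : Φ.u * (k'⁻¹ * k) * Φ.u = (k'⁻¹ * k)⁻¹ := by
      calc Φ.u * (k'⁻¹ * k) * Φ.u = (Φ.u * k'⁻¹ * Φ.u) * (Φ.u * k * Φ.u) := by
            rw [show Φ.u * k'⁻¹ * Φ.u * (Φ.u * k * Φ.u) = Φ.u * k'⁻¹ * (Φ.u * Φ.u) * k * Φ.u by group, Φ.uu]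
            group
        _ = k' * k⁻¹ := by rw [inv_inverted Φ.uu hw, hπ y]
        _ = k⁻¹ * k' := hc.inv_left.eq.symm
        _ = _ := by group
    have h1 := eq_one_of_fixed_inverted Φ.uu hfix hinv (Φ.odd_of_mem (mul_mem (inv_mem hk') hk))
    rw [e, mul_inv_eq_one] at h1
    exact Subtype.ext h1.symm
  have hπmul : ∀ a b : ↥Φ.U, π (a * b) = π a * π b := by
    intro a b
    refine huniq _ _ ?_
    set k := (a : G) * (π a : G)⁻¹ with hk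
    set k' := (b : G) * (π b : G)⁻¹ with hk'
    set w := (π a : G) with hw
    have hwu : Commute Φ.u w := Φ.commute_u (π a).2
    have hk'' : Φ.u * (w * k' * w⁻¹) * Φ.u = (w * k' * w⁻¹)⁻¹ := by
      calc Φ.u * (w * k' * w⁻¹) * Φ.u = (Φ.u * w) * k' * (w⁻¹ * Φ.u) := by group
        _ = (w * Φ.u) * k' * (Φ.u * w⁻¹) := by rw [hwu.eq, ← hwu.inv_right.eq]
        _ = w * (Φ.u * k' * Φ.u) * w⁻¹ := by group
        _ = _ := by rw [show Φ.u * k' * Φ.u = k'⁻¹ from hπ b]; group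
    have hkU : k ∈ Φ.U := mul_mem a.2 (inv_mem (Φ.W_le_U (π a).2))
    have hwk : w * k' * w⁻¹ ∈ Φ.U :=
      mul_mem (mul_mem (Φ.W_le_U (π a).2) (mul_mem b.2 (inv_mem (Φ.W_le_U (π b).2))))
        (inv_mem (Φ.W_le_U (π a).2))
    have hc := hK.commute_inverted Φ hgood hkU (hπ a) hwk hk''
    have e : ((a * b : ↥Φ.U) : G) * ((π a * π b : ↥Φ.W) : G)⁻¹ = k * (w * k' * w⁻¹) := by
      rw [Subgroup.coe_mul, Subgroup.coe_mul, hk, hk', hw]; group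
    rw [e]
    calc Φ.u * (k * (w * k' * w⁻¹)) * Φ.u = (Φ.u * k * Φ.u) * (Φ.u * (w * k' * w⁻¹) * Φ.u) := by
          rw [show Φ.u * k * Φ.u * (Φ.u * (w * k' * w⁻¹) * Φ.u) =
            Φ.u * k * (Φ.u * Φ.u) * (w * k' * w⁻¹) * Φ.u by group, Φ.uu]
          group
      _ = _ := by rw [hπ a, hk'', ← mul_inv_rev, hc.eq]
  have hπW : ∀ w (hw : w ∈ Φ.W), π ⟨w, Φ.W_le_U hw⟩ = ⟨w, hw⟩ := fun w hw => huniq _ _ (by
    simp [Φ.uu])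
  let ext' : (↥Φ.W →* ℂˣ) → G → ℂ := fun χ y => if hy : y ∈ Φ.U then (χ (π ⟨y, hy⟩) : ℂ) else 0
  have hext : ∀ (χ : ↥Φ.W →* ℂˣ) y (hy : y ∈ Φ.U), ext' χ y = (χ (π ⟨y, hy⟩) : ℂ) := fun χ y hy => dif_pos hy
  have hπ1 : π 1 = 1 := by
    have := hπmul 1 1
    rw [mul_one] at this
    exact left_eq_mul.1 this
  have hπu : ∀ y (hy : y ∈ Φ.U), π ⟨Φ.u * y * Φ.u, Φ.u_conj_mem hy⟩ = π ⟨y, hy⟩ := by
    intro y hy
    refine huniq _ _ ?_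
    set w := (π ⟨y, hy⟩ : G) with hw
    have hwu : Commute Φ.u w := Φ.commute_u (π ⟨y, hy⟩).2
    have hk : Φ.u * (y * w⁻¹) * Φ.u = (y * w⁻¹)⁻¹ := hπ ⟨y, hy⟩
    show Φ.u * (Φ.u * y * Φ.u * w⁻¹) * Φ.u = (Φ.u * y * Φ.u * w⁻¹)⁻¹
    have e : Φ.u * y * Φ.u * w⁻¹ = (y * w⁻¹)⁻¹ := by
      rw [← hk, show Φ.u * (y * w⁻¹) * Φ.u = Φ.u * y * (w⁻¹ * Φ.u) by group, ← hwu.inv_right.eq]
      group
    rw [e, inv_inverted Φ.uu hk, inv_inv]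
  have hlin : ∀ χ : ↥Φ.W →* ℂˣ, Φ.Lin (ext' χ) := by
    intro χ
    refine ⟨?_, fun a ha b hb => ?_, fun c hc y hy => ?_⟩
    · rw [hext χ 1 (one_mem _), show (⟨1, one_mem _⟩ : Φ.U) = 1 from rfl, hπ1, map_one, Units.val_one]
    · rw [hext χ _ (mul_mem ha hb), hext χ a ha, hext χ b hb,
        show (⟨a * b, mul_mem ha hb⟩ : Φ.U) = ⟨a, ha⟩ * ⟨b, hb⟩ from rfl, hπmul, map_mul, Units.val_mul]
    · obtain ⟨v, hv, x, hx, rfl⟩ := hK.exists_mul_of_mem_C Φ hc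
      have hxy : x * y * x⁻¹ ∈ Φ.U := mul_mem (mul_mem hx hy) (inv_mem hx)
      have h1 : χ (π ⟨x * y * x⁻¹, hxy⟩) = χ (π ⟨y, hy⟩) := by
        rw [show (⟨x * y * x⁻¹, hxy⟩ : Φ.U) = ⟨x, hx⟩ * ⟨y, hy⟩ * ⟨x, hx⟩⁻¹ from rfl, hπmul, hπmul,
          map_mul, map_mul]
        have h2 : χ (π (⟨x, hx⟩ : Φ.U)) * χ (π (⟨x, hx⟩ : Φ.U)⁻¹) = 1 := by
          rw [← map_mul, ← hπmul, mul_inv_cancel, hπ1, map_one]
        rw [mul_right_comm, h2, one_mul]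
      have hcc : v * x * y * (v * x)⁻¹ = v * (x * y * x⁻¹) * v⁻¹ := by group
      have huc : ∀ z, (hz : z ∈ Φ.U) → v * z * v⁻¹ = z ∨ v * z * v⁻¹ = Φ.u * z * Φ.u := by
        intro z hz
        have htz := fix_of_commute Φ.tt (Φ.commute_t hz)
        rcases eq_or_ne v 1 with rfl | hv1
        · left; group
        rcases Φ.V_cases hv hv1 with rfl | rfl | rfl
        · left; rwa [Cfsg.Lib.Invol.inv_eq_self Φ.ht]
        · right; rw [Cfsg.Lib.Invol.inv_eq_self Φ.hu]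
        · right
          rw [mul_inv_rev, Cfsg.Lib.Invol.inv_eq_self Φ.ht, Cfsg.Lib.Invol.inv_eq_self Φ.hu,
            show Φ.t * Φ.u * z * (Φ.u * Φ.t) = Φ.t * (Φ.u * z * Φ.u) * Φ.t by group]
          exact fix_of_commute Φ.tt (Φ.commute_t (Φ.u_conj_mem hz))
      rw [hext χ y hy, hcc]
      rcases huc _ hxy with h | h <;> rw [h]
      · rw [hext χ _ hxy, h1]
      · rw [hext χ _ (Φ.u_conj_mem hxy), hπu _ hxy, h1]
  -- the action of `g`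
  let σ : ↥Φ.W →* ↥Φ.W := MonoidHom.mk' (fun w => ⟨Φ.g * w * Φ.g⁻¹, hK.g_conj_mem_W Φ w.2⟩)
    fun a b => Subtype.ext (show Φ.g * (a * b) * Φ.g⁻¹ = Φ.g * a * Φ.g⁻¹ * (Φ.g * b * Φ.g⁻¹) by group)
  have hσ3 : ∀ w, ψ (σ (σ (σ w))) = ψ w := by
    intro w
    obtain ⟨v, hv, x, hx, hvx⟩ := hK.exists_mul_of_mem_C Φ (Φ.mem_C.2 Φ.g_cube.1)
    have hxu : Commute Φ.u x := by
      have h1 : Commute Φ.u v := Cfsg.Lib.Invol.klein_comm Φ.u_mem hv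
      rw [show x = v⁻¹ * (Φ.g * Φ.g * Φ.g) by rw [hvx]; group]
      exact h1.inv_right.mul_right Φ.g_cube.2
    have hxW : x ∈ Φ.W := ⟨hx, mem_centralizer_singleton_iff.2 hxu.eq.symm⟩
    have e : σ (σ (σ w)) = ⟨x, hxW⟩ * w * ⟨x, hxW⟩⁻¹ := by
      refine Subtype.ext ?_
      show Φ.g * (Φ.g * (Φ.g * (w : G) * Φ.g⁻¹) * Φ.g⁻¹) * Φ.g⁻¹ = x * w * x⁻¹
      rw [show Φ.g * (Φ.g * (Φ.g * (w : G) * Φ.g⁻¹) * Φ.g⁻¹) * Φ.g⁻¹ =
        (Φ.g * Φ.g * Φ.g) * w * (Φ.g * Φ.g * Φ.g)⁻¹ by group, hvx]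
      have hxw : x * w * x⁻¹ ∈ Φ.W := mul_mem (mul_mem hxW w.2) (inv_mem hxW)
      calc v * x * w * (v * x)⁻¹ = v * (x * w * x⁻¹) * v⁻¹ := by group
        _ = _ := by rw [(Φ.commute_V_W hxw hv).eq, mul_inv_cancel_right]
    rw [e, map_mul, map_mul, map_inv, mul_right_comm, mul_inv_cancel, one_mul]
  have hv : ∀ (χ : ↥Φ.W →* ℂˣ) w (hw : w ∈ Φ.W), ext' χ w = (χ ⟨w, hw⟩ : ℂ) := fun χ w hw => by
    rw [hext χ w (Φ.W_le_U hw), hπW w hw]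
  by_cases hfix : ∀ w, ψ (σ w) = ψ w
  · have h := hK.lin_fixed Φ hW (hlin ψ) (fun w hw => by
      rw [hv ψ _ (hK.g_inv_conj_mem_W Φ hw), hv ψ _ (hK.g_conj_mem_W Φ hw)]
      have e2 : σ ⟨Φ.g⁻¹ * w * Φ.g, hK.g_inv_conj_mem_W Φ hw⟩ = ⟨w, hw⟩ :=
        Subtype.ext (show Φ.g * (Φ.g⁻¹ * w * Φ.g) * Φ.g⁻¹ = w by group)
      rw [← hfix ⟨Φ.g⁻¹ * w * Φ.g, _⟩, e2,
        show (⟨Φ.g * w * Φ.g⁻¹, hK.g_conj_mem_W Φ hw⟩ : Φ.W) = σ ⟨w, hw⟩ from rfl, hfix])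
      (w₀ : G) (Φ.W_le_U w₀.2)
    rw [hv ψ _ w₀.2, Units.val_eq_one] at h
    exact hψ h
  · push Not at hfix
    obtain ⟨a, ha⟩ := hfix
    obtain ⟨b, hb⟩ : ∃ b, ψ (σ b) ≠ ψ (σ (σ b)) := by
      by_contra h
      push Not at h
      refine ha ?_
      calc ψ (σ a) = ψ (σ (σ a)) := h a
        _ = ψ (σ (σ (σ a))) := h (σ a)
        _ = ψ a := hσ3 a
    obtain ⟨c, hc⟩ : ∃ c, ψ c ≠ ψ (σ (σ c)) := by
      by_contra h
      push Not at h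
      refine ha ?_
      calc ψ (σ a) = ψ (σ (σ (σ a))) := h (σ a)
        _ = ψ a := hσ3 a
    refine hK.lin_moved Φ hW (hlin ψ) (hlin (ψ.comp σ)) (hlin ((ψ.comp σ).comp σ))
      (fun w hw => ?_) (fun w hw => ?_) (fun w hw => ?_) (Φ.W_le_U a.2) (Φ.W_le_U c.2) (Φ.W_le_U b.2)
      ?_ ?_ ?_
    · rw [hv _ w hw, hv _ _ (hK.g_conj_mem_W Φ hw)]; rfl
    · rw [hv _ w hw, hv _ _ (hK.g_conj_mem_W Φ hw)]; rfl
    · rw [hv _ w hw, hv _ _ (hK.g_conj_mem_W Φ hw)]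
      exact congrArg Units.val (hσ3 ⟨w, hw⟩).symm
    · rw [hv _ _ a.2, hv _ _ a.2]; exact fun e => ha (Units.ext e).symm
    · rw [hv _ _ c.2, hv _ _ c.2]; exact fun e => hc (Units.ext e)
    · rw [hv _ _ b.2, hv _ _ b.2]; exact fun e => hb (Units.ext e)

end KMin

end Cfsg.Lib.GW
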