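import Cfsg.Agent.Lib.GW.Klein.LineData
import Cfsg.Agent.Lib.GW.Klein.Good
import Cfsg.Agent.Lib.GW.OddMaxBender
import Cfsg.Agent.Lib.GW.OrderBound

/-!
# Gorenstein–Walter, Sylow four groups: no line of `W` in a normal subgroup of order `q²`

Let `R` be normal in `C` of order `q²`, meeting `W` in `D` of order `q`, and `X = N(D)`. The translates of
`D` by involutions of `X` and by `U` are different, so `|G : X|` is large; against the two order formulas this
leaves only the case of solvable `X` with `U ∩ X = R (W ∩ X)`, where the Fitting subgroup of `X` is centralized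
by `u`, which is impossible.
-/

set_option autoImplicit false
set_option linter.style.haveILetI false
set_option linter.unusedSectionVars false
set_option maxHeartbeats 1600000

namespace Cfsg.Lib.GW

open Cfsg Subgroup
open Cfsg.Lib.Block
open Cfsg.Agent.S1312 (Op op_le op_isPGroup le_normalizer_op)
open Cfsg.Lib.Sig.BenderPair (mem_op_of_fitting)

universe u

namespace KMin

variable {G : Type u} [Group G] [Fintype G] (hK : KMin G) (Φ : KFrame G)
include hK

theorem card_four_mul {Y T : Subgroup G} (hY : Y ≤ Φ.U) (hV : Φ.V ≤ T) (hYT : Y ≤ T)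
    (hdec : ∀ c ∈ T, ∃ v ∈ Φ.V, ∃ y ∈ Y, c = v * y) : Nat.card T = 4 * Nat.card Y := by
  let f : Φ.V × Y → T := fun p => ⟨p.1.1 * p.2.1, mul_mem (hV p.1.2) (hYT p.2.2)⟩
  have hf : Function.Bijective f := by
    constructor
    · rintro ⟨v, x⟩ ⟨v', x'⟩ h
      have h' : (v : G) * x = v' * x' := congrArg Subtype.val h
      have e : (v' : G)⁻¹ * v = x' * (x : G)⁻¹ := by
        rw [inv_mul_eq_iff_eq_mul, ← mul_assoc, ← h', mul_inv_cancel_right]
      have h1 := hK.disjoint_U_V Φ (mul_mem (hY x'.2) (inv_mem (hY x.2)))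
        (e ▸ mul_mem (inv_mem v'.2) v.2)
      rw [← e, inv_mul_eq_one] at h1
      obtain rfl : v = v' := Subtype.ext h1.symm
      exact Prod.ext rfl (Subtype.ext (mul_left_cancel h'))
    · rintro ⟨c, hc⟩
      obtain ⟨v, hv, x, hx, rfl⟩ := hdec c hc
      exact ⟨(⟨v, hv⟩, ⟨x, hx⟩), rfl⟩
  rw [← Nat.card_congr (Equiv.ofBijective f hf), Nat.card_prod, Φ.card_V]

/-- The centralizers of `t` and of `V` inside a subgroup containing `V`. -/
theorem card_C_inf {H : Subgroup G} (hV : Φ.V ≤ H) :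
    Nat.card ((Φ.C ⊓ H : Subgroup G)) = 4 * Nat.card ((Φ.U ⊓ H : Subgroup G)) ∧
      Nat.card ((centralizer (Φ.V : Set G) ⊓ H : Subgroup G)) = 4 * Nat.card ((Φ.W ⊓ H : Subgroup G)) := by
  haveI := Φ.klein
  constructor
  · refine hK.card_four_mul Φ inf_le_left (le_inf Φ.V_le_C hV) (inf_le_inf_right H Φ.U_le_C) ?_
    rintro c ⟨hc, hcH⟩
    obtain ⟨v, hv, y, hy, rfl⟩ := hK.exists_mul_of_mem_C Φ hc
    refine ⟨v, hv, y, ⟨hy, ?_⟩, rfl⟩
    have := mul_mem (inv_mem (hV hv)) hcH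
    rwa [inv_mul_cancel_left] at this
  · refine hK.card_four_mul Φ (inf_le_left.trans Φ.W_le_U)
      (le_inf (fun v hv => mem_centralizer_iff.2 fun w hw => Cfsg.Lib.Invol.klein_comm hw hv) hV)
      (inf_le_inf_right H fun w hw => mem_centralizer_iff.2 fun v hv => (Φ.commute_V_W hw hv).eq) ?_
    rintro c ⟨hc, hcH⟩
    have hct : Commute Φ.t c := mem_centralizer_iff.1 hc _ Φ.t_mem
    have hcu : Commute Φ.u c := mem_centralizer_iff.1 hc _ Φ.u_mem
    obtain ⟨v, hv, y, hy, rfl⟩ := hK.exists_mul_of_mem_C Φ (Φ.mem_C.2 hct)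
    refine ⟨v, hv, y, ⟨⟨hy, mem_centralizer_singleton_iff.2 ?_⟩, ?_⟩, rfl⟩
    · have h1 : Commute Φ.u v⁻¹ := (show Commute Φ.u v from Cfsg.Lib.Invol.klein_comm Φ.u_mem hv).inv_right
      have h2 := h1.mul_right hcu
      rw [inv_mul_cancel_left] at h2
      exact h2.symm.eq
    · have := mul_mem (inv_mem (hV hv)) hcH
      rwa [inv_mul_cancel_left] at this

/-- If the elements of `U ∩ X` inverted by `u` lie in a line, `X` is not solvable. -/
theorem line_solvable_false {q : ℕ} [Fact q.Prime] {R X : Subgroup G} (hV : Φ.V ≤ X) (hg : Φ.g ∈ X)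
    (hRU : R ≤ Φ.U) (hRX : R ≤ X) (hR : Nat.card R = q ^ 2)
    (hnorm : ∀ z : G, z ∈ X → Φ.t * z * Φ.t = z⁻¹ → Odd (orderOf z) →
      ∀ y ∈ R, y ∉ Φ.W → Commute z y → z = 1)
    (hI : ∀ y ∈ Φ.U, y ∈ X → Φ.u * y * Φ.u = y⁻¹ → y ∈ R)
    {e : G} (he : e ∈ R) (hei : Φ.u * e * Φ.u = e⁻¹) (he1 : e ≠ 1)
    (hs : Group.IsSolvable X) : False := by
  haveI : Fact (Nat.Prime 2) := ⟨Nat.prime_two⟩
  haveI := Φ.klein
  have htX : Φ.t ∈ X := hV Φ.t_mem
  have huX : Φ.u ∈ X := hV Φ.u_mem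
  have hall : ∀ r : ℕ, r.Prime → ∀ m ∈ Op r X, Commute Φ.u m := by
    intro r hr
    haveI : Fact r.Prime := ⟨hr⟩
    have hconj : ∀ s ∈ X, ∀ m ∈ Op r X, s * m * s⁻¹ ∈ Op r X := fun s hs m hm =>
      (mem_normalizer_iff.1 (le_normalizer_op r X hs) m).1 hm
    by_cases hr2 : r = 2
    · subst hr2
      have hP : IsPGroup 2 ↥(Op 2 X ⊔ Φ.V) :=
        IsPGroup.to_sup_of_normal_left' (op_isPGroup 2 X)
          (IsPGroup.of_card (n := 2) (by rw [Φ.card_V]; norm_num)) (hV.trans (le_normalizer_op 2 X))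
      obtain ⟨P, hP'⟩ := hP.exists_le_sylow
      have hPV : Φ.V = (P : Subgroup G) := eq_of_le_of_card_ge (le_sup_right.trans hP')
        (by rw [(hK.sylow_klein P).card, Φ.card_V])
      exact fun m hm => Cfsg.Lib.Invol.klein_comm Φ.u_mem (hPV ▸ hP' (mem_sup_left hm))
    set S := Op r X with hSdef
    have hodd : ∀ m ∈ S, Odd (orderOf m) := fun m hm => conj_odd hr2 (op_isPGroup r X) hm
    have hsX : ∀ m ∈ S, m ∈ X := fun m hm => op_le r X hm
    have hmove : ∀ s ∈ X, s * s = 1 → ∀ m ∈ S, s * m * s ∈ S := fun s hs hss m hm => by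
      have := hconj s hs m hm
      rwa [inv_eq_of_mul_eq_one_right hss] at this
    have hgfix : ∀ m ∈ S, Φ.g⁻¹ * m * Φ.g ∈ S ∧ Φ.g * m * Φ.g⁻¹ ∈ S := fun m hm => by
      refine ⟨?_, hconj _ hg m hm⟩
      have := hconj _ (inv_mem hg) m hm
      rwa [inv_inv] at this
    -- no element fixed by `t` is inverted by `u`
    have hA : ∀ y ∈ S, Commute Φ.t y → Φ.u * y * Φ.u = y⁻¹ → y = 1 := by
      intro y hy hyt hyu
      by_contra hy1
      have hyR : y ∈ R := hI y ((hK.mem_U Φ).2 ⟨hyt, hodd y hy⟩) (hsX y hy) hyu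
      have hyW : y ∉ Φ.W := fun h => hy1 (eq_one_of_fixed_inverted Φ.uu (Φ.commute_u h) hyu (hodd y hy))
      haveI : Group.IsNilpotent ↥S := (op_isPGroup r X).isNilpotent
      have hcent : ∀ n, ∀ z ∈ Subgroup.upperCentralSeries ↥S n, Commute Φ.t (z : G) := by
        intro n
        induction n with
        | zero =>
          intro z hz
          rw [Subgroup.upperCentralSeries_zero, mem_bot] at hz
          rw [hz]
          exact Commute.one_right _
        | succ n ih =>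
          intro z hz
          have hHconj : ∀ w : ↥S, w ∈ Subgroup.upperCentralSeries ↥S (n + 1) →
              (⟨Φ.t * w * Φ.t, hmove _ htX Φ.tt w w.2⟩ : ↥S) ∈ Subgroup.upperCentralSeries ↥S (n + 1) := by
            intro w hw
            rw [Subgroup.mem_upperCentralSeries_succ_iff] at hw ⊢
            intro s
            have hc := hw ⟨Φ.t * s * Φ.t, hmove _ htX Φ.tt s s.2⟩
            have hf := ih _ hc
            convert hc using 1
            apply Subtype.ext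
            simp only [commutatorElement_def, Subgroup.coe_mul, Subgroup.coe_inv] at hf ⊢
            have hti : Φ.t⁻¹ = Φ.t := inv_eq_of_mul_eq_one_right Φ.tt
            calc Φ.t * (w : G) * Φ.t * (s : G) * (Φ.t * (w : G) * Φ.t)⁻¹ * (s : G)⁻¹
                = Φ.t * ((w : G) * (Φ.t * (s : G) * Φ.t) * (w : G)⁻¹ * (Φ.t * (s : G) * Φ.t)⁻¹) * Φ.t⁻¹ := by
                  rw [show (Φ.t * (s : G) * Φ.t)⁻¹ = Φ.t⁻¹ * (s : G)⁻¹ * Φ.t⁻¹ by group, hti,
                    show (Φ.t * (w : G) * Φ.t)⁻¹ = Φ.t⁻¹ * (w : G)⁻¹ * Φ.t⁻¹ by group, hti]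
                  simp only [mul_assoc, Φ.tt, mul_one]
              _ = _ := by rw [hf.eq, mul_inv_cancel_right]
          obtain ⟨k, hkH, w, -, hkt, hwt, hzkw⟩ := exists_inverted_mul_fixed (H := (Subgroup.upperCentralSeries ↥S (n + 1)).map S.subtype)
            Φ.tt (fun a ha => hodd a (map_subtype_le _ ha)) (mem_map_of_mem S.subtype hz)
            ⟨_, hHconj z hz, rfl⟩
          obtain ⟨k', hk', rfl⟩ := hkH
          have hc := ih _ ((Subgroup.mem_upperCentralSeries_succ_iff.1 hk') ⟨y, hy⟩)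
          simp only [commutatorElement_def, Subgroup.coe_mul, Subgroup.coe_inv] at hc
          have hky : Commute Φ.t ((k' : G) * y * (k' : G)⁻¹) := by
            have := hc.mul_right hyt
            rwa [inv_mul_cancel_right] at this
          have hcomm := commute_of_inverted_fixed Φ.tt hkt hyt hky (hodd _ k'.2)
          have hk1 : (k' : G) = 1 := hnorm _ (hsX _ k'.2) hkt (hodd _ k'.2) y hyR hyW hcomm
          show Commute Φ.t (S.subtype z)
          rw [hzkw, show S.subtype k' = 1 from hk1, one_mul]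
          exact hwt
      obtain ⟨N, hN⟩ := Group.IsNilpotent.nilpotent ↥S
      have hfix : ∀ m ∈ S, Commute Φ.t m := fun m hm => hcent N ⟨m, hm⟩ (hN ▸ mem_top _)
      have h1 := fixed_conj (h := Φ.g) (hfix _ (hgfix y hy).1)
      rw [Φ.gt, show Φ.g * (Φ.g⁻¹ * y * Φ.g) * Φ.g⁻¹ = y by group] at h1
      exact hy1 (eq_one_of_fixed_inverted Φ.uu h1 hyu (hodd y hy))
    -- the fixed points of the three involutions agree
    have htu : ∀ m ∈ S, Commute Φ.t m → Commute Φ.u m := by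
      intro m hm hmt
      obtain ⟨k, hk, w, -, hku, hwu, hkw⟩ := exists_inverted_mul_fixed (H := S ⊓ centralizer ({Φ.t} : Set G))
        Φ.uu (fun a ha => hodd a ha.1) (x := m) ⟨hm, mem_centralizer_singleton_iff.2 hmt.eq.symm⟩
        ⟨hmove _ huX Φ.uu m hm, mem_centralizer_singleton_iff.2
          (((Φ.hc.mul_right hmt).mul_right Φ.hc).eq.symm)⟩
      rw [hkw, hA k hk.1 (show Commute k Φ.t from mem_centralizer_singleton_iff.1 hk.2).symm hku, one_mul]
      exact hwu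
    have hut : ∀ m ∈ S, Commute Φ.u m → Commute Φ.t m := by
      intro m hm hmu
      have h0 : Commute Φ.t (Φ.g⁻¹ * m * Φ.g) := by
        have := fixed_conj (h := Φ.g⁻¹) hmu
        rwa [inv_inv, Φ.gu'] at this
      have h1 := fixed_conj (h := Φ.g) (htu _ (hgfix m hm).1 h0)
      rw [Φ.gu, show Φ.g * (Φ.g⁻¹ * m * Φ.g) * Φ.g⁻¹ = m by group] at h1
      have h2 := h1.mul_left hmu
      rwa [mul_assoc, Φ.uu, mul_one] at h2
    have hvt : ∀ m ∈ S, Commute (Φ.t * Φ.u) m → Commute Φ.t m := by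
      intro m hm hmv
      have h0 : Commute Φ.t (Φ.g * m * Φ.g⁻¹) := by
        have := fixed_conj (h := Φ.g) hmv
        rwa [Φ.gv] at this
      have h1 := fixed_conj (h := Φ.g⁻¹) (htu _ (hgfix m hm).2 h0)
      rwa [inv_inv, Φ.gu', show Φ.g⁻¹ * (Φ.g * m * Φ.g⁻¹) * Φ.g = m by group] at h1
    intro m hm
    refine htu m hm ?_
    obtain ⟨k, hk, w, -, hkt, hwt, hkw⟩ := exists_inverted_mul_fixed (H := S) Φ.tt hodd hm
      (hmove _ htX Φ.tt m hm)
    have hku := commute_u_of_no_v Φ S hodd (fun z hz => hmove _ huX Φ.uu z hz)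
      (fun z hz hzt hzv => eq_one_of_fixed_inverted Φ.tt (hvt z hz hzv) hzt (hodd z hz)) hk hkt
    rw [hkw, eq_one_of_fixed_inverted Φ.tt (hut k hk hku) hkt (hodd k hk), one_mul]
    exact hwt
  -- the inverted element lies in the Fitting subgroup
  have heX : e ∈ X := hRX he
  have hodde : Odd (orderOf e) := Φ.odd_of_mem (hRU he)
  have hcomm : ∀ r, r.Prime → ∀ m ∈ Op r X, Commute e m := fun r hr m hm =>
    commute_of_inverted_fixed Φ.uu hei (hall r hr m hm)
      (hall r hr _ ((mem_normalizer_iff.1 (le_normalizer_op r X heX) m).1 hm)) hodde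
  have hl : Cfsg.layer ↥X = ⊥ := layer_eq_bot_of_solvable hs
  have hF := OddMax.mem_fitting_of_commute hl heX hcomm
  have heq : e ∈ Op q X := mem_op_of_fitting hF ⟨2, by
    rw [← hR]
    have h1 := orderOf_dvd_natCard (⟨e, he⟩ : R)
    rw [Subgroup.orderOf_mk] at h1
    exact orderOf_dvd_iff_pow_eq_one.1 h1⟩
  exact he1 (eq_one_of_fixed_inverted Φ.uu (hall q Fact.out e heq) hei hodde)

/-- The data of the two order formulas for a subgroup. -/
theorem line_orders {X : Subgroup G} (hV : Φ.V ≤ X) (hg : Φ.g ∈ X) :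
    ∃ a b c : ℤ, a % 4 = 1 ∧ b % 4 = 1 ∧ c % 4 = 1 ∧ 1 + a + b + c = 0 ∧
      (Nat.card X : ℚ) * (1 + 1 / (a : ℚ) + 1 / (b : ℚ) + 1 / (c : ℚ)) *
          (Nat.card ((Φ.W ⊓ X : Subgroup G)) : ℚ) ^ 2 =
        32 * (Nat.card ((Φ.U ⊓ X : Subgroup G)) : ℚ) ^ 3 ∧
      ((a = 1 ∨ b = 1 ∨ c = 1) → Group.IsSolvable X) := by
  classical
  haveI : Fact (Nat.Prime 2) := ⟨Nat.prime_two⟩
  haveI := Φ.klein
  letI : Fintype X := Fintype.ofFinite X
  obtain ⟨P, hP⟩ := hK.exists_sylow_eq Φ.card_V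
  have hPX : (P : Subgroup G) ≤ X := hP.le.trans hV
  let Q : Sylow 2 X := P.subtype hPX
  have hQ : ∀ x : X, x ∈ (Q : Subgroup X) ↔ (x : G) ∈ Φ.V := fun x => by
    show x ∈ ((P.subtype _ : Sylow 2 X) : Subgroup X) ↔ _
    rw [Sylow.coe_subtype, mem_subgroupOf, hP]
  haveI hQk : IsKleinFour (Q : Subgroup X) := by
    refine ⟨?_, ?_⟩
    · show Nat.card ((P : Subgroup G).subgroupOf X) = 4
      rw [Nat.card_congr (subgroupOfEquivOfLe hPX).toEquiv, hP, Φ.card_V]
    · show Monoid.exponent ((P : Subgroup G).subgroupOf X) = 2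
      rw [Monoid.exponent_eq_of_mulEquiv (subgroupOfEquivOfLe hPX), hP]
      exact IsKleinFour.exponent_two
  let tX : X := ⟨Φ.t, hV Φ.t_mem⟩
  let uX : X := ⟨Φ.u, hV Φ.u_mem⟩
  let gX : X := ⟨Φ.g, hg⟩
  have htQ : tX ∈ (Q : Subgroup X) := (hQ _).2 Φ.t_mem
  have hto : orderOf tX = 2 := by rw [← orderOf_coe]; exact Φ.ht
  have hone : OneClass X := by
    intro x y hx hy
    have key : ∀ z : X, orderOf z = 2 → IsConj tX z := by
      intro z hz
      obtain ⟨r, hr, hro, hrc⟩ := Cfsg.Lib.Invol.klein_exists_rep Q hz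
      refine IsConj.trans ?_ hrc
      rcases Φ.V_cases ((hQ r).1 hr) (fun h => Cfsg.Lib.Invol.ne_one hro (Subtype.ext h)) with h | h | h
      · rw [show r = tX from Subtype.ext h]
      · exact isConj_iff.2 ⟨gX, Subtype.ext (Φ.gt.trans h.symm)⟩
      · exact isConj_iff.2 ⟨gX⁻¹, Subtype.ext ((show Φ.g⁻¹ * Φ.t * Φ.g⁻¹⁻¹ = _ by rw [inv_inv]; exact Φ.gt').trans h.symm)⟩
    exact (key x hx).symm.trans (key y hy)
  have hPc : KleinCond Q :=
    ⟨hQk.card_four, fun x hx => Cfsg.Lib.Invol.klein_mul_self hx, hone⟩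
  obtain ⟨hcC, hcV⟩ := hK.card_C_inf Φ hV
  have eC : Nat.card (centralizer ({tX} : Set X)) = 4 * Nat.card ((Φ.U ⊓ X : Subgroup G)) := by
    rw [← hcC]
    exact Nat.card_congr
      { toFun := fun y => ⟨(y : X), Φ.mem_C.2
          (congrArg Subtype.val (mem_centralizer_singleton_iff.1 y.2)).symm, (y : X).2⟩
        invFun := fun y => ⟨⟨y, y.2.2⟩, mem_centralizer_singleton_iff.2
          (Subtype.ext (Φ.mem_C.1 y.2.1).eq.symm)⟩
        left_inv := fun _ => rfl
        right_inv := fun _ => rfl }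
  have eV : Nat.card (centralizer ((Q : Subgroup X) : Set X)) = 4 * Nat.card ((Φ.W ⊓ X : Subgroup G)) := by
    rw [← hcV]
    exact Nat.card_congr
      { toFun := fun y => ⟨(y : X), mem_centralizer_iff.2 fun v hv =>
          congrArg Subtype.val (mem_centralizer_iff.1 y.2 ⟨v, hV hv⟩ ((hQ _).2 hv)), (y : X).2⟩
        invFun := fun y => ⟨⟨y, y.2.2⟩, mem_centralizer_iff.2 fun v hv =>
          Subtype.ext (mem_centralizer_iff.1 y.2.1 _ ((hQ v).1 hv))⟩
        left_inv := fun _ => rfl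
        right_inv := fun _ => rfl }
  obtain ⟨M, hM⟩ := exists_isPModular Nat.prime_two
  obtain ⟨a, b, c, ha, hb, hc, hsum, hord, hlin, -⟩ := Klein.signed_data hM hPc htQ hto
  refine ⟨a, b, c, ha, hb, hc, hsum, ?_, fun h => ?_⟩
  · rw [eC, eV] at hord
    push_cast at hord
    linear_combination hord / 16
  · obtain ⟨χ, hχB, hχne, hχ1, hχt⟩ := hlin h
    obtain ⟨φ, hφ⟩ := Char.exists_hom_of_degree_one χ.2.isCharacter hχ1
    have hval : ∀ z : X, (φ z : ℂ) = (χ : X → ℂ) z := fun z => (congrFun hφ z).symm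
    have hφt : φ tX = 1 := Units.ext (by rw [hval, hχt]; simp)
    have hφu : φ uX = 1 := by
      rw [show uX = gX * tX * gX⁻¹ from Subtype.ext Φ.gt.symm, map_mul, map_mul, hφt, mul_one, map_inv,
        mul_inv_cancel]
    refine Klein.solvable_of_linear hPc htQ hto φ ?_ ?_
    · intro z hz
      have hzt : Commute Φ.t (z : G) := (congrArg Subtype.val (mem_centralizer_singleton_iff.1 hz)).symm
      obtain ⟨v, hv, y, hy, hzvy⟩ := hK.exists_mul_of_mem_C Φ (Φ.mem_C.2 hzt)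
      have hyX : y ∈ X := by
        have := mul_mem (inv_mem (hV hv)) z.2
        rwa [hzvy, inv_mul_cancel_left] at this
      have hzeq : z = ⟨v, hV hv⟩ * ⟨y, hyX⟩ := Subtype.ext hzvy
      have hφy : φ ⟨y, hyX⟩ = 1 := by
        have h1 := klein_apply_section hM hPc hto hχB (y := (⟨y, hyX⟩ : X))
          (Subtype.ext (Φ.commute_t hy).eq) (fun h => Nat.not_even_iff_odd.2 (Φ.odd_of_mem hy)
            (even_iff_two_dvd.2 (by rwa [Subgroup.orderOf_mk] at h)))
        rw [← hval, ← hval, map_mul, hφt, one_mul] at h1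
        exact Units.ext h1
      have hφv : φ ⟨v, hV hv⟩ = 1 := by
        by_cases hv1 : v = 1
        · subst hv1; exact map_one φ
        rcases Φ.V_cases hv hv1 with rfl | rfl | rfl
        · exact hφt
        · exact hφu
        · rw [show (⟨Φ.t * Φ.u, hV hv⟩ : X) = tX * uX from rfl, map_mul, hφt, hφu, one_mul]
      rw [MonoidHom.mem_ker, hzeq, map_mul, hφv, hφy, one_mul]
    · intro hφ1
      refine hχne (Subtype.ext (funext fun z => ?_))
      rw [← hval, hφ1]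
      simp [trivChar_coe]

/-- No line of `W` lies in a normal subgroup of `C` of order `q²` which is not in `W`. -/
theorem line_false (hg : ∀ w ∈ Φ.W, Commute Φ.g w) {q : ℕ} [Fact q.Prime] {D R : Subgroup G}
    (hDW : D ≤ Φ.W) (hD : Nat.card D = q) (hRU : R ≤ Φ.U) (hRn : Φ.C ≤ normalizer (R : Set G))
    (hR : Nat.card R = q ^ 2) (hRW : R ⊓ Φ.W = D) : False := by
  classical
  haveI : Fact (Nat.Prime 2) := ⟨Nat.prime_two⟩
  haveI := hK.min.isSimple
  have hq : q.Prime := Fact.out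
  have hq2 := hq.two_le
  have hDR : D ≤ R := hRW ▸ inf_le_left
  have hDU : D ≤ Φ.U := hDW.trans Φ.W_le_U
  have hDne : D ≠ ⊥ := fun h => by rw [h, card_bot] at hD; omega
  have hWne : Φ.W ≠ ⊥ := fun h => hDne (le_bot_iff.1 (h ▸ hDW))
  have hRab : ∀ a ∈ R, ∀ b ∈ R, Commute a b := fun a ha b hb =>
    congrArg Subtype.val ((IsPGroup.commutative_of_card_eq_prime_sq hR) ⟨a, ha⟩ ⟨b, hb⟩)
  set X := normalizer (D : Set G) with hXdef
  have hcenX : ∀ z : G, (∀ d ∈ D, Commute z d) → z ∈ X := fun z hz =>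
    centralizer_le_normalizer _ (mem_centralizer_iff.2 fun d hd => (hz d hd).eq.symm)
  have hV : Φ.V ≤ X := fun v hv => hcenX v fun d hd => Φ.commute_V_W (hDW hd) hv
  have hgX : Φ.g ∈ X := hcenX _ fun d hd => hg d (hDW hd)
  have hRX : R ≤ X := fun z hz => hcenX z fun d hd => hRab z hz d (hDR hd)
  have hconjD : ∀ m ∈ X, ∀ d ∈ D, m * d * m⁻¹ ∈ D := fun m hm d hd => (mem_normalizer_iff.1 hm d).1 hd
  -- `D` and one more element generate `R`
  have hgen : ∀ z : G, (∀ d ∈ D, Commute z d) → ∀ y ∈ R, y ∉ D → Commute z y → ∀ ρ ∈ R, Commute z ρ := by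
    intro z hzD y hy hyD hzy ρ hρ
    set H := R ⊓ centralizer ({z} : Set G) with hH
    have hDH : D ≤ H := fun d hd => ⟨hDR hd, mem_centralizer_singleton_iff.2 (hzD d hd).eq.symm⟩
    have hlt : D < H := lt_of_le_not_ge hDH fun h => hyD (h ⟨hy, mem_centralizer_singleton_iff.2 hzy.eq.symm⟩)
    obtain ⟨i, hi, hHc⟩ := (Nat.dvd_prime_pow hq).1 (hR ▸ card_dvd_of_le (inf_le_left : H ≤ R))
    have hi2 : i = 2 := by
      have h1 : q < q ^ i := by
        rw [← hHc, ← hD]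
        by_contra hle
        exact hlt.ne (eq_of_le_of_card_ge hDH (not_lt.1 hle))
      rcases i with _ | _ | _ | i <;> simp_all
    have hHR : H = R := eq_of_le_of_card_ge inf_le_left (by rw [hR, hHc, hi2])
    exact (show Commute ρ z from mem_centralizer_singleton_iff.1 (hHR.ge hρ).2).symm
  have hgenC : ∀ z : G, (∀ d ∈ D, Commute z d) → ∀ y ∈ R, y ∉ D → Commute z y → Commute Φ.t z := by
    intro z hzD y hy hyD hzy
    have hRne : R ≠ ⊥ := fun h => hyD (mem_bot.1 (h ▸ hy) ▸ one_mem D)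
    exact Φ.mem_C.1 (hK.mem_C_of_commute Φ hRU hRne hRn (hgen z hzD y hy hyD hzy))
  -- an element of `U` moving `D`
  have hCX : ¬ Φ.C ≤ X := fun h => hK.g_notMem_C Φ ((hK.normalizer_eq_C Φ hDU hDne h).le hgX)
  have hUX : ¬ Φ.U ≤ X := fun h => hCX fun c hc => by
    obtain ⟨v, hv, y, hy, rfl⟩ := hK.exists_mul_of_mem_C Φ hc
    exact mul_mem (hV hv) (h hy)
  have hXtop : X ≠ ⊤ := fun h => hUX (h ▸ le_top)
  -- an element of `R` inverted by `u`
  have hRu : ∀ z ∈ R, Φ.u * z * Φ.u ∈ R := fun z hz => by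
    have := (mem_normalizer_iff.1 (hRn Φ.u_mem_C) z).1 hz
    rwa [Cfsg.Lib.Invol.inv_eq_self Φ.hu] at this
  obtain ⟨e, he, hei, he1⟩ : ∃ e ∈ R, Φ.u * e * Φ.u = e⁻¹ ∧ e ≠ 1 := by
    by_contra h
    push Not at h
    have hle : R ≤ Φ.W := fun z hz => by
      obtain ⟨k, hk, w, -, hku, hwu, rfl⟩ := exists_inverted_mul_fixed (H := R) Φ.uu
        (fun a ha => Φ.odd_of_mem (hRU ha)) hz (hRu z hz)
      rw [h k hk hku, one_mul] at hz ⊢
      exact ⟨hRU hz, mem_centralizer_singleton_iff.2 hwu.eq.symm⟩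
    rw [inf_eq_left.2 hle] at hRW
    rw [hRW, hD] at hR
    have := Nat.pow_lt_pow_right hq2 (show 1 < 2 by norm_num)
    rw [pow_one] at this
    omega
  -- orbit
  set j := X.relIndex Φ.U with hjdef
  set UX := Φ.U ⊓ X with hUXdef
  set WX := Φ.W ⊓ X with hWXdef
  have hjU : Nat.card UX * j = Nat.card Φ.U := by
    rw [hjdef, ← inf_relIndex_left]
    exact Cfsg.Lib.Core.card_mul_relIndex inf_le_left
  have hUodd := Φ.odd_card_U
  have hjodd : Odd j := hUodd.of_dvd_nat ⟨_, (mul_comm _ _).trans hjU |>.symm⟩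
  have hqodd : Odd q := hUodd.of_dvd_nat (hD ▸ card_dvd_of_le hDU)
  have hj1 : j ≠ 1 := fun h => hUX (relIndex_eq_one.1 h)
  have hjcard : Nat.card (Φ.U ⧸ X.subgroupOf Φ.U) = j := rfl
  have hjq : j ≤ q := by
    haveI : Finite D := inferInstance
    have hinj : Function.Injective
        (fun p : (Φ.U ⧸ X.subgroupOf Φ.U) × {d : D // d ≠ 1} =>
          (⟨⟨(p.1.out : G) * (p.2.1 : G) * (p.1.out : G)⁻¹,
            (mem_normalizer_iff.1 (hRn (Φ.U_le_C p.1.out.2)) _).1 (hDR p.2.1.2)⟩, fun h => p.2.2 (by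
              refine Subtype.ext ?_
              exact conj_eq_one_iff.1 (congrArg Subtype.val h))⟩ : {ρ : R // ρ ≠ 1})) := by
      rintro ⟨b, d⟩ ⟨b', d'⟩ h
      have h' : (b.out : G) * (d.1 : G) * (b.out : G)⁻¹ = (b'.out : G) * (d'.1 : G) * (b'.out : G)⁻¹ :=
        congrArg Subtype.val (congrArg Subtype.val h)
      set x := (b.out : G) with hx
      set x' := (b'.out : G) with hx'
      have hz : zpowers (d.1 : G) = D := by
        refine eq_of_le_of_card_ge (zpowers_le.2 d.1.2) ?_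
        have h1 : orderOf (d.1 : G) ∣ q := by
          rw [← hD]
          exact Subgroup.orderOf_dvd_natCard _ d.1.2
        rw [hD, Nat.card_zpowers, ((Nat.dvd_prime hq).1 h1).resolve_left fun h =>
          d.2 (Subtype.ext (orderOf_eq_one_iff.1 h))]
      have hmem : x'⁻¹ * x ∈ X := Cfsg.Lib.Fusion.le_normalizer_of_conj_mem (fun z hz' => by
        rw [← hz] at hz'
        obtain ⟨i, rfl⟩ := mem_zpowers_iff.1 hz'
        rw [← conj_zpow, show x'⁻¹ * x * (d.1 : G) * (x'⁻¹ * x)⁻¹ =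
          x'⁻¹ * (x * (d.1 : G) * x⁻¹) * x' by group, h',
          show x'⁻¹ * (x' * (d'.1 : G) * x'⁻¹) * x' = (d'.1 : G) by group]
        exact zpow_mem d'.1.2 i)
      have hb : b' = b := by
        rw [← b.out_eq', ← b'.out_eq', QuotientGroup.eq, mem_subgroupOf]
        exact hmem
      subst hb
      refine Prod.ext rfl (Subtype.ext (Subtype.ext ?_))
      exact mul_left_cancel (mul_right_cancel h')
    have h1 := Nat.card_le_card_of_injective _ hinj
    have hd1 : Nat.card {d : D // d ≠ 1} + 1 = q := by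
      rw [← hD, ← Nat.card_congr (Equiv.optionSubtypeNe (1 : D)), Finite.card_option]
    have hr1 : Nat.card {ρ : R // ρ ≠ 1} + 1 = q ^ 2 := by
      rw [← hR, ← Nat.card_congr (Equiv.optionSubtypeNe (1 : R)), Finite.card_option]
    rw [Nat.card_prod, hjcard] at h1
    obtain ⟨i, hi⟩ := hjodd
    obtain ⟨l, hl⟩ := hqodd
    by_contra hlt
    have hq1 : j * (q - 1) ≤ q ^ 2 - 1 := by
      rw [show q - 1 = Nat.card {d : D // d ≠ 1} by omega]; omega
    have h2 : (q + 2) * (q - 1) ≤ j * (q - 1) := Nat.mul_le_mul_right _ (by omega)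
    obtain ⟨p, hp⟩ : ∃ p, q = p + 2 := ⟨q - 2, by omega⟩
    subst hp
    have e : (p + 2) ^ 2 = p * p + 4 * p + 4 := by ring
    have e2 : (p + 2 + 2) * (p + 2 - 1) = p * p + 5 * p + 4 := by
      rw [show p + 2 - 1 = p + 1 by omega]; ring
    omega
  have hj2 : 2 ≤ j := by
    obtain ⟨i, hi⟩ := hjodd
    omega
  -- the index `k` of `W ∩ X` in `U ∩ X`
  set k := WX.relIndex UX with hkdef
  have hWU : WX ≤ UX := inf_le_inf_right X Φ.W_le_U
  have hkU : Nat.card WX * k = Nat.card UX := Cfsg.Lib.Core.card_mul_relIndex hWU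
  have hRUX : R ≤ UX := le_inf hRU hRX
  have hDWX : WX ⊓ R = D := by
    refine le_antisymm (fun z hz => hRW ▸ ⟨hz.2, hz.1.1⟩) (le_inf (le_inf hDW (hDR.trans hRX)) hDR)
  have hqR : WX.relIndex R = q := by
    have h1 := Cfsg.Lib.Core.card_mul_relIndex (inf_le_right : WX ⊓ R ≤ R)
    rw [inf_relIndex_right, hDWX, hD, hR, pow_two] at h1
    exact Nat.eq_of_mul_eq_mul_left (by omega) h1
  set Y := R ⊔ WX with hYdef
  have hYU : Y ≤ UX := sup_le hRUX hWU
  have hkY : WX.relIndex Y * Y.relIndex UX = k := relIndex_mul_relIndex _ _ _ le_sup_right hYU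
  have hqY : q ≤ WX.relIndex Y := hqR ▸ relIndex_le_of_le_right le_sup_left
    (fun h => by rw [h, zero_mul] at hkY; rw [← hkY, mul_zero] at hkU; exact Nat.card_pos.ne hkU)
  have hYodd : Odd (Y.relIndex UX) :=
    (hUodd.of_dvd_nat (card_dvd_of_le (inf_le_left : UX ≤ Φ.U))).of_dvd_nat (relIndex_dvd_card Y UX)
  -- the two equations
  obtain ⟨M, hM⟩ := exists_isPModular Nat.prime_two
  obtain ⟨P, hP, hPV⟩ := hK.exists_kleinCond Φ
  obtain ⟨a, b, c, ha, hb, hc, hsum, hord, hlin, hthree⟩ :=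
    Klein.signed_data hM hP (hPV ▸ Φ.t_mem) Φ.ht
  have hna : ¬∀ a b : G, a * b = b * a := fun h => hK.min.nonab ⟨⟨h⟩⟩
  have hne1 : ∀ x : ℤ, x = a ∨ x = b ∨ x = c → x ≠ 1 := by
    intro x hx hx1
    obtain ⟨χ, -, hχne, hχ1, -⟩ := hlin (by rcases hx with rfl | rfl | rfl <;> simp [hx1])
    exact hχne (Twist.eq_trivChar_of_degree_one hna χ (by
      have := apply_one_eq_charDegree χ
      rw [hχ1] at this
      exact_mod_cast this.symm))
  have hne3 : ∀ x : ℤ, x = a ∨ x = b ∨ x = c → x ≠ -3 := by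
    intro x hx hx1
    obtain ⟨χ, hχ, hχ1, hχt⟩ := hthree (by rcases hx with rfl | rfl | rfl <;> simp [hx1])
    exact hK.not_three Φ hM hWne hχ hχ1 hχt
  set s : ℚ := 1 + 1 / (a : ℚ) + 1 / (b : ℚ) + 1 / (c : ℚ) with hsdef
  have hs : 5 / 7 ≤ s := Klein.sum_ge ⟨ha, hne1 a (Or.inl rfl), hne3 a (Or.inl rfl)⟩
    ⟨hb, hne1 b (Or.inr (Or.inl rfl)), hne3 b (Or.inr (Or.inl rfl))⟩
    ⟨hc, hne1 c (Or.inr (Or.inr rfl)), hne3 c (Or.inr (Or.inr rfl))⟩ hsum
  have hG : (Nat.card G : ℚ) * s * (Nat.card Φ.W : ℚ) ^ 2 = 32 * (Nat.card Φ.U : ℚ) ^ 3 := by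
    obtain ⟨-, hcV⟩ := hK.card_C_inf Φ (H := ⊤) le_top
    rw [inf_top_eq, inf_top_eq] at hcV
    rw [hPV, hcV, show centralizer ({Φ.t} : Set G) = Φ.C from rfl, hK.card_C Φ] at hord
    push_cast at hord
    linear_combination hord / 16
  obtain ⟨a', b', c', ha', hb', hc', hsum', hordX, hsolv⟩ := hK.line_orders Φ hV hgX
  set s' : ℚ := 1 + 1 / (a' : ℚ) + 1 / (b' : ℚ) + 1 / (c' : ℚ) with hs'def
  -- counting
  let tX : X := ⟨Φ.t, hV Φ.t_mem⟩
  set CX := centralizer ({tX} : Set X) with hCXdef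
  have hI : Nat.card X = CX.index * (4 * Nat.card UX) := by
    rw [← (hK.card_C_inf Φ hV).1, ← CX.index_mul_card]
    congr 1
    exact Nat.card_congr
      { toFun := fun y => ⟨(y : X), Φ.mem_C.2
          (congrArg Subtype.val (mem_centralizer_singleton_iff.1 y.2)).symm, (y : X).2⟩
        invFun := fun y => ⟨⟨y, y.2.2⟩, mem_centralizer_singleton_iff.2
          (Subtype.ext (Φ.mem_C.1 y.2.1).eq.symm)⟩
        left_inv := fun _ => rfl
        right_inv := fun _ => rfl }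
  have hcount : CX.index * (j - 1) + 1 ≤ X.index := by
    have hbne : ∀ b : Φ.U ⧸ X.subgroupOf Φ.U, b ≠ ((1 : Φ.U) : Φ.U ⧸ X.subgroupOf Φ.U) →
        ((b.out : Φ.U) : G) ∉ X := fun b hb hm => hb (by
      rw [← b.out_eq', QuotientGroup.eq, mem_subgroupOf]
      simpa using inv_mem hm)
    have hcomD : ∀ k ∈ X, ∀ d ∈ D, Commute (k * Φ.t * k⁻¹) d := fun k hk d hd => by
      have h1 := fixed_conj (h := k) (Φ.commute_t (hDU (hconjD _ (inv_mem hk) d hd)))
      rwa [inv_inv, show k * (k⁻¹ * d * k) * k⁻¹ = d by group] at h1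
    have hinj : Function.Injective
        (fun p : (X ⧸ CX) × {b : Φ.U ⧸ X.subgroupOf Φ.U // b ≠ ((1 : Φ.U) : Φ.U ⧸ X.subgroupOf Φ.U)} =>
          (⟨(((p.1.out : X) : G) * ((p.2.1.out : Φ.U) : G) : G), fun h => hbne _ p.2.2 (by
            rw [QuotientGroup.eq, mul_one] at h
            have h1 := inv_mem h
            rw [inv_inv] at h1
            have := mul_mem (inv_mem p.1.out.2) h1
            rwa [inv_mul_cancel_left] at this)⟩ : {r : G ⧸ X // r ≠ ((1 : G) : G ⧸ X)})) := by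
      rintro ⟨A, ⟨b, hb⟩⟩ ⟨A', ⟨b', hb'⟩⟩ he
      have he' : (((A.out : X) : G) * ((b.out : Φ.U) : G) : G ⧸ X) =
          ((((A'.out : X) : G) * ((b'.out : Φ.U) : G) : G) : G ⧸ X) := congrArg Subtype.val he
      rw [QuotientGroup.eq] at he'
      set h := ((A.out : X) : G) with hh
      set h' := ((A'.out : X) : G) with hh'
      set x := ((b.out : Φ.U) : G) with hx
      set x' := ((b'.out : Φ.U) : G) with hx'
      have hkX : h⁻¹ * h' ∈ X := mul_mem (inv_mem A.out.2) A'.out.2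
      set k := h⁻¹ * h' with hk
      set m := (h * x)⁻¹ * (h' * x') with hm
      have htfix : ∀ z ∈ Φ.U, z * Φ.t * z⁻¹ = Φ.t := fun z hz => by
        rw [(Φ.commute_t hz).symm.eq, mul_inv_cancel_right]
      have hm' : x⁻¹ * (k * Φ.t * k⁻¹) * x = m * Φ.t * m⁻¹ := by
        rw [show m * Φ.t * m⁻¹ = x⁻¹ * (k * (x' * Φ.t * x'⁻¹) * k⁻¹) * x by rw [hm, hk]; group,
          htfix x' b'.out.2]
      have hcomR : ∀ ρ ∈ R, Commute (k * Φ.t * k⁻¹) ρ := by
        obtain ⟨d, hd, hdx⟩ : ∃ d ∈ D, x * d * x⁻¹ ∉ D := by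
          by_contra hno
          push Not at hno
          exact hbne b hb (Cfsg.Lib.Fusion.le_normalizer_of_conj_mem hno)
        refine hgen _ (hcomD k hkX) (x * d * x⁻¹)
          ((mem_normalizer_iff.1 (hRn (Φ.U_le_C b.out.2)) d).1 (hDR hd)) hdx ?_
        have h1 := fixed_conj (h := x) (hm'.symm ▸ hcomD m he' d hd : Commute (x⁻¹ * (k * Φ.t * k⁻¹) * x) d)
        rwa [show x * (x⁻¹ * (k * Φ.t * k⁻¹) * x) * x⁻¹ = k * Φ.t * k⁻¹ by group] at h1
      have hRne : R ≠ ⊥ := fun h => hDne (le_bot_iff.1 (h ▸ hDR))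
      have hzC : k * Φ.t * k⁻¹ ∈ Φ.C := hK.mem_C_of_commute Φ hRU hRne hRn hcomR
      have hzt : k * Φ.t * k⁻¹ = Φ.t := by
        have hnot : ∀ w : G, Φ.t * Φ.u = w ∨ Φ.u = w → ∀ z ∈ Φ.U,
            (∀ ρ ∈ R, Commute (z * w * z⁻¹) ρ) → False := by
          intro w hw z hz hall
          have hle : R ≤ Φ.W := fun ρ hρ => by
            have h1 := fixed_conj (h := z⁻¹) (hall _ ((mem_normalizer_iff.1 (hRn (Φ.U_le_C hz)) ρ).1 hρ))
            rw [inv_inv, show z⁻¹ * (z * w * z⁻¹) * z = w by group,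
              show z⁻¹ * (z * ρ * z⁻¹) * z = ρ by group] at h1
            refine ⟨hRU hρ, mem_centralizer_singleton_iff.2 (Commute.symm ?_).eq⟩
            rcases hw with rfl | rfl
            · have := (Φ.commute_t (hRU hρ)).mul_left h1
              rwa [Φ.t_mul_v] at this
            · exact h1
          rw [inf_eq_left.2 hle] at hRW
          rw [hRW, hD] at hR
          have := Nat.pow_lt_pow_right hq2 (show 1 < 2 by norm_num)
          rw [pow_one] at this
          omega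
        rcases hK.involution_cases Φ ((Cfsg.Lib.Invol.orderOf_conj_eq k Φ.t).trans Φ.ht) hzC with
          hz | ⟨z, hz, hz' | hz'⟩
        · exact hz
        · exact (hnot _ (Or.inr rfl) z hz (hz' ▸ hcomR)).elim
        · exact (hnot _ (Or.inl rfl) z hz (hz' ▸ hcomR)).elim
      have hA : A = A' := by
        rw [← A.out_eq', ← A'.out_eq', QuotientGroup.eq, mem_centralizer_singleton_iff]
        exact Subtype.ext (mul_inv_eq_iff_eq_mul.1 hzt)
      subst hA
      have hbb : b = b' := by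
        rw [← b.out_eq', ← b'.out_eq', QuotientGroup.eq, mem_subgroupOf]
        show x⁻¹ * x' ∈ X
        have := he'
        rwa [hm, show (h * x)⁻¹ * (h' * x') = x⁻¹ * (h⁻¹ * h') * x' by group, hh', ← hh,
          inv_mul_cancel, mul_one] at this
      subst hbb
      rfl
    have h1 := Nat.card_le_card_of_injective _ hinj
    rw [Nat.card_prod] at h1
    have h2 : Nat.card {b : Φ.U ⧸ X.subgroupOf Φ.U // b ≠ ((1 : Φ.U) : Φ.U ⧸ X.subgroupOf Φ.U)} + 1 = j := by
      rw [← hjcard, ← Nat.card_congr (Equiv.optionSubtypeNe ((1 : Φ.U) : Φ.U ⧸ X.subgroupOf Φ.U)),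
        Finite.card_option]
    have h3 : Nat.card {r : G ⧸ X // r ≠ ((1 : G) : G ⧸ X)} + 1 = X.index := by
      rw [index_eq_card, ← Nat.card_congr (Equiv.optionSubtypeNe ((1 : G) : G ⧸ X)), Finite.card_option]
    rw [show j - 1 = Nat.card {b : Φ.U ⧸ X.subgroupOf Φ.U // b ≠ ((1 : Φ.U) : Φ.U ⧸ X.subgroupOf Φ.U)} by omega,
      index_eq_card CX]
    omega
  -- the inequality
  have hWX0 : (0 : ℚ) < Nat.card WX := Nat.cast_pos.2 Nat.card_pos
  have hUX0 : (0 : ℚ) < Nat.card UX := Nat.cast_pos.2 Nat.card_pos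
  have hX0 : (0 : ℚ) < Nat.card X := Nat.cast_pos.2 Nat.card_pos
  have hs'0 : 0 < s' := by
    by_contra hle
    have : (Nat.card X : ℚ) * s' * (Nat.card WX : ℚ) ^ 2 ≤ 0 :=
      mul_nonpos_of_nonpos_of_nonneg (mul_nonpos_of_nonneg_of_nonpos hX0.le (not_lt.1 hle)) (by positivity)
    rw [hordX] at this
    have : (0 : ℚ) < 32 * (Nat.card UX : ℚ) ^ 3 := by positivity
    linarith
  have eI : (CX.index : ℚ) * s' = 8 * (k : ℚ) ^ 2 := by
    have h1 : (Nat.card X : ℚ) = CX.index * (4 * Nat.card UX) := by exact_mod_cast hI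
    have h2 : (Nat.card WX : ℚ) * k = Nat.card UX := by exact_mod_cast hkU
    refine mul_right_cancel₀ (ne_of_gt (mul_pos hUX0 (pow_pos hWX0 2))) ?_
    rw [h1, ← h2] at hordX
    rw [← h2]
    linear_combination hordX / 4
  have em : (X.index : ℚ) * s ≤ (j : ℚ) ^ 3 * s' := by
    have h1 : (Nat.card G : ℚ) = X.index * Nat.card X := by exact_mod_cast (X.index_mul_card).symm
    have h2 : (Nat.card UX : ℚ) * j = Nat.card Φ.U := by exact_mod_cast hjU
    rw [h1, ← h2] at hG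
    have h3 : (X.index : ℚ) * s * (Nat.card Φ.W : ℚ) ^ 2 = (j : ℚ) ^ 3 * s' * (Nat.card WX : ℚ) ^ 2 := by
      refine mul_left_cancel₀ hX0.ne' ?_
      linear_combination hG - (j : ℚ) ^ 3 * hordX
    have h4 : (Nat.card WX : ℚ) ^ 2 ≤ (Nat.card Φ.W : ℚ) ^ 2 :=
      pow_le_pow_left₀ hWX0.le (Nat.cast_le.2 (Nat.card_le_card_of_injective _ (inclusion_injective inf_le_left))) 2
    refine le_of_mul_le_mul_right ?_ (pow_pos (Nat.cast_pos.2 Nat.card_pos : (0 : ℚ) < Nat.card Φ.W) 2)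
    rw [h3]
    exact mul_le_mul_of_nonneg_left h4 (by positivity)
  have hmain : 8 * (k : ℚ) ^ 2 * ((j : ℚ) - 1) * (5 / 7) < (j : ℚ) ^ 3 * s' ^ 2 := by
    have hs0 : 0 < s := lt_of_lt_of_le (by norm_num) hs
    have h1 : (CX.index : ℚ) * ((j : ℚ) - 1) + 1 ≤ X.index := by
      have : ((CX.index * (j - 1) + 1 : ℕ) : ℚ) ≤ (X.index : ℕ) := Nat.cast_le.2 hcount
      push_cast [Nat.cast_sub (show 1 ≤ j by omega)] at this
      exact this
    have hj0 : (0 : ℚ) ≤ (j : ℚ) - 1 := by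
      have : (2 : ℚ) ≤ j := by exact_mod_cast hj2
      linarith
    calc 8 * (k : ℚ) ^ 2 * ((j : ℚ) - 1) * (5 / 7) ≤ (CX.index : ℚ) * ((j : ℚ) - 1) * s' * s := by
          rw [show (CX.index : ℚ) * ((j : ℚ) - 1) * s' * s = (CX.index * s') * ((j : ℚ) - 1) * s by ring, eI]
          exact mul_le_mul_of_nonneg_left hs (by positivity)
      _ < ((CX.index : ℚ) * ((j : ℚ) - 1) + 1) * s' * s := by
          have := mul_pos hs'0 hs0
          nlinarith
      _ ≤ (X.index : ℚ) * s' * s := by gcongr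
      _ = (X.index : ℚ) * s * s' := by ring
      _ ≤ (j : ℚ) ^ 3 * s' * s' := mul_le_mul_of_nonneg_right em hs'0.le
      _ = _ := by ring
  have hjQ : (2 : ℚ) ≤ j := by exact_mod_cast hj2
  have hjqQ : (j : ℚ) ≤ q := by exact_mod_cast hjq
  -- `U ∩ X = R (W ∩ X)`
  have hY1 : Y.relIndex UX = 1 := by
    by_contra hne
    have h3 : 3 ≤ Y.relIndex UX := by obtain ⟨i, hi⟩ := hYodd; omega
    have hk3 : (3 * j : ℚ) ≤ k := by
      have : 3 * j ≤ k := by
        rw [← hkY, mul_comm 3]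
        exact Nat.mul_le_mul (hjq.trans hqY) h3
      exact_mod_cast this
    have hs3 : s' < 3 := Klein.sum_lt_three ha' hb' hc' hsum'
    have h4 : (3 * (j : ℚ)) ^ 2 ≤ (k : ℚ) ^ 2 := by gcongr
    have h5 : s' ^ 2 ≤ 9 := by nlinarith
    have h6 : (j : ℚ) ^ 3 * s' ^ 2 ≤ (j : ℚ) ^ 3 * 9 := mul_le_mul_of_nonneg_left h5 (by positivity)
    nlinarith [mul_le_mul_of_nonneg_right h4 (show (0 : ℚ) ≤ (j : ℚ) - 1 by linarith),
      mul_le_mul_of_nonneg_left hjQ (sq_nonneg (j : ℚ))]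
  have hInv : ∀ y ∈ Φ.U, y ∈ X → Φ.u * y * Φ.u = y⁻¹ → y ∈ R := by
    intro y hy hyX hyu
    have hmem : y ∈ Y := relIndex_eq_one.1 hY1 ⟨hy, hyX⟩
    have hWR : WX ≤ normalizer (R : Set G) := fun w hw => hRn (Φ.U_le_C (Φ.W_le_U hw.1))
    rw [hYdef, ← SetLike.mem_coe, coe_mul_of_right_le_normalizer_left _ _ hWR] at hmem
    obtain ⟨ρ, hρ, w, hw, rfl⟩ := hmem
    refine mem_of_sq_mem (Φ.odd_of_mem hy) ?_
    have hw1 : Φ.u * w * Φ.u = w := by rw [(Φ.commute_u hw.1).eq, mul_assoc, Φ.uu, mul_one]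
    have e1 : (ρ * w)⁻¹ = Φ.u * ρ * Φ.u * w := by
      conv_rhs => rw [← hw1]
      rw [← hyu, show Φ.u * ρ * Φ.u * (Φ.u * w * Φ.u) = Φ.u * ρ * (Φ.u * Φ.u) * w * Φ.u by group, Φ.uu]
      group
    have e2 : ρ * w * (ρ * w) = ρ * (Φ.u * ρ * Φ.u)⁻¹ := by
      have h := congrArg (·⁻¹) e1
      simp only [inv_inv] at h
      nth_rewrite 2 [h]
      group
    rw [e2]
    exact mul_mem hρ (inv_mem (hRu ρ hρ))
  by_cases hsX : Group.IsSolvable X
  · refine hK.line_solvable_false Φ hV hgX hRU hRX hR ?_ hInv he hei he1 hsX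
    intro z hzX hzt hzo y hy hyW hzy
    refine eq_one_of_fixed_inverted Φ.tt (hgenC z (fun d hd => ?_) y hy (fun h => hyW (hDW h)) hzy) hzt hzo
    exact commute_of_inverted_fixed Φ.tt hzt (Φ.commute_t (hDU hd))
      (Φ.commute_t (hDU (hconjD z hzX d hd))) hzo
  · have hs7 : s' ≤ 7 / 5 := by
      refine Klein.sum_le ha' hb' hc' ?_ ?_ ?_ hsum' <;> intro h <;> exact hsX (hsolv (by simp [h]))
    have hkj : (j : ℚ) ≤ k := by
      have : j ≤ k := by
        rw [← hkY, hY1, mul_one]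
        exact hjq.trans hqY
      exact_mod_cast this
    have h4 : (j : ℚ) ^ 2 ≤ (k : ℚ) ^ 2 := by gcongr
    have h5 : s' ^ 2 ≤ 49 / 25 := by nlinarith
    have h6 : (j : ℚ) ^ 3 * s' ^ 2 ≤ (j : ℚ) ^ 3 * (49 / 25) := mul_le_mul_of_nonneg_left h5 (by positivity)
    nlinarith [mul_le_mul_of_nonneg_right h4 (show (0 : ℚ) ≤ (j : ℚ) - 1 by linarith),
      mul_le_mul_of_nonneg_left hjQ (sq_nonneg (j : ℚ))]

end KMin

end Cfsg.Lib.GW
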