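import Cfsg.Agent.Lib.GW.Klein.Torus
import Cfsg.Agent.Lib.GW.Klein.Line

/-!
# Gorenstein–Walter, Sylow four groups: consequences of `g` centralizing `W`

`U` is generated by its inverted elements, so it centralizes the normal subgroups inverted by `u`; some
`O_q(C)` meets `W`; and no pair `d ∈ W`, `ω` inverted spans a normal subgroup of `C`.
-/

set_option autoImplicit false
set_option linter.style.haveILetI false
set_option linter.unusedSectionVars false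

namespace Cfsg.Lib.GW

open Cfsg Subgroup
open Cfsg.Agent.S1312 (Op op_le op_isPGroup le_normalizer_op op_commute)

universe u

variable {G : Type u} [Group G] [Finite G]

namespace KMin

variable (hK : KMin G) (Φ : KFrame G) (hg : ∀ w ∈ Φ.W, Commute Φ.g w)
include hK hg

/-- `U` is generated by the elements inverted by `u`. -/
theorem U_le_of_inverted (hW : Φ.W ≠ ⊥) {H : Subgroup G}
    (hH : ∀ x ∈ Φ.U, Φ.u * x * Φ.u = x⁻¹ → x ∈ H) : Φ.U ≤ H := by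
  classical
  letI := Fintype.ofFinite G
  set S : Set G := {x | x ∈ Φ.U ∧ Φ.u * x * Φ.u = x⁻¹} with hS
  set U0 := closure S with hU0
  have hU0U : U0 ≤ Φ.U := (closure_le _).2 fun x hx => hx.1
  suffices h : Φ.U ≤ U0 from h.trans ((closure_le _).2 fun x hx => hH x hx.1 hx.2)
  have hnW : ∀ w ∈ Φ.W, w ∈ normalizer (U0 : Set G) := by
    intro w hw
    refine Cfsg.Lib.Fusion.le_normalizer_of_conj_mem fun x hx => ?_
    have hwU := Φ.W_le_U hw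
    have hwu := Φ.commute_u hw
    suffices hle : U0 ≤ U0.comap (MulAut.conj w).toMonoidHom from hle hx
    refine (closure_le _).2 fun y hy => subset_closure ⟨mul_mem (mul_mem hwU hy.1) (inv_mem hwU), ?_⟩
    show Φ.u * (w * y * w⁻¹) * Φ.u = (w * y * w⁻¹)⁻¹
    calc Φ.u * (w * y * w⁻¹) * Φ.u = (Φ.u * w) * y * (w⁻¹ * Φ.u) := by group
      _ = (w * Φ.u) * y * (Φ.u * w⁻¹) := by rw [hwu.eq, ← hwu.inv_right.eq]
      _ = w * (Φ.u * y * Φ.u) * w⁻¹ := by group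
      _ = _ := by rw [hy.2]; group
  have hdec : ∀ y ∈ Φ.U, ∃ k ∈ U0, ∃ w ∈ Φ.W, Φ.u * k * Φ.u = k⁻¹ ∧ y = k * w := by
    intro y hy
    obtain ⟨k, hk, w, hw, hku, hwu, rfl⟩ := exists_inverted_mul_fixed Φ.uu (fun z hz => Φ.odd_of_mem hz) hy
      (Φ.u_conj_mem hy)
    exact ⟨k, subset_closure ⟨hk, hku⟩, w, ⟨hw, mem_centralizer_singleton_iff.2 hwu.eq.symm⟩, hku, rfl⟩
  have hnU : Φ.U ≤ normalizer (U0 : Set G) := fun y hy => by
    obtain ⟨k, hk, w, hw, -, rfl⟩ := hdec y hy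
    exact mul_mem (le_normalizer hk) (hnW w hw)
  intro y₀ hy₀
  by_contra hne
  haveI := hK.solvable_C Φ
  haveI : Group.IsSolvable ↥Φ.U := Cfsg.Lib.Core.isSolvable_of_le Φ.U_le_C (hK.solvable_C Φ)
  haveI : (U0.subgroupOf Φ.U).Normal := (normal_subgroupOf_iff_le_normalizer hU0U).2 hnU
  let π := QuotientGroup.mk' (U0.subgroupOf Φ.U)
  haveI : Nontrivial (↥Φ.U ⧸ U0.subgroupOf Φ.U) := QuotientGroup.nontrivial_iff.2 fun h => hne
    (subgroupOf_eq_top.1 h hy₀)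
  obtain ⟨x₀, hx₀⟩ := SetLike.exists_of_lt
    (Group.IsSolvable.commutator_lt_top_of_nontrivial (↥Φ.U ⧸ U0.subgroupOf Φ.U))
  haveI : IsMulCommutative (Abelianization (↥Φ.U ⧸ U0.subgroupOf Φ.U)) := ⟨⟨mul_comm⟩⟩
  have hab : (Abelianization.of x₀ : Abelianization (↥Φ.U ⧸ U0.subgroupOf Φ.U)) ≠ 1 := fun h => hx₀.2 (by
    rw [← Abelianization.ker_of]
    exact MonoidHom.mem_ker.2 h)
  obtain ⟨ξ, hξ⟩ := CommGroup.exists_apply_ne_one_of_hasEnoughRootsOfUnity _ ℂ hab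
  let χ : ↥Φ.U →* ℂˣ := (ξ.comp Abelianization.of).comp π
  let φ : G → ℂ := fun y => if hy : y ∈ Φ.U then (χ ⟨y, hy⟩ : ℂ) else 0
  have hφ : ∀ y (hy : y ∈ Φ.U), φ y = (χ ⟨y, hy⟩ : ℂ) := fun y hy => dif_pos hy
  have hker : ∀ k (hk : k ∈ U0), χ ⟨k, hU0U hk⟩ = 1 := fun k hk => by
    show ξ (Abelianization.of (π ⟨k, hU0U hk⟩)) = 1
    rw [show π ⟨k, hU0U hk⟩ = 1 from (QuotientGroup.eq_one_iff _).2 (mem_subgroupOf.2 hk), map_one, map_one]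
  have hux : ∀ y (hy : y ∈ Φ.U), χ ⟨Φ.u * y * Φ.u, Φ.u_conj_mem hy⟩ = χ ⟨y, hy⟩ := by
    intro y hy
    obtain ⟨k, hk, w, hw, hku, rfl⟩ := hdec y hy
    have hwU := Φ.W_le_U hw
    have e : (⟨Φ.u * (k * w) * Φ.u, Φ.u_conj_mem hy⟩ : ↥Φ.U) = ⟨k, hU0U hk⟩⁻¹ * ⟨w, hwU⟩ := by
      refine Subtype.ext ?_
      show Φ.u * (k * w) * Φ.u = k⁻¹ * w
      calc Φ.u * (k * w) * Φ.u = Φ.u * k * (w * Φ.u) := by group
        _ = (Φ.u * k * Φ.u) * w := by rw [← (Φ.commute_u hw).eq]; group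
        _ = _ := by rw [hku]
    rw [e, show (⟨k * w, hy⟩ : ↥Φ.U) = ⟨k, hU0U hk⟩ * ⟨w, hwU⟩ from rfl, map_mul, map_mul, map_inv,
      hker k hk, inv_one]
  have hlin : Φ.Lin φ := by
    refine ⟨?_, fun a ha b hb => ?_, fun c hc y hy => ?_⟩
    · rw [hφ 1 (one_mem _), show (⟨1, one_mem _⟩ : ↥Φ.U) = 1 from rfl, map_one, Units.val_one]
    · rw [hφ _ (mul_mem ha hb), hφ a ha, hφ b hb,
        show (⟨a * b, mul_mem ha hb⟩ : ↥Φ.U) = ⟨a, ha⟩ * ⟨b, hb⟩ from rfl, map_mul, Units.val_mul]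
    · obtain ⟨v, hv, x, hx, rfl⟩ := hK.exists_mul_of_mem_C Φ hc
      have hxy : x * y * x⁻¹ ∈ Φ.U := mul_mem (mul_mem hx hy) (inv_mem hx)
      have h1 : χ ⟨x * y * x⁻¹, hxy⟩ = χ ⟨y, hy⟩ := by
        rw [show (⟨x * y * x⁻¹, hxy⟩ : ↥Φ.U) = ⟨x, hx⟩ * ⟨y, hy⟩ * ⟨x, hx⟩⁻¹ from rfl, map_mul, map_mul,
          map_inv, mul_right_comm, mul_inv_cancel, one_mul]
      have hcc : v * x * y * (v * x)⁻¹ = v * (x * y * x⁻¹) * v⁻¹ := by group
      have huc : ∀ z, (hz : z ∈ Φ.U) → v * z * v⁻¹ = z ∨ v * z * v⁻¹ = Φ.u * z * Φ.u := by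
        intro z hz
        have htz := fix_of_commute Φ.tt (Φ.commute_t hz)
        rcases eq_or_ne v 1 with rfl | hv1
        · left; group
        haveI := Φ.klein
        rcases Φ.V_cases hv hv1 with rfl | rfl | rfl
        · left; rwa [Cfsg.Lib.Invol.inv_eq_self Φ.ht]
        · right; rw [Cfsg.Lib.Invol.inv_eq_self Φ.hu]
        · right
          rw [mul_inv_rev, Cfsg.Lib.Invol.inv_eq_self Φ.ht, Cfsg.Lib.Invol.inv_eq_self Φ.hu,
            show Φ.t * Φ.u * z * (Φ.u * Φ.t) = Φ.t * (Φ.u * z * Φ.u) * Φ.t by group]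
          exact fix_of_commute Φ.tt (Φ.commute_t (Φ.u_conj_mem hz))
      rw [hφ y hy, hcc]
      rcases huc _ hxy with h | h <;> rw [h]
      · rw [hφ _ hxy, h1]
      · rw [hφ _ (Φ.u_conj_mem hxy), hux _ hxy, h1]
  obtain ⟨⟨y, hy⟩, hyx⟩ := QuotientGroup.mk'_surjective (U0.subgroupOf Φ.U) x₀
  have h1 := hK.lin_fixed Φ hW hlin (fun w hw => by
    have e : Φ.g * w * Φ.g⁻¹ = w := by rw [(hg w hw).eq, mul_inv_cancel_right]
    rw [e, show Φ.g⁻¹ * w * Φ.g = w by rw [mul_assoc, ← (hg w hw).eq, inv_mul_cancel_left]]) y hy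
  rw [hφ y hy, Units.val_eq_one] at h1
  exact hξ (by rw [← hyx]; exact h1)

/-- No nontrivial normal subgroup of `C` lies in `W`. -/
theorem eq_bot_of_le_W {K : Subgroup G} (hKW : K ≤ Φ.W) (hn : Φ.C ≤ normalizer (K : Set G)) : K = ⊥ := by
  by_contra hne
  exact hK.g_notMem_C Φ (hK.mem_C_of_commute Φ (hKW.trans Φ.W_le_U) hne hn fun y hy => hg y (hKW hy))

/-- `U` centralizes the normal subgroups of `C` inverted by `u`. -/
theorem commute_of_inverted (hW : Φ.W ≠ ⊥) {K : Subgroup G} (hn : Φ.C ≤ normalizer (K : Set G))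
    (hinv : ∀ z ∈ K, Φ.u * z * Φ.u = z⁻¹) {y z : G} (hy : y ∈ Φ.U) (hz : z ∈ K) : Commute y z := by
  have hle : Φ.U ≤ centralizer (K : Set G) := hK.U_le_of_inverted Φ hg hW fun x hx hxu =>
    mem_centralizer_iff.2 fun z hz => (commute_of_inverted_inverted Φ.uu hxu (hinv z hz)
      (hinv _ ((mem_normalizer_iff.1 (hn (Φ.U_le_C hx)) z).1 hz)) (Φ.odd_of_mem hx)).eq.symm
  exact (mem_centralizer_iff.1 (hle hy) z hz).symm

/-- Some `O_q(C)`, `q` odd, meets `W`. -/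
theorem exists_op_inf_W (hW : Φ.W ≠ ⊥) :
    ∃ q : ℕ, q.Prime ∧ q ≠ 2 ∧ Op q Φ.C ⊓ Φ.W ≠ ⊥ := by
  by_contra h
  push Not at h
  obtain ⟨w, hw, hw1⟩ := (bot_or_exists_ne_one _).resolve_left hW
  have key : ∀ s, s.Prime → ∀ m ∈ Op s Φ.C, ∀ y ∈ Φ.U, Commute y m := by
    intro s hs m hm y hy
    haveI : Fact s.Prime := ⟨hs⟩
    by_cases h2 : s = 2
    · subst h2; exact hK.commute_op_two Φ hy hm
    refine hK.commute_of_inverted Φ hg hW (le_normalizer_op s Φ.C) (fun z hz => ?_) hy hm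
    have hu : ∀ z ∈ Op s Φ.C, Φ.u * z * Φ.u ∈ Op s Φ.C := fun z hz => by
      have := conj_mem_op Φ.u_mem_C hz
      rwa [Cfsg.Lib.Invol.inv_eq_self Φ.hu] at this
    refine inverts_of_fixed_trivial Φ.uu hu (fun a ha hau => ?_) hz
    rw [← Subgroup.mem_bot, ← h s hs h2]
    exact ⟨ha, (hK.mem_W Φ).2 ⟨Φ.mem_C.1 (op_le s Φ.C ha), hau, conj_odd h2 (op_isPGroup s Φ.C) ha⟩⟩
  obtain ⟨r, hr, hrd⟩ := Nat.exists_prime_and_dvd (fun h1 => hw1 (orderOf_eq_one_iff.1 h1) : orderOf w ≠ 1)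
  haveI : Fact r.Prime := ⟨hr⟩
  set w1 := w ^ (orderOf w / r)
  have ho : orderOf w1 = r := orderOf_pow_orderOf_div (orderOf_pos w).ne' hrd
  have hw1W : w1 ∈ Φ.W := pow_mem hw _
  have hF := mem_map_of_mem Φ.C.subtype (Cfsg.Agent.S1312.mem_fitting_of_commute
    (layer_eq_bot_of_solvable (hK.solvable_C Φ)) ⟨w1, Φ.U_le_C (Φ.W_le_U hw1W)⟩
    fun s hs m hm => (key s hs.out m hm w1 (Φ.W_le_U hw1W)).eq)
  have hop := Cfsg.Lib.Sig.BenderPair.mem_op_of_fitting (s := r) hF ⟨1, by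
    show w1 ^ r ^ 1 = 1
    rw [pow_one, ← ho, pow_orderOf_eq_one]⟩
  have hr2 : r ≠ 2 := fun e => Nat.not_even_iff_odd.2 (Φ.odd_of_mem (Φ.W_le_U hw1W)) (by rw [ho, e]; decide)
  have h1 : w1 ∈ (⊥ : Subgroup G) := h r hr hr2 ▸ ⟨hop, hw1W⟩
  rw [mem_bot] at h1
  rw [h1, orderOf_one] at ho
  exact hr.ne_one ho.symm

/-- A pair `d ∈ W`, `ω` inverted, of commuting elements of order `q` does not span a normal subgroup of `C`. -/
theorem line_of {q : ℕ} [Fact q.Prime] {d ω : G} (hd : d ∈ Φ.W) (hdo : orderOf d = q) (hω : ω ∈ Φ.U)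
    (hωo : orderOf ω = q) (hωu : Φ.u * ω * Φ.u = ω⁻¹) (hc : Commute d ω) {R : Subgroup G}
    (hR : ∀ x, x ∈ R ↔ ∃ i j : ℤ, x = d ^ i * ω ^ j) (hn : Φ.C ≤ normalizer (R : Set G)) : False := by
  classical
  letI := Fintype.ofFinite G
  have hq : q.Prime := Fact.out
  have hWω : ∀ j : ℤ, ω ^ j ∈ Φ.W → ω ^ j = 1 := by
    intro j hj
    refine eq_one_of_fixed_inverted Φ.uu (Φ.commute_u hj) ?_ (Φ.odd_of_mem (zpow_mem hω j))
    rw [show Φ.u * ω ^ j * Φ.u = (Φ.u * ω * Φ.u⁻¹) ^ j by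
      rw [conj_zpow, Cfsg.Lib.Invol.inv_eq_self Φ.hu], Cfsg.Lib.Invol.inv_eq_self Φ.hu, hωu, inv_zpow]
  have hRU : R ≤ Φ.U := fun x hx => by
    obtain ⟨i, j, rfl⟩ := (hR x).1 hx
    exact mul_mem (zpow_mem (Φ.W_le_U hd) i) (zpow_mem hω j)
  let f : ↥(zpowers d) × ↥(zpowers ω) → R := fun p => ⟨(p.1 : G) * p.2, by
    obtain ⟨i, hi⟩ := mem_zpowers_iff.1 p.1.2
    obtain ⟨j, hj⟩ := mem_zpowers_iff.1 p.2.2
    exact (hR _).2 ⟨i, j, by rw [hi, hj]⟩⟩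
  have hf : Function.Bijective f := by
    refine ⟨fun p p' e => ?_, fun x => ?_⟩
    · have e' : (p.1 : G) * p.2 = p'.1 * p'.2 := congrArg Subtype.val e
      obtain ⟨j, hj⟩ := mem_zpowers_iff.1 (mul_mem p.2.2 (inv_mem p'.2.2))
      have hW : (p.2 : G) * (p'.2 : G)⁻¹ ∈ Φ.W := by
        rw [show (p.2 : G) * (p'.2 : G)⁻¹ = (p.1 : G)⁻¹ * ((p.1 : G) * p.2) * (p'.2 : G)⁻¹ by group, e',
          show (p.1 : G)⁻¹ * ((p'.1 : G) * p'.2) * (p'.2 : G)⁻¹ = (p.1 : G)⁻¹ * p'.1 by group]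
        exact mul_mem (inv_mem ((zpowers_le.2 hd) p.1.2)) ((zpowers_le.2 hd) p'.1.2)
      rw [← hj] at hW
      have h2 : (p.2 : G) = p'.2 := mul_inv_eq_one.1 (hj.symm.trans (hWω j hW))
      rw [h2] at e'
      exact Prod.ext (Subtype.ext (mul_right_cancel e')) (Subtype.ext h2)
    · obtain ⟨i, j, hij⟩ := (hR _).1 x.2
      exact ⟨(⟨d ^ i, zpow_mem (mem_zpowers d) i⟩, ⟨ω ^ j, zpow_mem (mem_zpowers ω) j⟩), Subtype.ext hij.symm⟩
  refine hK.line_false Φ hg (q := q) (D := zpowers d) (zpowers_le.2 hd) (by rw [Nat.card_zpowers, hdo]) hRU hn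
    (by rw [← Nat.card_congr (Equiv.ofBijective f hf), Nat.card_prod, Nat.card_zpowers, Nat.card_zpowers, hdo,
      hωo, pow_two]) (le_antisymm (fun x hx => ?_) (le_inf (fun x hx => ?_) (zpowers_le.2 hd)))
  · obtain ⟨i, j, rfl⟩ := (hR x).1 hx.1
    have hj : ω ^ j ∈ Φ.W := by
      have := mul_mem (inv_mem (zpow_mem hd i)) hx.2
      rwa [inv_mul_cancel_left] at this
    rw [hWω j hj, mul_one]
    exact zpow_mem (mem_zpowers d) i
  · obtain ⟨i, rfl⟩ := mem_zpowers_iff.1 hx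
    exact (hR _).2 ⟨i, 0, by simp⟩

end KMin

end Cfsg.Lib.GW
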