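import Cfsg.Agent.Lib.GW.Klein.Core

/-!
# Gorenstein–Walter, Sylow four groups: the Heisenberg configuration

`F = R ∘ Z` with `R = ⟨e, d⟩` a Heisenberg group of order `q³`, `W = ⟨d⟩`, `Z` central in `U` and inverted
by `u`, and `U / F` abelian, inverted by `u` and without fixed points on `F / Z`.
-/

set_option autoImplicit false
set_option linter.style.haveILetI false

namespace Cfsg.Lib.GW

open Subgroup

universe u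

/-- The Heisenberg configuration. -/
structure KFrame.Hei {G : Type u} [Group G] [Finite G] (Φ : KFrame G) (q : ℕ) where
  F : Subgroup G
  Z : Subgroup G
  e : G
  d : G
  ω : G
  prime : q.Prime
  ne_two : q ≠ 2
  he : orderOf e = q
  hd : orderOf d = q
  hω : orderOf ω = q
  e_inv : Φ.u * e * Φ.u = e⁻¹
  comm : e * d * e⁻¹ * d⁻¹ = ω
  W_eq : Φ.W = zpowers d
  F_le : F ≤ Φ.U
  Z_le : Z ≤ F
  e_mem : e ∈ F
  d_mem : d ∈ F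
  ω_mem : ω ∈ Z
  Z_inv : ∀ z ∈ Z, Φ.u * z * Φ.u = z⁻¹
  Z_central : ∀ z ∈ Z, ∀ y ∈ Φ.U, Commute y z
  Z_omega : ∀ z ∈ Z, z ^ q = 1 → z ∈ zpowers ω
  F_eq : ∀ x ∈ F, ∃ i j : ℕ, ∃ z ∈ Z, x = e ^ i * d ^ j * z
  coord : ∀ i j : ℕ, e ^ i * d ^ j ∈ Z → q ∣ i ∧ q ∣ j
  F_normal : Φ.C ≤ normalizer (F : Set G)
  quot_comm : ∀ x ∈ Φ.U, ∀ y ∈ Φ.U, x * y * x⁻¹ * y⁻¹ ∈ F
  quot_inv : ∀ y ∈ Φ.U, Φ.u * y * Φ.u * y ∈ F
  fpf : ∀ y ∈ Φ.U, y ∉ F → ∀ r ∈ F, y * r * y⁻¹ * r⁻¹ ∈ Z → r ∈ Z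
  line_e : ∀ y ∈ Φ.U, (∃ i : ℕ, ∃ z ∈ Z, y * e * y⁻¹ = e ^ i * z) → y ∈ F
  index_gt : 1 < F.relIndex Φ.U
  index_dvd : F.relIndex Φ.U ∣ q - 1 ∨ F.relIndex Φ.U ∣ q + 1

namespace KFrame.Hei

variable {G : Type u} [Group G] [Finite G] {Φ : KFrame G} {q : ℕ} (h : Φ.Hei q)
include h

theorem U_le_normalizer : Φ.U ≤ normalizer (h.F : Set G) := Φ.U_le_C.trans h.F_normal

theorem Z_le_U : h.Z ≤ Φ.U := h.Z_le.trans h.F_le

theorem d_mem_W : h.d ∈ Φ.W := h.W_eq ▸ mem_zpowers h.d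

theorem ω_ne_one : h.ω ≠ 1 := fun e => h.prime.ne_one (by rw [← h.hω, e, orderOf_one])

theorem odd_index : Odd (h.F.relIndex Φ.U) := Φ.odd_card_U.of_dvd_nat (relIndex_dvd_card _ _)

theorem index_le : 2 * h.F.relIndex Φ.U ≤ q + 1 := by
  have h2 := h.prime.two_le
  obtain ⟨k, hk⟩ := h.odd_index
  obtain ⟨l, hl⟩ := h.prime.odd_of_ne_two h.ne_two
  have key : ∀ n, h.F.relIndex Φ.U ∣ n → 2 ∣ n → 0 < n → 2 * h.F.relIndex Φ.U ≤ n := fun n hn hn2 hn0 =>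
    Nat.le_of_dvd hn0 ((Nat.coprime_two_left.2 h.odd_index).mul_dvd_of_dvd_of_dvd hn2 hn)
  rcases h.index_dvd with hd | hd
  · exact (key _ hd ⟨l, by omega⟩ (by omega)).trans (by omega)
  · exact key _ hd ⟨l + 1, by omega⟩ (by omega)

end KFrame.Hei

end Cfsg.Lib.GW
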