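import Cfsg.Agent.Lib.GW.Klein.Hei
import Cfsg.Agent.Lib.GW.Klein.Dichotomy
import Cfsg.Agent.Lib.FTCons.MetacyclicSylow

/-!
# Gorenstein–Walter, Sylow four groups: centralizers in the Heisenberg configuration

An element of `U` outside `F` is conjugate in `U` to an element inverted by `u`, and its centralizer in
`G` lies in `C`.
-/

set_option autoImplicit false
set_option linter.style.haveILetI false
set_option linter.unusedSectionVars false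

namespace Cfsg.Lib.GW

open Cfsg Subgroup

universe u

variable {G : Type u} [Group G]

/-- An element inverted by `t` is a product `h * k * h` of inverted elements fixed by `u` and by `t * u`. -/
theorem exists_split (Φ : KFrame G) (A : Subgroup G) (hodd : ∀ z ∈ A, Odd (orderOf z))
    (hu : ∀ z ∈ A, Φ.u * z * Φ.u ∈ A) {k : G} (hk : k ∈ A) (hkt : Φ.t * k * Φ.t = k⁻¹) :
    ∃ h ∈ A, ∃ k' ∈ A, Φ.t * h * Φ.t = h⁻¹ ∧ Φ.t * k' * Φ.t = k'⁻¹ ∧ Commute Φ.u h ∧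
      Commute (Φ.t * Φ.u) k' ∧ k = h * k' * h := by
  have htt := Φ.tt
  have huu := Φ.uu
  have hti : Φ.t⁻¹ = Φ.t := inv_eq_of_mul_eq_one_right htt
  have hui : Φ.u⁻¹ = Φ.u := inv_eq_of_mul_eq_one_right huu
  have hd : Φ.u * k * Φ.u ∈ A := hu k hk
  set d := Φ.u * k * Φ.u with hdd
  have hdt : Φ.t * d * Φ.t = d⁻¹ := by
    calc Φ.t * d * Φ.t = (Φ.t * Φ.u) * k * (Φ.u * Φ.t) := by rw [hdd]; group
      _ = (Φ.u * Φ.t) * k * (Φ.t * Φ.u) := by rw [Φ.hc.eq]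
      _ = Φ.u * (Φ.t * k * Φ.t) * Φ.u := by group
      _ = _ := by rw [hkt, hdd, mul_inv_rev, mul_inv_rev, hui, mul_assoc]
  have hdu : Φ.u * d * Φ.u = k := by
    rw [hdd, show Φ.u * (Φ.u * k * Φ.u) * Φ.u = (Φ.u * Φ.u) * k * (Φ.u * Φ.u) by group, huu, one_mul, mul_one]
  set c := d * k⁻¹ with hc
  obtain ⟨j, hj⟩ := exists_pow_sq_eq (hodd c (mul_mem hd (inv_mem hk)))
  set w := c ^ j with hw
  have hww : w * w = c := by rw [hw, ← (Commute.refl c).mul_pow, hj]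
  have hct : Φ.t * c * Φ.t⁻¹ = k⁻¹ * c⁻¹ * k := by
    calc Φ.t * c * Φ.t⁻¹ = Φ.t * d * (Φ.t * Φ.t) * k⁻¹ * Φ.t := by rw [hc, htt, hti]; group
      _ = (Φ.t * d * Φ.t) * (Φ.t * k⁻¹ * Φ.t) := by group
      _ = _ := by rw [hdt, inv_inverted htt hkt, hc]; group
  have hcu : Φ.u * c * Φ.u⁻¹ = c⁻¹ := by
    calc Φ.u * c * Φ.u⁻¹ = Φ.u * d * (Φ.u * Φ.u) * k⁻¹ * Φ.u := by rw [hc, huu, hui]; group
      _ = (Φ.u * d * Φ.u) * (Φ.u * k⁻¹ * Φ.u) := by group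
      _ = k * d⁻¹ := by rw [hdu, hdd, mul_inv_rev, mul_inv_rev, hui, mul_assoc]
      _ = _ := by rw [hc]; group
  have hwt : Φ.t * w * Φ.t = k⁻¹ * w⁻¹ * k := by
    have h := pow_conj_inv hct j
    rw [hti, ← hw] at h
    rw [h, show k⁻¹ * c⁻¹ * k = k⁻¹ * c⁻¹ * (k⁻¹)⁻¹ by rw [inv_inv], conj_pow, inv_inv, inv_pow]
  have hwu : Φ.u * w * Φ.u = w⁻¹ := by
    have h := pow_conj_inv hcu j
    rwa [hui, ← hw, inv_pow, ← hw] at h
  set m := w * k with hm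
  have hmA : m ∈ A := mul_mem (pow_mem (mul_mem hd (inv_mem hk)) j) hk
  have hmt : Φ.t * m * Φ.t = m⁻¹ := by
    calc Φ.t * m * Φ.t = Φ.t * w * (Φ.t * Φ.t) * k * Φ.t := by rw [hm, htt]; group
      _ = (Φ.t * w * Φ.t) * (Φ.t * k * Φ.t) := by group
      _ = _ := by rw [hwt, hkt, hm]; group
  have hd' : d = w * w * k := by rw [hww, hc, inv_mul_cancel_right]
  have hmu : Φ.u * m * Φ.u = m := by
    calc Φ.u * m * Φ.u = Φ.u * w * (Φ.u * Φ.u) * k * Φ.u := by rw [hm, huu]; group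
      _ = (Φ.u * w * Φ.u) * d := by rw [hdd]; group
      _ = _ := by rw [hwu, hd', hm]; group
  obtain ⟨i, hi⟩ := exists_pow_sq_eq (hodd m hmA)
  set h := m ^ i with hh
  have hhh : h * h = m := by rw [hh, ← (Commute.refl m).mul_pow, hi]
  have hht : Φ.t * h * Φ.t = h⁻¹ := by
    have e := pow_conj_inv (show Φ.t * m * Φ.t⁻¹ = m⁻¹ by rw [hti, hmt]) i
    rwa [hti, ← hh, inv_pow, ← hh] at e
  have hhu : Φ.u * h * Φ.u = h := by
    have e := pow_conj_inv (show Φ.u * m * Φ.u⁻¹ = m by rw [hui, hmu]) i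
    rwa [hui, ← hh] at e
  have hhi : Φ.t * h⁻¹ * Φ.t = h := inv_inverted htt hht
  have hk't : Φ.t * (h⁻¹ * k * h⁻¹) * Φ.t = (h⁻¹ * k * h⁻¹)⁻¹ := by
    calc Φ.t * (h⁻¹ * k * h⁻¹) * Φ.t = Φ.t * h⁻¹ * (Φ.t * Φ.t) * k * (Φ.t * Φ.t) * h⁻¹ * Φ.t := by
          rw [htt]; group
      _ = (Φ.t * h⁻¹ * Φ.t) * (Φ.t * k * Φ.t) * (Φ.t * h⁻¹ * Φ.t) := by group
      _ = _ := by rw [hhi, hkt]; group
  have hk'u : Φ.u * (h⁻¹ * k * h⁻¹) * Φ.u = h⁻¹ * d * h⁻¹ := by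
    have e : Φ.u * h⁻¹ * Φ.u = h⁻¹ := by
      conv_rhs => rw [← hhu]
      rw [mul_inv_rev, mul_inv_rev, hui, mul_assoc]
    calc Φ.u * (h⁻¹ * k * h⁻¹) * Φ.u = Φ.u * h⁻¹ * (Φ.u * Φ.u) * k * (Φ.u * Φ.u) * h⁻¹ * Φ.u := by
          rw [huu]; group
      _ = (Φ.u * h⁻¹ * Φ.u) * d * (Φ.u * h⁻¹ * Φ.u) := by rw [hdd]; group
      _ = _ := by rw [e]
  have hdeq : h⁻¹ * d * h⁻¹ = (h⁻¹ * k * h⁻¹)⁻¹ := by
    have e : h⁻¹ * d * h⁻¹ * (h⁻¹ * k * h⁻¹) = h⁻¹ * (d * (h * h)⁻¹ * k) * h⁻¹ := by group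
    refine eq_inv_of_mul_eq_one_left ?_
    rw [e, hhh, hm, hd']
    calc h⁻¹ * (w * w * k * (w * k)⁻¹ * k) * h⁻¹ = h⁻¹ * (w * k) * h⁻¹ := by group
      _ = h⁻¹ * (h * h) * h⁻¹ := by rw [hhh, hm]
      _ = 1 := by group
  have hfix : Commute (Φ.t * Φ.u) (h⁻¹ * k * h⁻¹) := by
    have e : Φ.t * Φ.u * (h⁻¹ * k * h⁻¹) * (Φ.t * Φ.u) = h⁻¹ * k * h⁻¹ := by
      rw [show Φ.t * Φ.u * (h⁻¹ * k * h⁻¹) * (Φ.t * Φ.u) =
        Φ.t * (Φ.u * (h⁻¹ * k * h⁻¹) * (Φ.t * Φ.u)) by group, Φ.hc.eq,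
        show Φ.t * (Φ.u * (h⁻¹ * k * h⁻¹) * (Φ.u * Φ.t)) =
        Φ.t * (Φ.u * (h⁻¹ * k * h⁻¹) * Φ.u) * Φ.t by group, hk'u, hdeq, inv_inverted htt hk't]
    show _ = _
    conv_rhs => rw [← e, mul_assoc, Φ.vv, mul_one]
  have hA' : h⁻¹ * k * h⁻¹ ∈ A := mul_mem (mul_mem (inv_mem (pow_mem hmA i)) hk) (inv_mem (pow_mem hmA i))
  refine ⟨h, pow_mem hmA i, h⁻¹ * k * h⁻¹, hA', hht, hk't, (fix_iff_commute huu).1 hhu, hfix, ?_⟩
  group

/-- Square roots among elements of odd order are unique. -/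
theorem eq_of_sq_eq {a b : G} (ha : Odd (orderOf a)) (hb : Odd (orderOf b)) (h : a * a = b * b) : a = b := by
  obtain ⟨m, hm⟩ := ha.mul hb
  have key : ∀ c : G, orderOf c ∣ 2 * m + 1 → (c * c) ^ (m + 1) = c := fun c hc => by
    rw [← pow_two, ← pow_mul, show 2 * (m + 1) = 2 * m + 1 + 1 by ring, pow_succ,
      orderOf_dvd_iff_pow_eq_one.1 hc, one_mul]
  rw [← key a (hm ▸ dvd_mul_right _ _), h, key b (hm ▸ dvd_mul_left _ _)]

/-- The decomposition of `exists_split` is unique. -/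
theorem split_unique (Φ : KFrame G) {A : Subgroup G} (hodd : ∀ z ∈ A, Odd (orderOf z)) {h k h' k' : G}
    (hh : h ∈ A) (hk : k ∈ A) (hh' : h' ∈ A) (hk' : k' ∈ A) (ht : Φ.t * k * Φ.t = k⁻¹)
    (ht' : Φ.t * k' * Φ.t = k'⁻¹) (hu : Commute Φ.u h) (hu' : Commute Φ.u h')
    (hv : Commute (Φ.t * Φ.u) k) (hv' : Commute (Φ.t * Φ.u) k') (e : h * k * h = h' * k' * h') :
    h = h' ∧ k = k' := by
  have key : ∀ x y : G, Φ.t * y * Φ.t = y⁻¹ → Commute Φ.u x → Commute (Φ.t * Φ.u) y →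
      Φ.u * (x * y * x) * Φ.u = x * y⁻¹ * x := by
    intro x y hyt hxu hyv
    have h1 : Φ.u * y * Φ.u = y⁻¹ := by
      rw [← hyt]
      calc Φ.u * y * Φ.u = Φ.t * ((Φ.t * Φ.u) * y * Φ.u) := by
            rw [mul_assoc Φ.t Φ.u y, mul_assoc Φ.t (Φ.u * y), ← mul_assoc Φ.t Φ.t, Φ.tt, one_mul]
        _ = Φ.t * (y * (Φ.t * Φ.u) * Φ.u) := by rw [hyv.eq]
        _ = _ := by rw [mul_assoc, mul_assoc, Φ.uu, mul_one]; group
    calc Φ.u * (x * y * x) * Φ.u = (Φ.u * x) * y * (x * Φ.u) := by group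
      _ = (x * Φ.u) * y * (Φ.u * x) := by rw [hxu.eq]
      _ = x * (Φ.u * y * Φ.u) * x := by group
      _ = _ := by rw [h1]
  have e1 : h * k⁻¹ * h = h' * k'⁻¹ * h' := by rw [← key h k ht hu hv, e, key h' k' ht' hu' hv']
  have e2 : (h * k⁻¹ * h⁻¹) * (h * k⁻¹ * h⁻¹) = (h' * k'⁻¹ * h'⁻¹) * (h' * k'⁻¹ * h'⁻¹) := by
    calc (h * k⁻¹ * h⁻¹) * (h * k⁻¹ * h⁻¹) = (h * k⁻¹ * h) * (h * k * h)⁻¹ := by group
      _ = (h' * k'⁻¹ * h') * (h' * k' * h')⁻¹ := by rw [e1, e]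
      _ = _ := by group
  have hmem : ∀ a ∈ A, ∀ b ∈ A, a * b⁻¹ * a⁻¹ ∈ A := fun a ha b hb =>
    mul_mem (mul_mem ha (inv_mem hb)) (inv_mem ha)
  have e3 := eq_of_sq_eq (hodd _ (hmem h hh k hk)) (hodd _ (hmem h' hh' k' hk')) e2
  have e4 : h * h = h' * h' := by
    calc h * h = (h * k⁻¹ * h⁻¹) * (h * k * h) := by group
      _ = (h' * k'⁻¹ * h'⁻¹) * (h' * k' * h') := by rw [e3, e]
      _ = _ := by group
  have e5 := eq_of_sq_eq (hodd h hh) (hodd h' hh') e4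
  subst e5
  exact ⟨rfl, mul_left_cancel (mul_right_cancel e)⟩

/-- A divisor of `m²` congruent to one modulo `q`, for odd `m` dividing `q ± 1`, is one. -/
theorem hei_arith {q m D : ℕ} (hq : q.Prime) (hq2 : q ≠ 2) (hm : m ∣ q - 1 ∨ m ∣ q + 1)
    (hD : D ∣ m * m) (hodd : Odd D) (hmod : D ≡ 1 [MOD q]) : D = 1 := by
  have hq3 : 3 ≤ q := by have := hq.two_le; omega
  obtain ⟨e, he⟩ := hD
  have hD0 : 1 ≤ D := hodd.pos
  obtain ⟨l', hl'⟩ := (Nat.modEq_iff_dvd' hD0).1 hmod.symm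
  have hD' : D = 1 + q * l' := by omega
  by_contra hne
  have hl1 : 1 ≤ l' := by
    rcases Nat.eq_zero_or_pos l' with h | h
    · rw [h, mul_zero] at hD'; omega
    · exact h
  obtain ⟨c, S, hS, hqq⟩ : ∃ c S : ℕ, m * c = S ∧ (S + 1 = q ∨ S = q + 1) := by
    rcases hm with ⟨c, hc⟩ | ⟨c, hc⟩
    · exact ⟨c, q - 1, hc.symm, Or.inl (by omega)⟩
    · exact ⟨c, q + 1, hc.symm, Or.inr rfl⟩
  have hprod : D * (e * (c * c)) = S * S := by
    rw [← hS, ← mul_assoc, ← he]; ring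
  have hSS : 1 ≤ S * S := Nat.mul_pos (by omega) (by omega)
  have hec : e * (c * c) ≡ 1 [MOD q] := by
    have h1 : D * (e * (c * c)) ≡ 1 * (e * (c * c)) [MOD q] := hmod.mul_right _
    rw [one_mul, hprod] at h1
    refine h1.symm.trans ?_
    refine ((Nat.modEq_iff_dvd' hSS).2 ?_).symm
    rcases hqq with h | h
    · refine ⟨q - 2, ?_⟩
      have hS' : S = q - 1 := by omega
      obtain ⟨k, rfl⟩ : ∃ k, q = k + 2 := ⟨q - 2, by omega⟩
      rw [hS', show k + 2 - 1 = k + 1 by omega, show k + 2 - 2 = k by omega]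
      have : (k + 1) * (k + 1) = (k + 2) * k + 1 := by ring
      omega
    · refine ⟨q + 2, ?_⟩
      rw [h]
      have : (q + 1) * (q + 1) = q * (q + 2) + 1 := by ring
      omega
  have hec1 : 1 ≤ e * (c * c) := by
    rcases Nat.eq_zero_or_pos (e * (c * c)) with h | h
    · rw [h, mul_zero] at hprod; omega
    · exact h
  obtain ⟨l, hl⟩ := (Nat.modEq_iff_dvd' hec1).1 hec.symm
  have hec' : e * (c * c) = 1 + q * l := by omega
  have hqodd := hq.odd_of_ne_two hq2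
  have hSeven : Even S := by
    obtain ⟨j, hj⟩ := hqodd
    rcases hqq with h | h
    · exact ⟨j, by omega⟩
    · exact ⟨j + 1, by omega⟩
  rw [hec', hD'] at hprod
  rcases Nat.eq_zero_or_pos l with hl0 | hl0
  · subst hl0
    rw [mul_zero, add_zero, mul_one] at hprod
    rw [← hD'] at hprod
    exact Nat.not_even_iff_odd.2 hodd (hprod ▸ hSeven.mul_left S)
  have hmain : l + l' + q * (l * l') = q + 2 ∨ l + l' + q * (l * l') + 2 = q := by
    rcases hqq with h | h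
    · right
      refine Nat.eq_of_mul_eq_mul_left (show 0 < q by omega) ?_
      subst h
      nlinarith
    · left
      refine Nat.eq_of_mul_eq_mul_left (show 0 < q by omega) ?_
      subst h
      nlinarith
  have hll : 1 ≤ l * l' := Nat.mul_pos hl0 hl1
  rcases hmain with h | h
  · have hlv : l + l' ≤ 2 := by nlinarith
    have h' : l' = 1 := by omega
    rw [h', mul_one] at hD'
    rw [hD'] at hodd
    obtain ⟨j, hj⟩ := hqodd
    obtain ⟨i, hi⟩ := hodd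
    omega
  · nlinarith

namespace KFrame.Hei

variable [Finite G] {Φ : KFrame G} {q : ℕ} (h : Φ.Hei q)
include h

theorem F_comm {a b : G} (ha : a ∈ h.F) (hb : b ∈ h.F) : a * b * a⁻¹ * b⁻¹ ∈ h.Z := by
  have hcZ : ∀ z ∈ h.Z, ∀ y ∈ Φ.U, y * z * y⁻¹ = z := fun z hz y hy => by
    rw [(h.Z_central z hz y hy).eq, mul_inv_cancel_right]
  let K : Subgroup G :=
    { carrier := {y | y ∈ h.F ∧ ∀ x ∈ ({h.e, h.d} : Set G), y * x * y⁻¹ * x⁻¹ ∈ h.Z}
      one_mem' := ⟨one_mem _, fun x _ => by simp⟩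
      mul_mem' := fun {y y'} hy hy' => ⟨mul_mem hy.1 hy'.1, fun x hx => by
        have e : y * y' * x * (y * y')⁻¹ * x⁻¹ =
            y * (y' * x * y'⁻¹ * x⁻¹) * y⁻¹ * (y * x * y⁻¹ * x⁻¹) := by group
        rw [e, hcZ _ (hy'.2 x hx) y (h.F_le hy.1)]
        exact mul_mem (hy'.2 x hx) (hy.2 x hx)⟩
      inv_mem' := fun {y} hy => ⟨inv_mem hy.1, fun x hx => by
        have e : y⁻¹ * x * y⁻¹⁻¹ * x⁻¹ = y⁻¹ * (y * x * y⁻¹ * x⁻¹)⁻¹ * y⁻¹⁻¹ := by group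
        rw [e, hcZ _ (inv_mem (hy.2 x hx)) _ (inv_mem (h.F_le hy.1))]
        exact inv_mem (hy.2 x hx)⟩ }
  have he : h.e ∈ K := ⟨h.e_mem, by
    rintro x (rfl | rfl)
    · simp
    · rw [h.comm]; exact h.ω_mem⟩
  have hd : h.d ∈ K := ⟨h.d_mem, by
    rintro x (rfl | rfl)
    · rw [show h.d * h.e * h.d⁻¹ * h.e⁻¹ = (h.e * h.d * h.e⁻¹ * h.d⁻¹)⁻¹ by group, h.comm]
      exact inv_mem h.ω_mem
    · simp⟩
  have hz : ∀ z ∈ h.Z, z ∈ K := fun z hz => ⟨h.Z_le hz, fun x hx => by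
    have hxU : x ∈ Φ.U := by rcases hx with rfl | rfl <;> exact h.F_le (by first | exact h.e_mem | exact h.d_mem)
    rw [(h.Z_central z hz x hxU).symm.eq, mul_inv_cancel_right, mul_inv_cancel]
    exact one_mem _⟩
  have hFK : h.F ≤ K := fun x hx => by
    obtain ⟨i, j, z, hz', rfl⟩ := h.F_eq x hx
    exact mul_mem (mul_mem (pow_mem he i) (pow_mem hd j)) (hz z hz')
  let L : Subgroup G :=
    { carrier := {x | x ∈ h.F ∧ a * x * a⁻¹ * x⁻¹ ∈ h.Z}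
      one_mem' := ⟨one_mem _, by simp⟩
      mul_mem' := fun {y y'} hy hy' => ⟨mul_mem hy.1 hy'.1, by
        rw [show a * (y * y') * a⁻¹ * (y * y')⁻¹ =
          (a * y * a⁻¹ * y⁻¹) * (y * (a * y' * a⁻¹ * y'⁻¹) * y⁻¹) by group,
          hcZ _ hy'.2 y (h.F_le hy.1)]
        exact mul_mem hy.2 hy'.2⟩
      inv_mem' := fun {y} hy => ⟨inv_mem hy.1, by
        rw [show a * y⁻¹ * a⁻¹ * y⁻¹⁻¹ = y⁻¹ * (a * y * a⁻¹ * y⁻¹)⁻¹ * y⁻¹⁻¹ by group,
          hcZ _ (inv_mem hy.2) _ (inv_mem (h.F_le hy.1))]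
        exact inv_mem hy.2⟩ }
  have hFL : h.F ≤ L := fun x hx => by
    obtain ⟨i, j, z, hz', rfl⟩ := h.F_eq x hx
    refine mul_mem (mul_mem (pow_mem (show h.e ∈ L from ⟨h.e_mem, (hFK ha).2 _ (Or.inl rfl)⟩) i)
      (pow_mem (show h.d ∈ L from ⟨h.d_mem, (hFK ha).2 _ (Or.inr rfl)⟩) j)) ⟨h.Z_le hz', ?_⟩
    rw [(h.Z_central z hz' a (h.F_le ha)).eq, mul_inv_cancel_right, mul_inv_cancel]
    exact one_mem _
  exact (hFL hb).2

theorem pow_mem_Z {x : G} (hx : x ∈ h.F) : x ^ q ∈ h.Z := by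
  have hn : ∀ y ∈ h.F, y ∈ normalizer (h.Z : Set G) := fun y hy =>
    Cfsg.Lib.Fusion.le_normalizer_of_conj_mem fun z hz => by
      rwa [(h.Z_central z hz y (h.F_le hy)).eq, mul_inv_cancel_right]
  haveI : (h.Z.subgroupOf h.F).Normal := (normal_subgroupOf_iff_le_normalizer h.Z_le).2 hn
  set φ := QuotientGroup.mk' (h.Z.subgroupOf h.F)
  obtain ⟨i, j, z, hz, rfl⟩ := h.F_eq x hx
  set E : ↥h.F := ⟨h.e, h.e_mem⟩
  set D : ↥h.F := ⟨h.d, h.d_mem⟩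
  have hone : ∀ y : ↥h.F, (y : G) ∈ h.Z → φ y = 1 := fun y hy => (QuotientGroup.eq_one_iff y).2 hy
  have hcomm : Commute (φ E) (φ D) := by
    refine mul_inv_eq_iff_eq_mul.1 (mul_inv_eq_one.1 ?_)
    rw [← map_inv, ← map_inv, ← map_mul, ← map_mul, ← map_mul]
    exact hone _ (h.F_comm h.e_mem h.d_mem)
  have hE : E ^ q = 1 := Subtype.ext (by rw [SubmonoidClass.coe_pow]; exact orderOf_dvd_iff_pow_eq_one.1 h.he.dvd)
  have hD : D ^ q = 1 := Subtype.ext (by rw [SubmonoidClass.coe_pow]; exact orderOf_dvd_iff_pow_eq_one.1 h.hd.dvd)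
  have hEq : φ E ^ q = 1 := by rw [← map_pow, hE, map_one]
  have hDq : φ D ^ q = 1 := by rw [← map_pow, hD, map_one]
  have key : φ ⟨_, hx⟩ ^ q = 1 := by
    rw [show (⟨_, hx⟩ : ↥h.F) = E ^ i * D ^ j * ⟨z, h.Z_le hz⟩ from Subtype.ext (by simp [E, D]),
      map_mul, map_mul, hone ⟨z, h.Z_le hz⟩ hz, mul_one, map_pow, map_pow, (hcomm.pow_pow i j).mul_pow,
      ← pow_mul, ← pow_mul, mul_comm i, mul_comm j, pow_mul, pow_mul, hEq, hDq, one_pow, one_pow, one_mul]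
  rw [← map_pow] at key
  exact mem_subgroupOf.1 ((QuotientGroup.eq_one_iff _).1 key)

/-- Commutation with an element outside `F` is onto modulo `Z`. -/
theorem exists_conj_mod {k f : G} (hk : k ∈ Φ.U) (hkF : k ∉ h.F) (hf : f ∈ h.F) :
    ∃ r ∈ h.F, k⁻¹ * r * k * r⁻¹ * f⁻¹ ∈ h.Z := by
  classical
  have hn : ∀ y ∈ h.F, y ∈ normalizer (h.Z : Set G) := fun y hy =>
    Cfsg.Lib.Fusion.le_normalizer_of_conj_mem fun z hz => by
      rwa [(h.Z_central z hz y (h.F_le hy)).eq, mul_inv_cancel_right]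
  haveI : (h.Z.subgroupOf h.F).Normal := (normal_subgroupOf_iff_le_normalizer h.Z_le).2 hn
  have hc : ∀ r : ↥h.F, k⁻¹ * (r : G) * k * (r : G)⁻¹ ∈ h.F := fun r => by
    refine mul_mem ?_ (inv_mem r.2)
    have := (mem_normalizer_iff.1 (h.U_le_normalizer (inv_mem hk)) r).1 r.2
    rwa [inv_inv] at this
  let f0 : ↥h.F → ↥h.F ⧸ h.Z.subgroupOf h.F := fun r => QuotientGroup.mk ⟨_, hc r⟩
  have hwell : ∀ a b : ↥h.F, (a⁻¹ * b : ↥h.F) ∈ h.Z.subgroupOf h.F → f0 a = f0 b := by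
    intro a b hab
    have hz : (a : G)⁻¹ * b ∈ h.Z := mem_subgroupOf.1 hab
    refine congrArg QuotientGroup.mk (Subtype.ext ?_)
    show k⁻¹ * (a : G) * k * (a : G)⁻¹ = k⁻¹ * b * k * (b : G)⁻¹
    have e : (b : G) = a * ((a : G)⁻¹ * b) := by group
    conv_rhs => rw [e]
    set z := (a : G)⁻¹ * b
    calc k⁻¹ * (a : G) * k * (a : G)⁻¹ = k⁻¹ * a * k * (z * z⁻¹) * (a : G)⁻¹ := by group
      _ = k⁻¹ * a * (k * z) * z⁻¹ * (a : G)⁻¹ := by group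
      _ = k⁻¹ * a * (z * k) * z⁻¹ * (a : G)⁻¹ := by rw [(h.Z_central z hz k hk).eq]
      _ = _ := by group
  let f1 : ↥h.F ⧸ h.Z.subgroupOf h.F → ↥h.F ⧸ h.Z.subgroupOf h.F := fun x =>
    Quotient.liftOn' x f0 fun a b hab => hwell a b (QuotientGroup.leftRel_apply.1 hab)
  have hinj : Function.Injective f1 := by
    intro x y
    obtain ⟨a, rfl⟩ := QuotientGroup.mk_surjective x
    obtain ⟨b, rfl⟩ := QuotientGroup.mk_surjective y
    intro hab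
    have hab' : f0 a = f0 b := hab
    have h1 : (k⁻¹ * (a : G) * k * (a : G)⁻¹)⁻¹ * (k⁻¹ * b * k * (b : G)⁻¹) ∈ h.Z :=
      mem_subgroupOf.1 (QuotientGroup.eq.1 hab')
    refine QuotientGroup.eq.2 (mem_subgroupOf.2 ?_)
    refine h.fpf k⁻¹ (inv_mem hk) (fun h' => hkF (by simpa using inv_mem h')) _ (mul_mem (inv_mem a.2) b.2) ?_
    set A := k⁻¹ * (a : G) * k
    have hA : A ∈ h.F := by
      have := (mem_normalizer_iff.1 (h.U_le_normalizer (inv_mem hk)) a).1 a.2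
      rwa [inv_inv] at this
    set B := k⁻¹ * (b : G) * k with hB
    have hBF : B ∈ h.F := by
      have := (mem_normalizer_iff.1 (h.U_le_normalizer (inv_mem hk)) b).1 b.2
      rwa [inv_inv] at this
    -- reorder modulo `Z`
    set P : ↥h.F ⧸ h.Z.subgroupOf h.F := QuotientGroup.mk ⟨A, hA⟩ with hP
    haveI : IsMulCommutative (↥h.F ⧸ h.Z.subgroupOf h.F) := ⟨⟨fun p p' => by
      obtain ⟨c, rfl⟩ := QuotientGroup.mk_surjective p
      obtain ⟨c', rfl⟩ := QuotientGroup.mk_surjective p'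
      rw [← QuotientGroup.mk_mul, ← QuotientGroup.mk_mul]
      refine (QuotientGroup.eq_iff_div_mem).2 (mem_subgroupOf.2 ?_)
      rw [div_eq_mul_inv]
      push_cast
      rw [show (c : G) * c' * ((c' : G) * c)⁻¹ = c * c' * (c : G)⁻¹ * (c' : G)⁻¹ by group]
      exact h.F_comm c.2 c'.2⟩⟩
    letI : CommGroup (↥h.F ⧸ h.Z.subgroupOf h.F) :=
      { (inferInstance : Group (↥h.F ⧸ h.Z.subgroupOf h.F)) with
        mul_comm := fun p p' => IsMulCommutative.is_comm.comm p p' }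
    let AF : ↥h.F := ⟨A, hA⟩
    let BF : ↥h.F := ⟨B, hBF⟩
    have h2 : (QuotientGroup.mk (AF⁻¹ * BF * (a⁻¹ * b)⁻¹) : ↥h.F ⧸ h.Z.subgroupOf h.F) = 1 := by
      have h0 : (QuotientGroup.mk ((AF * a⁻¹)⁻¹ * (BF * b⁻¹)) : ↥h.F ⧸ h.Z.subgroupOf h.F) = 1 :=
        (QuotientGroup.eq_one_iff _).2 (mem_subgroupOf.2 h1)
      simp only [QuotientGroup.mk_mul, QuotientGroup.mk_inv, mul_inv_rev, inv_inv] at h0 ⊢
      rw [← h0]
      simp only [mul_comm, mul_left_comm, mul_assoc]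
    have h3 := mem_subgroupOf.1 ((QuotientGroup.eq_one_iff _).1 h2)
    have e : k⁻¹ * ((a : G)⁻¹ * b) * k⁻¹⁻¹ * ((a : G)⁻¹ * b)⁻¹ = A⁻¹ * B * ((a : G)⁻¹ * b)⁻¹ := by
      simp only [A, hB]; group
    push_cast
    rw [e]
    exact h3
  obtain ⟨x, hx⟩ := (Finite.injective_iff_surjective.1 hinj) (QuotientGroup.mk ⟨f, hf⟩)
  obtain ⟨r, rfl⟩ := QuotientGroup.mk_surjective x
  refine ⟨r, r.2, ?_⟩
  have h1 := mem_subgroupOf.1 (QuotientGroup.eq.1 (show f0 r = QuotientGroup.mk ⟨f, hf⟩ from hx))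
  have h2 : (k⁻¹ * (r : G) * k * (r : G)⁻¹)⁻¹ * f ∈ h.Z := h1
  have h3 := h.Z_central _ (inv_mem h2) f (h.F_le hf)
  have e : k⁻¹ * (r : G) * k * (r : G)⁻¹ * f⁻¹ = f * ((k⁻¹ * (r : G) * k * (r : G)⁻¹)⁻¹ * f)⁻¹ * f⁻¹ := by group
  rw [e, h3.eq, mul_inv_cancel_right]
  exact inv_mem h2

/-- An element outside `F` is conjugate to an inverted one. -/
theorem exists_conj_inverted {y : G} (hy : y ∈ Φ.U) (hyF : y ∉ h.F) :
    ∃ a ∈ Φ.U, Φ.u * (a * y * a⁻¹) * Φ.u = (a * y * a⁻¹)⁻¹ ∧ a * y * a⁻¹ ∈ Φ.U ∧ a * y * a⁻¹ ∉ h.F := by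
  obtain ⟨k, hkU, w, hwU, hk, hkw, rfl⟩ := exists_inverted_mul_fixed Φ.uu (fun z hz => Φ.odd_of_mem hz) hy
    (Φ.u_conj_mem hy)
  have hwF : w ∈ h.F := by
    have hw : w ∈ Φ.W := ⟨hwU, mem_centralizer_singleton_iff.2 hkw.eq.symm⟩
    rw [h.W_eq] at hw
    exact (zpowers_le.2 h.d_mem) hw
  have hkF : k ∉ h.F := fun hkF => hyF (mul_mem hkF hwF)
  obtain ⟨r, hr, hz⟩ := h.exists_conj_mod hkU hkF hwF
  set z := k⁻¹ * r * k * r⁻¹ * w⁻¹ with hzdef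
  have hrU := h.F_le hr
  have hzU := h.Z_le_U hz
  have e : r⁻¹ * (k * w) * r⁻¹⁻¹ = k * z⁻¹ := by
    have hz' := h.Z_central z hz
    have hw' : w = z⁻¹ * (k⁻¹ * r * k * r⁻¹) := by
      have h1 : z * w = k⁻¹ * r * k * r⁻¹ := by rw [hzdef, inv_mul_cancel_right]
      rw [← h1, inv_mul_cancel_left]
    calc r⁻¹ * (k * w) * r⁻¹⁻¹ = r⁻¹ * (k * z⁻¹) * k⁻¹ * r * k := by rw [hw']; group
      _ = r⁻¹ * (z⁻¹ * k) * k⁻¹ * r * k := by rw [((hz' k hkU).inv_right).eq]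
      _ = r⁻¹ * z⁻¹ * r * k := by group
      _ = z⁻¹ * r⁻¹ * r * k := by rw [((hz' _ (inv_mem hrU)).inv_right).eq]
      _ = k * z⁻¹ := by rw [inv_mul_cancel_right, ((hz' k hkU).inv_right).eq]
  refine ⟨r⁻¹, inv_mem hrU, ?_, ?_, ?_⟩
  · rw [e]
    calc Φ.u * (k * z⁻¹) * Φ.u = (Φ.u * k * Φ.u) * (Φ.u * z⁻¹ * Φ.u) := by
          rw [show Φ.u * k * Φ.u * (Φ.u * z⁻¹ * Φ.u) = Φ.u * k * (Φ.u * Φ.u) * z⁻¹ * Φ.u by group, Φ.uu]
          group
      _ = k⁻¹ * z := by rw [hk, inv_inverted Φ.uu (h.Z_inv z hz)]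
      _ = z * k⁻¹ := ((h.Z_central z hz k hkU).inv_left).eq
      _ = _ := by group
  · rw [e]; exact mul_mem hkU (inv_mem hzU)
  · rw [e]
    exact fun h' => hkF (by simpa using mul_mem h' (h.Z_le hz))

/-- The commutation with an inverted element outside `F`. -/
theorem inverted_of_comm_mem {x y : G} (hx : x ∈ Φ.U) (hxF : x ∉ h.F) (hxi : Φ.u * x * Φ.u = x⁻¹)
    (hy : y ∈ Φ.U) (hyx : y * x * y⁻¹ * x⁻¹ ∈ h.Z) :
    Φ.u * y * Φ.u = y⁻¹ ∧ Commute y x := by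
  have hcZ : ∀ z ∈ h.Z, ∀ y ∈ Φ.U, y * z * y⁻¹ = z := fun z hz y hy => by
    rw [(h.Z_central z hz y hy).eq, mul_inv_cancel_right]
  let H : Subgroup G :=
    { carrier := {y | y ∈ Φ.U ∧ y * x * y⁻¹ * x⁻¹ ∈ h.Z}
      one_mem' := ⟨one_mem _, by simp⟩
      mul_mem' := fun {a b} ha hb => ⟨mul_mem ha.1 hb.1, by
        rw [show a * b * x * (a * b)⁻¹ * x⁻¹ = a * (b * x * b⁻¹ * x⁻¹) * a⁻¹ * (a * x * a⁻¹ * x⁻¹) by group,
          hcZ _ hb.2 a ha.1]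
        exact mul_mem hb.2 ha.2⟩
      inv_mem' := fun {a} ha => ⟨inv_mem ha.1, by
        rw [show a⁻¹ * x * a⁻¹⁻¹ * x⁻¹ = a⁻¹ * (a * x * a⁻¹ * x⁻¹)⁻¹ * a⁻¹⁻¹ by group,
          hcZ _ (inv_mem ha.2) _ (inv_mem ha.1)]
        exact inv_mem ha.2⟩ }
  have huH : ∀ a ∈ H, Φ.u * a * Φ.u ∈ H := by
    intro a ha
    refine ⟨Φ.u_conj_mem ha.1, ?_⟩
    have hzz : Φ.u * (a * x * a⁻¹ * x⁻¹) * Φ.u ∈ h.Z := by rw [h.Z_inv _ ha.2]; exact inv_mem ha.2
    have e1 : (Φ.u * a * Φ.u) * x⁻¹ * (Φ.u * a * Φ.u)⁻¹ * x = Φ.u * (a * x * a⁻¹ * x⁻¹) * Φ.u := by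
      rw [mul_inv_rev, mul_inv_rev, Cfsg.Lib.Invol.inv_eq_self Φ.hu, ← hxi]
      calc Φ.u * a * Φ.u * (Φ.u * x * Φ.u) * (Φ.u * (a⁻¹ * Φ.u)) * x
          = Φ.u * a * (Φ.u * Φ.u) * x * (Φ.u * Φ.u) * a⁻¹ * Φ.u * x := by group
        _ = Φ.u * a * x * a⁻¹ * (Φ.u * x * Φ.u) * Φ.u := by
          rw [Φ.uu, mul_one, mul_one, show Φ.u * a * x * a⁻¹ * (Φ.u * x * Φ.u) * Φ.u =
            Φ.u * a * x * a⁻¹ * Φ.u * x * (Φ.u * Φ.u) by group, Φ.uu, mul_one]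
        _ = _ := by rw [hxi]; group
    set b := Φ.u * a * Φ.u
    rw [← e1] at hzz
    have hbU : b ∈ Φ.U := Φ.u_conj_mem ha.1
    rw [show b * x * b⁻¹ * x⁻¹ = x * (b * x⁻¹ * b⁻¹ * x)⁻¹ * x⁻¹ by group, hcZ _ (inv_mem hzz) x hx]
    exact inv_mem hzz
  have hall : ∀ a ∈ H, Φ.u * a * Φ.u = a⁻¹ := by
    intro a ha
    refine inverts_of_fixed_trivial Φ.uu huH (fun c hc hcu => ?_) ha
    have hcF : c ∈ h.F := by
      have hw : c ∈ Φ.W := ⟨hc.1, mem_centralizer_singleton_iff.2 hcu.symm.eq⟩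
      rw [h.W_eq] at hw
      exact (zpowers_le.2 h.d_mem) hw
    have hcZ' : c ∈ h.Z := by
      refine h.fpf x hx hxF c hcF ?_
      rw [show x * c * x⁻¹ * c⁻¹ = (c * x * c⁻¹ * x⁻¹)⁻¹ by group]
      exact inv_mem hc.2
    exact eq_one_of_fixed_inverted Φ.uu hcu (h.Z_inv c hcZ') (Φ.odd_of_mem hc.1)
  have hxH : x ∈ H := ⟨hx, by simp⟩
  refine ⟨hall y ⟨hy, hyx⟩, ?_⟩
  have hy' := hall y ⟨hy, hyx⟩
  refine commute_of_inverted_inverted Φ.uu hy' hxi ?_ (Φ.odd_of_mem hy)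
  exact hall _ (mul_mem (mul_mem ⟨hy, hyx⟩ hxH) (inv_mem (show y ∈ H from ⟨hy, hyx⟩)))

/-- An element of order `q` commuting with an inverted element outside `F` lies in `⟨ω⟩`. -/
theorem mem_omega {x z : G} (hx : x ∈ Φ.U) (hxF : x ∉ h.F) (hz : z ∈ Φ.U) (hzx : Commute z x)
    (hzq : z ^ q = 1) : z ∈ zpowers h.ω := by
  haveI : (h.F.subgroupOf Φ.U).Normal := (normal_subgroupOf_iff_le_normalizer h.F_le).2 h.U_le_normalizer
  have hzF : z ∈ h.F := by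
    have h1 : orderOf (QuotientGroup.mk' (h.F.subgroupOf Φ.U) ⟨z, hz⟩) ∣ h.F.relIndex Φ.U := by
      have := orderOf_dvd_natCard (QuotientGroup.mk' (h.F.subgroupOf Φ.U) ⟨z, hz⟩)
      rwa [← index_eq_card] at this
    have h2 : orderOf (QuotientGroup.mk' (h.F.subgroupOf Φ.U) ⟨z, hz⟩) ∣ q := by
      refine orderOf_dvd_of_pow_eq_one ?_
      rw [← map_pow, show (⟨z, hz⟩ : Φ.U) ^ q = 1 from Subtype.ext (by rw [SubmonoidClass.coe_pow]; exact hzq),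
        map_one]
    have hcop : Nat.Coprime (h.F.relIndex Φ.U) q := by
      refine (h.prime.coprime_iff_not_dvd.2 fun hd => ?_).symm
      have := Nat.le_of_dvd (by have := h.index_gt; omega) hd
      have := h.index_le
      have := h.prime.two_le
      omega
    exact mem_subgroupOf.1 ((QuotientGroup.eq_one_iff _).1 (orderOf_eq_one_iff.1
      (Nat.eq_one_of_dvd_coprimes hcop h1 h2)))
  refine h.Z_omega z (h.fpf x hx hxF z hzF ?_) hzq
  rw [hzx.symm.eq, mul_inv_cancel_right, mul_inv_cancel]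
  exact one_mem _

/-- Every element of `U` is, modulo `F`, one commuting with a given inverted element outside `F`. -/
theorem exists_mul_commute {x y : G} (hx : x ∈ Φ.U) (hxF : x ∉ h.F) (hxi : Φ.u * x * Φ.u = x⁻¹)
    (hy : y ∈ Φ.U) : ∃ r ∈ h.F, Commute (r * y) x := by
  have hcF := h.quot_comm y hy x hx
  set c := y * x * y⁻¹ * x⁻¹
  obtain ⟨r, hr, hz⟩ := h.exists_conj_mod (k := x⁻¹) (inv_mem hx) (fun h' => hxF (by simpa using inv_mem h')) hcF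
  refine ⟨r, hr, (h.inverted_of_comm_mem hx hxF hxi (mul_mem (h.F_le hr) hy) ?_).2⟩
  have hrU := h.F_le hr
  rw [inv_inv] at hz
  set z := x * r * x⁻¹ * r⁻¹ * c⁻¹ with hzdef
  have e : r * y * x * (r * y)⁻¹ * x⁻¹ = (r * c * r⁻¹ * c⁻¹) * z⁻¹ := by
    simp only [hzdef, c]; group
  rw [e]
  exact mul_mem (h.F_comm hr hcF) (inv_mem hz)

/-- The centralizer of an inverted element outside `F` in `U` is abelian and has order `|Z| m`. -/
theorem card_centralizer {x : G} (hx : x ∈ Φ.U) (hxF : x ∉ h.F) (hxi : Φ.u * x * Φ.u = x⁻¹) :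
    (∀ a ∈ Φ.U ⊓ centralizer ({x} : Set G), ∀ b ∈ Φ.U ⊓ centralizer ({x} : Set G), Commute a b) ∧
      Φ.U ⊓ centralizer ({x} : Set G) ⊓ h.F = h.Z ∧
      Nat.card ↥(Φ.U ⊓ centralizer ({x} : Set G)) = Nat.card h.Z * h.F.relIndex Φ.U := by
  have hc : ∀ a : G, Commute a x → a * x * a⁻¹ * x⁻¹ ∈ h.Z := fun a ha => by
    rw [ha.eq, mul_inv_cancel_right, mul_inv_cancel]; exact one_mem _
  have hmem : ∀ a ∈ Φ.U ⊓ centralizer ({x} : Set G), Commute a x := fun a ha =>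
    mem_centralizer_singleton_iff.1 ha.2
  have hinv : ∀ a ∈ Φ.U ⊓ centralizer ({x} : Set G), Φ.u * a * Φ.u = a⁻¹ := fun a ha =>
    (h.inverted_of_comm_mem hx hxF hxi ha.1 (hc a (hmem a ha))).1
  have hinter : Φ.U ⊓ centralizer ({x} : Set G) ⊓ h.F = h.Z := by
    refine le_antisymm (fun a ha => h.fpf x hx hxF a ha.2 ?_) (fun z hz => ⟨⟨h.Z_le_U hz,
      mem_centralizer_singleton_iff.2 ((h.Z_central z hz x hx).symm).eq⟩, h.Z_le hz⟩)
    rw [(hmem a ha.1).symm.eq, mul_inv_cancel_right, mul_inv_cancel]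
    exact one_mem _
  refine ⟨fun a ha b hb => commute_of_inverted_inverted Φ.uu (hinv a ha) (hinv b hb) ?_ (Φ.odd_of_mem ha.1),
    hinter, ?_⟩
  · exact hinv _ (mul_mem (mul_mem ha hb) (inv_mem ha))
  set H := Φ.U ⊓ centralizer ({x} : Set G)
  haveI : (h.F.subgroupOf Φ.U).Normal := (normal_subgroupOf_iff_le_normalizer h.F_le).2 h.U_le_normalizer
  let f : ↥H →* ↥Φ.U ⧸ h.F.subgroupOf Φ.U :=
    (QuotientGroup.mk' _).comp (Subgroup.inclusion inf_le_left)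
  have hf : Function.Surjective f := by
    intro p
    obtain ⟨⟨y, hy⟩, rfl⟩ := QuotientGroup.mk_surjective p
    obtain ⟨r, hr, hc'⟩ := h.exists_mul_commute hx hxF hxi hy
    refine ⟨⟨r * y, mul_mem (h.F_le hr) hy, mem_centralizer_singleton_iff.2 hc'.eq⟩, ?_⟩
    refine QuotientGroup.eq.2 (mem_subgroupOf.2 ?_)
    show (r * y)⁻¹ * y ∈ h.F
    have := (mem_normalizer_iff.1 (h.U_le_normalizer (inv_mem hy)) _).1 (inv_mem hr)
    rw [show (r * y)⁻¹ * y = y⁻¹ * r⁻¹ * y⁻¹⁻¹ by group]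
    exact this
  rw [card_eq_card_quotient_mul_card_subgroup f.ker,
    Nat.card_congr (QuotientGroup.quotientKerEquivOfSurjective f hf).toEquiv, ← index_eq_card,
    show (h.F.subgroupOf Φ.U).index = h.F.relIndex Φ.U from rfl, mul_comm]
  congr 1
  refine Nat.card_congr
    { toFun := fun a => ⟨((a : H) : G), ?_⟩
      invFun := fun z => ⟨⟨z, (hinter.ge z.2).1⟩,
        (QuotientGroup.eq_one_iff _).2 (mem_subgroupOf.2 (h.Z_le z.2))⟩
      left_inv := fun _ => rfl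
      right_inv := fun _ => rfl }
  exact hinter.le ⟨(a : H).2, mem_subgroupOf.1 ((QuotientGroup.eq_one_iff (N := h.F.subgroupOf Φ.U)
    (⟨((a : H) : G), (a : H).2.1⟩ : ↥Φ.U)).1 a.2)⟩

end KFrame.Hei

namespace KMin

variable [Finite G] (hK : KMin G) {Φ : KFrame G} {q : ℕ} (h : Φ.Hei q)
include hK h

theorem centralizer_Z_le {z : G} (hz : z ∈ h.Z) (hz1 : z ≠ 1) {c : G} (hc : Commute c z) : c ∈ Φ.C := by
  haveI := Φ.klein
  refine hK.mem_C_of_commute Φ (Y := zpowers z) (zpowers_le.2 (h.Z_le_U hz)) (zpowers_ne_bot.2 hz1)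
    (fun k hk => Cfsg.Lib.Fusion.le_normalizer_of_conj_mem fun a ha => ?_) fun a ha => ?_
  · obtain ⟨i, rfl⟩ := mem_zpowers_iff.1 ha
    obtain ⟨v, hv, y, hy, rfl⟩ := hK.exists_mul_of_mem_C Φ hk
    rw [← conj_zpow]
    refine zpow_mem ?_ i
    have e : v * y * z * (v * y)⁻¹ = v * z * v⁻¹ := by
      rw [show v * y * z * (v * y)⁻¹ = v * (y * z * y⁻¹) * v⁻¹ by group, (h.Z_central z hz y hy).eq,
        mul_inv_cancel_right]
    rw [e]
    rcases eq_or_ne v 1 with rfl | hv1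
    · simp
    have htz := fix_of_commute Φ.tt (Φ.commute_t (h.Z_le_U hz))
    rcases Φ.V_cases hv hv1 with rfl | rfl | rfl
    · rw [Cfsg.Lib.Invol.inv_eq_self Φ.ht, htz]; exact mem_zpowers z
    · rw [Cfsg.Lib.Invol.inv_eq_self Φ.hu, h.Z_inv z hz]; exact inv_mem (mem_zpowers z)
    · rw [mul_inv_rev, Cfsg.Lib.Invol.inv_eq_self Φ.ht, Cfsg.Lib.Invol.inv_eq_self Φ.hu,
        show Φ.t * Φ.u * z * (Φ.u * Φ.t) = Φ.t * (Φ.u * z * Φ.u) * Φ.t by group, h.Z_inv z hz,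
        fix_of_commute Φ.tt (Φ.commute_t (inv_mem (h.Z_le_U hz)))]
      exact inv_mem (mem_zpowers z)
  · obtain ⟨i, rfl⟩ := mem_zpowers_iff.1 ha
    exact hc.zpow_right i

/-- The only involution of `C` centralizing a suitable element of `U` is `t`. -/
theorem involution_eq_t {y : G} (hy : y ∈ Φ.U) (hyW : ∀ a ∈ Φ.U, a⁻¹ * y * a ∉ Φ.W) {i : G} (hi : orderOf i = 2)
    (hic : i ∈ Φ.C) (hiy : Commute i y) : i = Φ.t := by
  rcases hK.involution_cases Φ hi hic with rfl | ⟨a, ha, hia⟩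
  · rfl
  exfalso
  refine hyW a ha ?_
  have hU : a⁻¹ * y * a ∈ Φ.U := mul_mem (mul_mem (inv_mem ha) hy) ha
  refine ⟨hU, mem_centralizer_singleton_iff.2 ?_⟩
  rcases hia with rfl | rfl
  · have := fixed_conj (h := a⁻¹) hiy
    rw [inv_inv, show a⁻¹ * (a * Φ.u * a⁻¹) * a = Φ.u by group] at this
    exact this.eq.symm
  · have := fixed_conj (h := a⁻¹) hiy
    rw [inv_inv, show a⁻¹ * (a * (Φ.t * Φ.u) * a⁻¹) * a = Φ.t * Φ.u by group] at this
    have h2 := (Φ.commute_t hU).mul_left this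
    rw [Φ.t_mul_v] at h2
    exact h2.eq.symm

theorem notMem_W_of_notMem_F {y : G} (hy : y ∈ Φ.U) (hyF : y ∉ h.F) {a : G} (ha : a ∈ Φ.U) :
    a⁻¹ * y * a ∉ Φ.W := fun hw => hyF (by
  rw [h.W_eq] at hw
  have := (mem_normalizer_iff.1 (h.U_le_normalizer ha) _).1 ((zpowers_le.2 h.d_mem) hw)
  rwa [show a * (a⁻¹ * y * a) * a⁻¹ = y by group] at this)

/-- The fixed points of `u` in an odd group centralizing an inverted `x` outside `F` give a divisor of `m`. -/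
theorem card_fixed_dvd {x : G} (hx : x ∈ Φ.U) (hxF : x ∉ h.F) (hxi : Φ.u * x * Φ.u = x⁻¹) {O : Subgroup G}
    (hO : ∀ c ∈ O, Odd (orderOf c)) (hOx : ∀ c ∈ O, Commute c x)
    (hOmem : ∀ c : G, Commute c x → Odd (orderOf c) → c ∈ O) {k : G}
    (hk : k * Φ.t * k⁻¹ = Φ.u ∨ k * Φ.t * k⁻¹ = Φ.t * Φ.u) :
    Nat.card ↥(O ⊓ centralizer ({k * Φ.t * k⁻¹} : Set G)) ∣ h.F.relIndex Φ.U := by
  haveI : (h.F.subgroupOf Φ.U).Normal := (normal_subgroupOf_iff_le_normalizer h.F_le).2 h.U_le_normalizer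
  set s := k * Φ.t * k⁻¹ with hs
  set J := O ⊓ centralizer ({s} : Set G) with hJ
  have hxne : x ≠ 1 := fun e => hxF (e ▸ one_mem _)
  have hnot : ¬ Commute s x := by
    intro hc
    refine hxne (eq_one_of_fixed_inverted Φ.uu ?_ hxi (Φ.odd_of_mem hx))
    rcases hk with e | e <;> rw [e] at hc
    · exact hc
    · have h2 := (Φ.commute_t hx).mul_left hc
      rwa [Φ.t_mul_v] at h2
  have hback : ∀ c ∈ J, k⁻¹ * c * k ∈ Φ.U := fun c hc => by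
    refine (hK.mem_U Φ).2 ⟨?_, ?_⟩
    · have h1 : Commute s c := (mem_centralizer_singleton_iff.1 hc.2).symm
      have := fixed_conj (h := k⁻¹) h1
      rwa [inv_inv, hs, show k⁻¹ * (k * Φ.t * k⁻¹) * k = Φ.t by group] at this
    · rw [show k⁻¹ * c * k = k⁻¹ * c * (k⁻¹)⁻¹ by rw [inv_inv], Cfsg.Lib.Invol.orderOf_conj_eq]
      exact hO c hc.1
  let f : ↥J →* ↥Φ.U ⧸ h.F.subgroupOf Φ.U := (QuotientGroup.mk' _).comp
    (MonoidHom.mk' (fun c => (⟨k⁻¹ * (c : G) * k, hback c c.2⟩ : ↥Φ.U)) fun c c' => Subtype.ext (by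
      show k⁻¹ * ((c : G) * c') * k = k⁻¹ * c * k * (k⁻¹ * c' * k)
      group))
  suffices hf : Function.Injective f by
    have := card_dvd_of_injective f hf
    rwa [← index_eq_card] at this
  rw [injective_iff_map_eq_one]
  intro c hc
  by_contra hne
  obtain ⟨r, hr, hrd⟩ := Nat.exists_prime_and_dvd (fun h1 => hne (orderOf_eq_one_iff.1 h1) : orderOf c ≠ 1)
  haveI : Fact r.Prime := ⟨hr⟩
  set c₁ : ↥J := c ^ (orderOf c / r) with hc₁
  have hc₁o : orderOf c₁ = r := orderOf_pow_orderOf_div (orderOf_pos c).ne' hrd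
  have hf₁ : k⁻¹ * (c₁ : G) * k ∈ h.F := by
    have h1 : f c₁ = 1 := by rw [hc₁, map_pow, hc, one_pow]
    exact mem_subgroupOf.1 ((QuotientGroup.eq_one_iff _).1 h1)
  have hoG : orderOf (c₁ : G) = r := by rw [orderOf_coe, hc₁o]
  have hc1 : k⁻¹ * (c₁ : G) * k ≠ 1 := fun e => hr.ne_one (by
    rw [← hoG, show (c₁ : G) = 1 by rw [show (c₁ : G) = k * (k⁻¹ * (c₁ : G) * k) * k⁻¹ by group, e]; group,
      orderOf_one])
  by_cases hrq : r = q
  swap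
  · -- a `q'`-element of `F` is central
    have hz : k⁻¹ * (c₁ : G) * k ∈ h.Z := by
      have h1 := h.pow_mem_Z hf₁
      have h2 : (k⁻¹ * (c₁ : G) * k) ∈ zpowers ((k⁻¹ * (c₁ : G) * k) ^ q) := by
        refine mem_zpowers_pow_iff.2 ?_
        rw [show k⁻¹ * (c₁ : G) * k = k⁻¹ * (c₁ : G) * (k⁻¹)⁻¹ by rw [inv_inv],
          Cfsg.Lib.Invol.orderOf_conj_eq, hoG]
        exact (Nat.coprime_primes h.prime hr).2 (Ne.symm hrq)
      exact (zpowers_le.2 h1) h2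
    have h1 : Commute (k⁻¹ * x * k) (k⁻¹ * (c₁ : G) * k) := by
      have := fixed_conj (h := k⁻¹) (hOx _ c₁.2.1).symm
      rwa [inv_inv] at this
    have h3 := fixed_conj (h := k) (Φ.mem_C.1 (hK.centralizer_Z_le h hz hc1 h1))
    rw [show k * (k⁻¹ * x * k) * k⁻¹ = x by group] at h3
    exact hnot h3
  obtain rfl : q = r := hrq.symm
  -- the Sylow subgroup of `O` is in `C`
  haveI : Fact q.Prime := ⟨h.prime⟩
  have hωO : h.ω ∈ O := hOmem _ ((h.Z_central _ h.ω_mem x hx).symm) (Φ.odd_of_mem (h.Z_le_U h.ω_mem))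
  obtain ⟨Q, hQ⟩ := (IsPGroup.of_card (n := 1) (by rw [Nat.card_zpowers, Subgroup.orderOf_mk, h.hω, pow_one]) :
    IsPGroup q (zpowers (⟨h.ω, hωO⟩ : ↥O))).exists_le_sylow
  have hωQ : (⟨h.ω, hωO⟩ : ↥O) ∈ (Q : Subgroup ↥O) := hQ (mem_zpowers _)
  have hsmall : ∀ y : ↥O, Commute (y : G) h.ω → orderOf y ∣ q → (y : G) ∈ zpowers h.ω := by
    intro y hy hyq
    have hyC := hK.centralizer_Z_le h h.ω_mem h.ω_ne_one hy
    refine h.mem_omega hx hxF ((hK.mem_U Φ).2 ⟨Φ.mem_C.1 hyC, hO y y.2⟩) (hOx y y.2) ?_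
    rw [← orderOf_dvd_iff_pow_eq_one, orderOf_coe]
    exact hyq
  have hQc : ∀ y ∈ (Q : Subgroup ↥O), Commute (y : G) h.ω := by
    haveI : Nontrivial ↥(Q : Subgroup ↥O) := ⟨⟨⟨_, hωQ⟩, 1, fun e => h.ω_ne_one (congrArg (fun a => ((a : ↥O) : G))
      (congrArg Subtype.val e))⟩⟩
    haveI := Q.isPGroup'.center_nontrivial
    obtain ⟨z, hz⟩ := exists_prime_orderOf_dvd_card' (G := center ↥(Q : Subgroup ↥O)) q (by
      obtain ⟨n, hn⟩ := (Q.isPGroup'.to_subgroup (center ↥(Q : Subgroup ↥O))).exists_card_eq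
      rw [hn]
      refine dvd_pow_self q fun h0 => ?_
      rw [h0, pow_zero] at hn
      exact not_subsingleton (center ↥(Q : Subgroup ↥O)) (Nat.card_eq_one_iff_unique.1 hn).1)
    have hz' : ∀ y ∈ (Q : Subgroup ↥O), Commute (y : G) (((z : ↥(Q : Subgroup ↥O)) : ↥O) : G) := fun y hy =>
      (congrArg (fun a => ((a : ↥O) : G)) (congrArg Subtype.val (mem_center_iff.1 z.2 ⟨y, hy⟩)))
    have hzo : orderOf (((z : ↥(Q : Subgroup ↥O)) : ↥O)) = q := by rw [orderOf_coe, orderOf_coe, hz]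
    have hzω := hsmall _ (hz' _ hωQ).symm hzo.dvd
    intro y hy
    have hle : zpowers (((z : ↥(Q : Subgroup ↥O)) : ↥O) : G) = zpowers h.ω :=
      eq_of_le_of_card_ge (zpowers_le.2 hzω) (by rw [Nat.card_zpowers, Nat.card_zpowers, h.hω, orderOf_coe, hzo])
    obtain ⟨i, hi⟩ := mem_zpowers_iff.1 (hle.ge (mem_zpowers h.ω))
    rw [← hi]
    exact (hz' y hy).zpow_right i
  set cO : ↥O := ⟨(c₁ : G), c₁.2.1⟩
  obtain ⟨o, ho⟩ := Cfsg.Lib.Invol.exists_conj_mem_sylow Q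
    (IsPGroup.of_card (n := 1) (by rw [Nat.card_zpowers, Subgroup.orderOf_mk, hoG, pow_one]) :
      IsPGroup q (zpowers cO))
  have hy := ho _ (mem_zpowers cO)
  have hzz := hsmall _ (hQc _ hy) (by rw [Cfsg.Lib.Invol.orderOf_conj_eq, Subgroup.orderOf_mk, hoG])
  push_cast at hzz
  have hne1 : (o : G) * (c₁ : G) * (o : G)⁻¹ ≠ 1 := fun e => hr.ne_one (by
    rw [← hoG, conj_eq_one_iff.1 e, orderOf_one])
  have hsc : Commute ((o : G) * s * (o : G)⁻¹) ((o : G) * (c₁ : G) * (o : G)⁻¹) :=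
    fixed_conj (mem_centralizer_singleton_iff.1 c₁.2.2).symm
  have hzZ : (o : G) * (c₁ : G) * (o : G)⁻¹ ∈ h.Z := (zpowers_le.2 h.ω_mem) hzz
  have hs2 : orderOf ((o : G) * s * (o : G)⁻¹) = 2 := by
    rw [Cfsg.Lib.Invol.orderOf_conj_eq, hs, Cfsg.Lib.Invol.orderOf_conj_eq, Φ.ht]
  have hW : ∀ a ∈ Φ.U, a⁻¹ * ((o : G) * (c₁ : G) * (o : G)⁻¹) * a ∉ Φ.W := by
    intro a ha hw
    rw [(h.Z_central _ hzZ (a⁻¹) (inv_mem ha)).eq, inv_mul_cancel_right] at hw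
    exact hne1 (eq_one_of_fixed_inverted Φ.uu (Φ.commute_u hw) (h.Z_inv _ hzZ)
      (Φ.odd_of_mem (h.Z_le_U hzZ)))
  have hst := hK.involution_eq_t h (h.Z_le_U hzZ) hW hs2 (hK.centralizer_Z_le h hzZ hne1 hsc) hsc
  refine hnot ?_
  have := fixed_conj (h := (o : G)⁻¹) (Φ.commute_t hx)
  rw [← hst, inv_inv, show (o : G)⁻¹ * ((o : G) * s * (o : G)⁻¹) * (o : G) = s by group,
    show (o : G)⁻¹ * x * (o : G) = x by rw [mul_assoc, ← (hOx o o.2).eq, inv_mul_cancel_left]] at this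
  exact this

/-- The centralizer of an element of `U` outside `F` lies in `C`. -/
theorem centralizer_le_C {y : G} (hy : y ∈ Φ.U) (hyF : y ∉ h.F) : centralizer ({y} : Set G) ≤ Φ.C := by
  obtain ⟨a, ha, hxi, hx, hxF⟩ := h.exists_conj_inverted hy hyF
  set x := a * y * a⁻¹ with hxdef
  suffices key : ∀ c : G, Commute c x → c ∈ Φ.C by
    intro c hc
    have h1 := key _ (fixed_conj (h := a) (mem_centralizer_singleton_iff.1 hc))
    have haC := Φ.U_le_C ha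
    have := mul_mem (mul_mem (inv_mem haC) h1) haC
    rwa [show a⁻¹ * (a * c * a⁻¹) * a = c by group] at this
  haveI : Fact (Nat.Prime 2) := ⟨Nat.prime_two⟩
  haveI := Φ.klein
  set X := centralizer ({x} : Set G)
  have htX : Φ.t ∈ X := mem_centralizer_singleton_iff.2 (Φ.commute_t hx).eq
  -- the Sylow two-subgroup of `X`
  obtain ⟨S, hS⟩ := (IsPGroup.of_card (n := 1) (by rw [Nat.card_zpowers, Subgroup.orderOf_mk, Φ.ht, pow_one]) :
    IsPGroup 2 (zpowers (⟨Φ.t, htX⟩ : ↥X))).exists_le_sylow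
  obtain ⟨P, hP⟩ := (S.2.map X.subtype).exists_le_sylow
  letI := Fintype.ofFinite G
  haveI := (hK.sylow_klein P).isKleinFour
  have hSt : (S : Subgroup ↥X) = zpowers (⟨Φ.t, htX⟩ : ↥X) := by
    refine le_antisymm (fun y hy => ?_) hS
    rcases eq_or_ne y 1 with rfl | hy1
    · exact one_mem _
    have hyP := hP (mem_map_of_mem X.subtype hy)
    have htP := hP (mem_map_of_mem X.subtype (hS (mem_zpowers _)))
    have hy2 : orderOf (y : G) = 2 := Cfsg.Lib.Invol.orderOf_eq_two_of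
      (fun e => hy1 (Subtype.ext e)) (Cfsg.Lib.Invol.klein_mul_self hyP)
    have heq := hK.involution_eq_t h hx (fun b hb => hK.notMem_W_of_notMem_F h hx hxF hb) hy2
      (Φ.mem_C.2 (Cfsg.Lib.Invol.klein_comm htP hyP)) (mem_centralizer_singleton_iff.1 y.2)
    rw [show y = ⟨Φ.t, htX⟩ from Subtype.ext heq]
    exact mem_zpowers _
  haveI : IsCyclic (S : Subgroup ↥X) := by
    refine isCyclic_of_prime_card (p := 2) ?_
    rw [hSt, Nat.card_zpowers, Subgroup.orderOf_mk, Φ.ht]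
  have hcompl := Cfsg.Lib.FTCons.MetacyclicSylow.complement_of_cyclic S
  have hres : Odd (Nat.card (Cfsg.pResidual 2 ↥X)) :=
    Nat.coprime_two_right.1 (Cfsg.Lib.Fusion.hasNormalPComplement_iff_coprime.1 hcompl)
  set O := (Cfsg.pResidual 2 ↥X).map X.subtype with hOdef
  have hOX : O ≤ X := map_subtype_le _
  have hOodd : ∀ c ∈ O, Odd (orderOf c) := fun c hc => by
    have hd := Subgroup.orderOf_dvd_natCard O hc
    rw [hOdef, card_map_of_injective X.subtype_injective] at hd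
    exact hres.of_dvd_nat hd
  have hOx : ∀ c ∈ O, Commute c x := fun c hc => mem_centralizer_singleton_iff.1 (hOX hc)
  have hOmem : ∀ c : G, Commute c x → Odd (orderOf c) → c ∈ O := fun c hc ho => by
    refine mem_map_of_mem X.subtype (x := (⟨c, mem_centralizer_singleton_iff.2 hc.eq⟩ : ↥X))
      (subset_closure ?_)
    show Nat.Coprime (orderOf (⟨c, _⟩ : ↥X)) 2
    rw [Subgroup.orderOf_mk]
    exact Nat.coprime_two_right.2 ho
  have hxt : Commute Φ.t x := Φ.commute_t hx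
  have hnorm : ∀ s : G, s * s = 1 → (Commute s x ∨ s * x * s = x⁻¹) → ∀ c ∈ O, s * c * s ∈ O := by
    intro s hss hsx c hc
    refine hOmem _ ?_ ?_
    · have hsi : s⁻¹ = s := inv_eq_of_mul_eq_one_right hss
      have h1 := fixed_conj (h := s) (hOx c hc)
      rw [hsi] at h1
      rcases hsx with hs | hs
      · rwa [fix_of_commute hss hs] at h1
      · rw [hs] at h1
        simpa using h1.inv_right
    · have hsi : s⁻¹ = s := inv_eq_of_mul_eq_one_right hss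
      rw [show s * c * s = s * c * s⁻¹ by rw [hsi], Cfsg.Lib.Invol.orderOf_conj_eq]
      exact hOodd c hc
  have htO := hnorm Φ.t Φ.tt (Or.inl hxt)
  have huO := hnorm Φ.u Φ.uu (Or.inr hxi)
  -- the inverted elements
  let I := {i : G // i ∈ O ∧ Φ.t * i * Φ.t = i⁻¹}
  set Ju := O ⊓ centralizer ({Φ.u} : Set G)
  set Jv := O ⊓ centralizer ({Φ.t * Φ.u} : Set G)
  have hWF : ∀ c ∈ O, Commute Φ.t c → Commute Φ.u c → c = 1 := by
    intro c hc htc huc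
    have hcU : c ∈ Φ.U := (hK.mem_U Φ).2 ⟨htc, hOodd c hc⟩
    have hi := (h.inverted_of_comm_mem hx hxF hxi hcU (by
      rw [(hOx c hc).eq, mul_inv_cancel_right, mul_inv_cancel]; exact one_mem _)).1
    exact eq_one_of_fixed_inverted Φ.uu huc hi (hOodd c hc)
  have hJ : ∀ s, (s = Φ.u ∨ s = Φ.t * Φ.u) → ∀ c ∈ O ⊓ centralizer ({s} : Set G), Φ.t * c * Φ.t = c⁻¹ := by
    intro s hs c hc
    have hts : Commute Φ.t s := by
      rcases hs with rfl | rfl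
      · exact Φ.hc
      · exact (Commute.refl _).mul_right Φ.hc
    refine inverts_of_fixed_trivial (R := O ⊓ centralizer ({s} : Set G)) Φ.tt (fun b hb => ⟨htO b hb.1, ?_⟩)
      (fun b hb hbt => hWF b hb.1 hbt ?_) hc
    · exact mem_centralizer_singleton_iff.2
        ((hts.symm.mul_right (mem_centralizer_singleton_iff.1 hb.2).symm).mul_right hts.symm).symm.eq
    · rcases hs with rfl | rfl
      · exact (mem_centralizer_singleton_iff.1 hb.2).symm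
      · have h2 := hbt.mul_left (mem_centralizer_singleton_iff.1 hb.2).symm
        rwa [Φ.t_mul_v] at h2
  let f : ↥Ju × ↥Jv → I := fun p => ⟨(p.1 : G) * p.2 * p.1, mul_mem (mul_mem p.1.2.1 p.2.2.1) p.1.2.1, by
    calc Φ.t * ((p.1 : G) * p.2 * p.1) * Φ.t
        = Φ.t * (p.1 : G) * (Φ.t * Φ.t) * p.2 * (Φ.t * Φ.t) * p.1 * Φ.t := by rw [Φ.tt]; group
      _ = (Φ.t * (p.1 : G) * Φ.t) * (Φ.t * (p.2 : G) * Φ.t) * (Φ.t * (p.1 : G) * Φ.t) := by group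
      _ = _ := by rw [hJ _ (Or.inl rfl) _ p.1.2, hJ _ (Or.inr rfl) _ p.2.2]; group⟩
  have hfb : Function.Bijective f := by
    refine ⟨fun p p' e => ?_, fun i => ?_⟩
    · obtain ⟨e1, e2⟩ := split_unique Φ (A := O) hOodd p.1.2.1 p.2.2.1 p'.1.2.1 p'.2.2.1
        (hJ _ (Or.inr rfl) _ p.2.2) (hJ _ (Or.inr rfl) _ p'.2.2)
        (mem_centralizer_singleton_iff.1 p.1.2.2).symm (mem_centralizer_singleton_iff.1 p'.1.2.2).symm
        (mem_centralizer_singleton_iff.1 p.2.2.2).symm (mem_centralizer_singleton_iff.1 p'.2.2.2).symm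
        (congrArg Subtype.val e)
      exact Prod.ext (Subtype.ext e1) (Subtype.ext e2)
    · obtain ⟨b, hb, b', hb', -, -, hbu, hbv, e⟩ := exists_split Φ O hOodd huO i.2.1 i.2.2
      exact ⟨(⟨b, hb, mem_centralizer_singleton_iff.2 hbu.eq.symm⟩,
        ⟨b', hb', mem_centralizer_singleton_iff.2 hbv.eq.symm⟩), Subtype.ext e.symm⟩
  have hcardI : Nat.card I = Nat.card ↥Ju * Nat.card ↥Jv := by
    rw [← Nat.card_congr (Equiv.ofBijective f hfb), Nat.card_prod]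
  have ha := hK.card_fixed_dvd h hx hxF hxi hOodd hOx hOmem (k := Φ.g) (Or.inl Φ.gt)
  rw [Φ.gt] at ha
  have hb := hK.card_fixed_dvd h hx hxF hxi hOodd hOx hOmem (k := Φ.g⁻¹)
    (Or.inr (by rw [inv_inv]; exact Φ.gt'))
  rw [inv_inv, Φ.gt'] at hb
  have hdvd : Nat.card I ∣ h.F.relIndex Φ.U * h.F.relIndex Φ.U := hcardI ▸ mul_dvd_mul ha hb
  have hoddI : Odd (Nat.card I) := (h.odd_index.mul h.odd_index).of_dvd_nat hdvd
  -- congruence
  have hωU := h.Z_le_U h.ω_mem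
  have hωx : Commute h.ω x := (h.Z_central _ h.ω_mem x hx).symm
  have hωt : ∀ n ∈ zpowers h.ω, Commute Φ.t n ∧ n ∈ O := by
    intro n hn
    obtain ⟨j, rfl⟩ := mem_zpowers_iff.1 hn
    exact ⟨(Φ.commute_t hωU).zpow_right j, zpow_mem (hOmem _ hωx (Φ.odd_of_mem hωU)) j⟩
  letI : MulAction ↥(zpowers h.ω) I :=
    { smul := fun n i => ⟨(n : G) * i.1 * (n : G)⁻¹,
        mul_mem (mul_mem (hωt n n.2).2 i.2.1) (inv_mem (hωt n n.2).2), by
          have hn := (hωt n n.2).1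
          calc Φ.t * ((n : G) * i.1 * (n : G)⁻¹) * Φ.t = (Φ.t * n) * i.1 * ((n : G)⁻¹ * Φ.t) := by group
            _ = (n * Φ.t) * i.1 * (Φ.t * (n : G)⁻¹) := by rw [hn.eq, ← hn.inv_right.eq]
            _ = n * (Φ.t * i.1 * Φ.t) * (n : G)⁻¹ := by group
            _ = _ := by rw [i.2.2]; group⟩
      one_smul := fun i => Subtype.ext (show (1 : G) * i.1 * (1 : G)⁻¹ = i.1 by group)
      mul_smul := fun n n' i => Subtype.ext
        (show (n : G) * n' * i.1 * ((n : G) * n')⁻¹ = n * (n' * i.1 * (n' : G)⁻¹) * (n : G)⁻¹ by group) }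
  haveI : Fact q.Prime := ⟨h.prime⟩
  have hmod := (IsPGroup.of_card (n := 1) (by rw [Nat.card_zpowers, h.hω, pow_one]) :
    IsPGroup q (zpowers h.ω)).card_modEq_card_fixedPoints I
  have hfix : ∀ i ∈ MulAction.fixedPoints (zpowers h.ω) I, i.1 = 1 := by
    intro i hi
    have h1 : h.ω * i.1 * h.ω⁻¹ = i.1 := congrArg Subtype.val (hi ⟨h.ω, mem_zpowers _⟩)
    exact eq_one_of_fixed_inverted Φ.tt
      (Φ.mem_C.1 (hK.centralizer_Z_le h h.ω_mem h.ω_ne_one (mul_inv_eq_iff_eq_mul.1 h1).symm)) i.2.2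
      (hOodd _ i.2.1)
  have hfix1 : Nat.card (MulAction.fixedPoints (zpowers h.ω) I) = 1 := by
    refine Nat.card_eq_one_iff_unique.2 ⟨⟨fun i j => Subtype.ext (Subtype.ext ?_)⟩,
      ⟨⟨⟨1, one_mem O, by rw [mul_one, Φ.tt, inv_one]⟩, fun n => Subtype.ext ?_⟩⟩⟩
    · rw [hfix _ i.2, hfix _ j.2]
    · show (n : G) * 1 * (n : G)⁻¹ = 1
      group
  rw [hfix1] at hmod
  have hI1 := hei_arith h.prime h.ne_two h.index_dvd hdvd hoddI hmod
  haveI : Subsingleton I := (Nat.card_eq_one_iff_unique.1 hI1).1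
  have hOC : ∀ c ∈ O, c ∈ Φ.C := by
    intro c hc
    obtain ⟨b, hb, w, -, hbt, hwt, rfl⟩ := exists_inverted_mul_fixed Φ.tt hOodd hc (htO c hc)
    have e := congrArg Subtype.val (Subsingleton.elim (⟨b, hb, hbt⟩ : I)
      ⟨1, one_mem O, by rw [mul_one, Φ.tt, inv_one]⟩)
    rw [show b = 1 from e, one_mul]
    exact Φ.mem_C.2 hwt
  intro c hc
  obtain ⟨w, hw, v, hv, he⟩ := Cfsg.Lib.Fusion.exists_mul_of_sylow S
    (⟨c, mem_centralizer_singleton_iff.2 hc.eq⟩ : ↥X)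
  have hwC : (w : G) ∈ Φ.C := by
    rw [hSt] at hw
    obtain ⟨j, rfl⟩ := mem_zpowers_iff.1 hw
    push_cast
    exact zpow_mem Φ.t_mem_C j
  rw [show c = (w : G) * (v : G) from congrArg Subtype.val he]
  exact mul_mem hwC (hOC _ (mem_map_of_mem X.subtype hv))

end KMin

end Cfsg.Lib.GW
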