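import Cfsg.Agent.Lib.GW.Klein.HeiTheta
import Cfsg.Agent.Lib.GW.Klein.HeiCentral

/-!
# Gorenstein–Walter, Sylow four groups: no Heisenberg configuration

The irreducible characters of `U` nontrivial on `ω` have degree `q`, and differences of two of them live on a
special set, so that a character in the row of `θ` contains all of them equally often. Its degree is then at
least `2 (q - 1) q m`, too large for the weighted sum of the row.
-/

set_option autoImplicit false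
set_option linter.style.haveILetI false
set_option linter.unusedSectionVars false

namespace Cfsg.Lib.GW

open Cfsg Subgroup
open Cfsg.Lib.Block (trivChar charDegree_pos)
open scoped ComplexConjugate

universe u

noncomputable local instance (priority := high) fintypeSubgroupHeiChar {A : Type u}
    [Group A] [Fintype A] (H : Subgroup A) : Fintype H := Fintype.ofFinite H

namespace KFrame

variable {G : Type u} [Group G] [Fintype G] (Φ : KFrame G)

/-- Conjugation by `u` on `U`. -/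
def uHom : ↥Φ.U →* ↥Φ.U :=
  MonoidHom.mk' (fun y => ⟨Φ.u * y * Φ.u, Φ.u_conj_mem y.2⟩) fun a b => Subtype.ext (by
    show Φ.u * (a * b : G) * Φ.u = (Φ.u * a * Φ.u) * (Φ.u * b * Φ.u)
    rw [show (Φ.u * (a : G) * Φ.u) * (Φ.u * b * Φ.u) = Φ.u * a * (Φ.u * Φ.u) * b * Φ.u by group, Φ.uu]
    group)

theorem uHom_uHom (y : ↥Φ.U) : Φ.uHom (Φ.uHom y) = y := Subtype.ext (by
  show Φ.u * (Φ.u * (y : G) * Φ.u) * Φ.u = y
  rw [show Φ.u * (Φ.u * (y : G) * Φ.u) * Φ.u = (Φ.u * Φ.u) * y * (Φ.u * Φ.u) by group, Φ.uu, one_mul, mul_one])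

/-- The twist of a character of `U` by `u`. -/
def twist (ρ : IrrCharacter ↥Φ.U) : IrrCharacter ↥Φ.U :=
  ⟨fun y => (ρ : ↥Φ.U → ℂ) (Φ.uHom y), ρ.2.comp_surjective Φ.uHom fun y => ⟨Φ.uHom y, Φ.uHom_uHom y⟩⟩

theorem twist_apply (ρ : IrrCharacter ↥Φ.U) (y : ↥Φ.U) :
    (Φ.twist ρ : ↥Φ.U → ℂ) y = (ρ : ↥Φ.U → ℂ) (Φ.uHom y) := rfl

theorem twist_twist (ρ : IrrCharacter ↥Φ.U) : Φ.twist (Φ.twist ρ) = ρ :=
  Subtype.ext (funext fun y => by rw [twist_apply, twist_apply, uHom_uHom])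

/-- The multiplicity of a character of `U` in a character of `G`. -/
noncomputable def mult (χ : IrrCharacter G) (ρ : IrrCharacter ↥Φ.U) : ℂ :=
  classInner (fun y : ↥Φ.U => (χ : G → ℂ) y) (ρ : ↥Φ.U → ℂ)

theorem mult_twist (χ : IrrCharacter G) (ρ : IrrCharacter ↥Φ.U) : Φ.mult χ (Φ.twist ρ) = Φ.mult χ ρ := by
  simp only [mult, classInner]
  congr 1
  refine Fintype.sum_equiv
    ⟨Φ.uHom, Φ.uHom, Φ.uHom_uHom, Φ.uHom_uHom⟩ _ _ fun y => ?_
  simp only [Equiv.coe_fn_mk, twist_apply]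
  congr 1
  show (χ : G → ℂ) y = (χ : G → ℂ) (Φ.u * y * Φ.u)
  conv_rhs => rw [show Φ.u * (y : G) * Φ.u = Φ.u * y * Φ.u⁻¹ by rw [Cfsg.Lib.Invol.inv_eq_self Φ.hu],
    χ.2.isClassFunction]

theorem eq_sum_mult (χ : IrrCharacter G) (y : ↥Φ.U) :
    (χ : G → ℂ) y = ∑ ρ : IrrCharacter ↥Φ.U, Φ.mult χ ρ * (ρ : ↥Φ.U → ℂ) y := by
  have hf : IsClassFunction ↥Φ.U (fun y : ↥Φ.U => (χ : G → ℂ) y) :=
    (χ.2.isCharacter.comp Φ.U.subtype).isClassFunction
  have := congrFun (Char.eq_sum_classInner hf) y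
  simpa [Finset.sum_apply, mult] using this

namespace Hei

variable {Φ} {q : ℕ} (h : Φ.Hei q)

/-- The element `ω` of `U`. -/
def omU (h : Φ.Hei q) : ↥Φ.U := ⟨h.ω, h.Z_le_U h.ω_mem⟩

/-- Nontrivial on `ω`. -/
def Big (h : Φ.Hei q) (ρ : IrrCharacter ↥Φ.U) : Prop :=
  (ρ : ↥Φ.U → ℂ) h.omU ≠ (ρ : ↥Φ.U → ℂ) 1

theorem omU_pow (h : Φ.Hei q) : h.omU ^ q = 1 :=
  Subtype.ext (by rw [SubmonoidClass.coe_pow]; exact orderOf_dvd_iff_pow_eq_one.1 h.hω.dvd)

theorem exists_scalar (h : Φ.Hei q) (ρ : IrrCharacter ↥Φ.U) :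
    ∃ c : ℂ, c ^ q = 1 ∧ (h.Big ρ ↔ c ≠ 1) ∧
      ∀ (k : ℕ) (y : ↥Φ.U), (ρ : ↥Φ.U → ℂ) (h.omU ^ k * y) = c ^ k * (ρ : ↥Φ.U → ℂ) y := by
  have hz : h.omU ∈ Subgroup.center ↥Φ.U :=
    mem_center_iff.2 fun y => Subtype.ext (h.Z_central _ h.ω_mem y y.2).eq
  obtain ⟨c, hc, hcg⟩ := Block.exists_central_scalar ρ hz
  obtain ⟨j, hj⟩ := orderOf_dvd_of_pow_eq_one h.omU_pow
  have h1 : (ρ : ↥Φ.U → ℂ) h.omU = c * (ρ : ↥Φ.U → ℂ) 1 := by rw [← hcg, mul_one]
  refine ⟨c, by rw [hj, pow_mul, hc, one_pow], ?_, fun k => ?_⟩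
  · rw [Big, h1, not_iff_not, mul_eq_right₀ ρ.2.apply_one_ne_zero]
  · induction k with
    | zero => simp
    | succ k ih => intro y; rw [pow_succ', mul_assoc, hcg, ih, pow_succ', mul_assoc]

theorem not_pow_eq_one (h : Φ.Hei q) {c : ℂ} (hc : c ^ q = 1) (hc1 : c ≠ 1) {k : ℕ} (hk : ¬ q ∣ k) :
    c ^ k ≠ 1 := fun e => hc1 (by
  have := Nat.dvd_gcd (orderOf_dvd_of_pow_eq_one hc) (orderOf_dvd_of_pow_eq_one e)
  rw [(h.prime.coprime_iff_not_dvd.2 hk).gcd_eq_one, Nat.dvd_one] at this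
  exact orderOf_eq_one_iff.1 this)

/-- A character nontrivial on `ω` vanishes on `F ∖ Z`. -/
theorem big_vanish (h : Φ.Hei q) {ρ : IrrCharacter ↥Φ.U} (hρ : h.Big ρ) {y : ↥Φ.U} (hyF : (y : G) ∈ h.F)
    (hyZ : (y : G) ∉ h.Z) : (ρ : ↥Φ.U → ℂ) y = 0 := by
  haveI : NeZero q := ⟨h.prime.ne_zero⟩
  obtain ⟨z, hz, hy⟩ := h.exists_eq_rep hyF
  set i := (h.co (y : G)).1.val with hi
  set j := (h.co (y : G)).2.val with hj
  have hy' : (y : G) = h.e ^ i * h.d ^ j * z := hy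
  obtain ⟨s, hs, k, hk, hsy⟩ : ∃ s ∈ h.F, ∃ k : ℕ, ¬ q ∣ k ∧ s * (y : G) * s⁻¹ = h.ω ^ k * y := by
    have hzc := h.Z_central z hz
    have hωc := fun (n : ℕ) (a : G) (ha : a ∈ Φ.U) => h.Z_central _ (pow_mem h.ω_mem n) a ha
    by_cases hj0 : j = 0
    · refine ⟨h.d, h.d_mem, (q - 1) * i, fun hdvd => ?_, ?_⟩
      · rcases h.prime.dvd_mul.1 hdvd with h1 | h1
        · have := Nat.le_of_dvd (by have := h.prime.two_le; omega) h1
          have := h.prime.two_le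
          omega
        · have hlt : i < q := ZMod.val_lt _
          have hi0 : i = 0 := Nat.eq_zero_of_dvd_of_lt h1 hlt
          exact hyZ (by rw [hy', hi0, hj0, pow_zero, pow_zero, one_mul, one_mul]; exact hz)
      · have hωi : h.ω⁻¹ = h.ω ^ (q - 1) := by
          refine inv_eq_of_mul_eq_one_right ?_
          rw [← pow_succ', Nat.sub_add_cancel h.prime.pos]
          exact orderOf_dvd_iff_pow_eq_one.1 h.hω.dvd
        rw [hy', hj0, pow_zero, mul_one, show h.d * (h.e ^ i * z) * h.d⁻¹ = h.d * h.e ^ i * (z * h.d⁻¹) by group,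
          ← (hzc _ (inv_mem (h.F_le h.d_mem))).eq, ← mul_assoc, h.conj_e_pow, hωi, ← pow_mul, mul_assoc]
    · refine ⟨h.e, h.e_mem, j, fun hdvd => hj0 (Nat.eq_zero_of_dvd_of_lt hdvd (ZMod.val_lt _)), ?_⟩
      calc h.e * (y : G) * h.e⁻¹ = h.e ^ i * (h.e * h.d ^ j * (z * h.e⁻¹)) := by
            rw [hy', ← mul_assoc h.e, ← mul_assoc h.e, ← pow_succ', pow_succ]
            group
        _ = h.e ^ i * (h.e * h.d ^ j * h.e⁻¹) * z := by
            rw [← (hzc _ (inv_mem (h.F_le h.e_mem))).eq]; group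
        _ = h.ω ^ j * h.e ^ i * h.d ^ j * z := by
            rw [h.conj_d_pow, ← mul_assoc, (hωc j _ (pow_mem (h.F_le h.e_mem) i)).eq]
        _ = _ := by rw [hy']; group
  obtain ⟨c, hc, hbig, hcg⟩ := h.exists_scalar ρ
  have h1 := ρ.2.isClassFunction y ⟨s, h.F_le hs⟩
  rw [show (⟨s, h.F_le hs⟩ : ↥Φ.U) * y * (⟨s, h.F_le hs⟩ : ↥Φ.U)⁻¹ = h.omU ^ k * y from
    Subtype.ext (by push_cast [omU]; exact hsy), hcg] at h1
  exact ((mul_left_eq_self₀).1 h1).resolve_left (h.not_pow_eq_one hc (hbig.1 hρ) hk)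

/-- The absolute value outside `F`. -/
theorem big_abs (h : Φ.Hei q) {ρ : IrrCharacter ↥Φ.U} (hρ : h.Big ρ) {y : ↥Φ.U} (hy : (y : G) ∉ h.F) :
    (q : ℂ) ^ 2 * ((ρ : ↥Φ.U → ℂ) y * conj ((ρ : ↥Φ.U → ℂ) y)) = (ρ : ↥Φ.U → ℂ) 1 ^ 2 := by
  classical
  have hf := Char.sum_char_mul_conj ρ.2 y y⁻¹
  have hterm : ∀ a : ↥Φ.U, (ρ : ↥Φ.U → ℂ) (y * (a * y⁻¹ * a⁻¹)) =
      if Commute (y : G) (a : G) then (ρ : ↥Φ.U → ℂ) 1 else 0 := by
    intro a
    have e : ((y * (a * y⁻¹ * a⁻¹) : ↥Φ.U) : G) = (y : G) * a * (y : G)⁻¹ * (a : G)⁻¹ := by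
      push_cast; group
    split_ifs with hc
    · rw [show y * (a * y⁻¹ * a⁻¹) = 1 from Subtype.ext (by
        rw [e, hc.eq, mul_inv_cancel_right, mul_inv_cancel]; rfl)]
    · exact h.big_vanish hρ (e ▸ h.quot_comm y y.2 a a.2)
        (e ▸ fun hz => hc (h.commute_of_commutator_mem y.2 hy a.2 hz))
  rw [Finset.sum_congr rfl fun a _ => hterm a, ← Finset.sum_filter, Finset.sum_const, nsmul_eq_mul,
    ρ.2.isCharacter.apply_inv] at hf
  have hcard : (Finset.univ.filter fun a : ↥Φ.U => Commute (y : G) (a : G)).card =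
      Nat.card ((Φ.U ⊓ centralizer ({(y : G)} : Set G) : Subgroup G)) := by
    rw [← Nat.card_eq_finsetCard]
    exact Nat.card_congr
      { toFun := fun a => ⟨((a : ↥Φ.U) : G), (a : ↥Φ.U).2,
          mem_centralizer_singleton_iff.2 ((Finset.mem_filter.1 a.2).2).eq.symm⟩
        invFun := fun a => ⟨⟨a, a.2.1⟩, Finset.mem_filter.2 ⟨Finset.mem_univ _,
          (show Commute (a : G) y from mem_centralizer_singleton_iff.1 a.2.2).symm⟩⟩
        left_inv := fun _ => rfl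
        right_inv := fun _ => rfl }
  rw [hcard, eq_div_iff ρ.2.apply_one_ne_zero] at hf
  have hU : (Nat.card Φ.U : ℂ) ≠ 0 := Nat.cast_ne_zero.2 Nat.card_pos.ne'
  have hq : (q : ℂ) ^ 2 * (Nat.card ((Φ.U ⊓ centralizer ({(y : G)} : Set G) : Subgroup G)) : ℂ) =
      (Nat.card Φ.U : ℂ) := by exact_mod_cast h.card_centralizer_mul y.2 hy
  refine mul_left_cancel₀ hU ?_
  linear_combination -(q : ℂ) ^ 2 * hf + (ρ : ↥Φ.U → ℂ) 1 ^ 2 * hq

theorem big_degree (h : Φ.Hei q) {ρ : IrrCharacter ↥Φ.U} (hρ : h.Big ρ) : (ρ : ↥Φ.U → ℂ) 1 = q := by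
  classical
  have hU : (Nat.card Φ.U : ℂ) ≠ 0 := Nat.cast_ne_zero.2 Nat.card_pos.ne'
  obtain ⟨d, -, hd⟩ := ρ.2.exists_degree
  have hterm : ∀ y : ↥Φ.U, (q : ℂ) ^ 2 * ((ρ : ↥Φ.U → ℂ) y * conj ((ρ : ↥Φ.U → ℂ) y)) =
      (ρ : ↥Φ.U → ℂ) 1 ^ 2 * ((q : ℂ) ^ 2 * (if (y : G) ∈ h.Z then 1 else 0) + 1 -
        (if (y : G) ∈ h.F then 1 else 0)) := by
    intro y
    by_cases hF : (y : G) ∈ h.F
    · by_cases hZ : (y : G) ∈ h.Z
      · obtain ⟨c, hc, hcg⟩ := Block.exists_central_scalar ρ (z := y)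
          (mem_center_iff.2 fun a => Subtype.ext (h.Z_central _ hZ a a.2).eq)
        have hy1 := hcg 1
        rw [mul_one] at hy1
        rw [if_pos hF, if_pos hZ, hy1, hd, map_mul, map_natCast]
        linear_combination ((q : ℂ) ^ 2 * (d : ℂ) ^ 2) * Block.conj_mul_self_of_pow_eq_one (orderOf_pos y).ne' hc
      · rw [if_pos hF, if_neg hZ, h.big_vanish hρ hF hZ]; ring
    · rw [if_neg hF, if_neg fun hz => hF (h.Z_le hz), h.big_abs hρ hF]; ring
  have hnorm := Char.classInner_irr_self ρ.2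
  rw [classInner, inv_mul_eq_one₀ hU] at hnorm
  have hcnt : ∀ H : Subgroup G, H ≤ Φ.U →
      ∑ y : ↥Φ.U, (if (y : G) ∈ H then (1 : ℂ) else 0) = (Nat.card H : ℂ) := by
    intro H hH
    rw [Finset.sum_boole, ← Nat.card_eq_finsetCard]
    congr 1
    exact Nat.card_congr
      { toFun := fun a => ⟨((a : ↥Φ.U) : G), (Finset.mem_filter.1 a.2).2⟩
        invFun := fun a => ⟨⟨a, hH a.2⟩, Finset.mem_filter.2 ⟨Finset.mem_univ _, a.2⟩⟩
        left_inv := fun _ => rfl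
        right_inv := fun _ => rfl }
  have hsum := Finset.sum_congr rfl fun y (_ : y ∈ Finset.univ) => hterm y
  rw [← Finset.mul_sum, ← hnorm, ← Finset.mul_sum, Finset.sum_sub_distrib, Finset.sum_add_distrib,
    ← Finset.mul_sum, hcnt _ h.Z_le_U, hcnt _ h.F_le, Finset.sum_const, Finset.card_univ, nsmul_eq_mul,
    mul_one, ← Nat.card_eq_fintype_card, h.card_F] at hsum
  push_cast at hsum
  have h2 : ((d * d : ℕ) : ℂ) = ((q * q : ℕ) : ℂ) := by
    push_cast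
    refine mul_left_cancel₀ hU ?_
    rw [hd] at hsum
    linear_combination -hsum
  rw [hd, Nat.mul_self_inj.1 (Nat.cast_injective h2)]

open Classical in
/-- The number of characters nontrivial on `ω`. -/
theorem card_big (h : Φ.Hei q) :
    q * (Finset.univ.filter fun ρ : IrrCharacter ↥Φ.U => h.Big ρ).card =
      (q - 1) * Nat.card h.Z * h.F.relIndex Φ.U := by
  set B := Finset.univ.filter fun ρ : IrrCharacter ↥Φ.U => h.Big ρ with hB
  choose c hc hbig hcg using h.exists_scalar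
  have hq := h.prime.pos
  have hp : ∀ a ∈ Finset.range q, ∑ ρ : IrrCharacter ↥Φ.U, (ρ : ↥Φ.U → ℂ) 1 * (ρ : ↥Φ.U → ℂ) (h.omU ^ a) =
      if a = 0 then (Nat.card Φ.U : ℂ) else 0 := by
    intro a ha
    rw [Char.sum_degree_mul (h.omU ^ a)]
    refine if_congr ⟨fun e => ?_, fun e => by rw [e, pow_zero]⟩ rfl rfl
    have h1 : h.ω ^ a = 1 := congrArg Subtype.val e
    exact Nat.eq_zero_of_dvd_of_lt (h.hω ▸ orderOf_dvd_of_pow_eq_one h1) (Finset.mem_range.1 ha)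
  have hgeo : ∀ ρ : IrrCharacter ↥Φ.U, ∑ a ∈ Finset.range q, (ρ : ↥Φ.U → ℂ) (h.omU ^ a) =
      if h.Big ρ then 0 else (q : ℂ) * (ρ : ↥Φ.U → ℂ) 1 := by
    intro ρ
    rw [Finset.sum_congr rfl (g := fun a => c ρ ^ a * (ρ : ↥Φ.U → ℂ) 1) fun a _ => by
      rw [← hcg ρ a 1, mul_one], ← Finset.sum_mul]
    split_ifs with hb
    · have h1 := geom_sum_mul (c ρ) q
      rw [hc ρ, sub_self, mul_eq_zero, or_iff_left (sub_ne_zero.2 ((hbig ρ).1 hb))] at h1
      rw [h1, zero_mul]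
    · rw [not_not.1 fun hne => hb ((hbig ρ).2 hne)]
      simp
  have h1 := Finset.sum_congr rfl hp
  rw [Finset.sum_comm, Finset.sum_ite_eq', if_pos (Finset.mem_range.2 hq),
    Finset.sum_congr rfl fun ρ _ => (Finset.mul_sum _ _ _).symm.trans (by rw [hgeo ρ])] at h1
  have h2 : ∑ ρ : IrrCharacter ↥Φ.U, (ρ : ↥Φ.U → ℂ) 1 * (if h.Big ρ then 0 else (q : ℂ) * (ρ : ↥Φ.U → ℂ) 1) =
      (q : ℂ) * (Nat.card Φ.U : ℂ) - (q : ℂ) * ((B.card : ℂ) * (q : ℂ) ^ 2) := by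
    rw [← Char.sum_sq_degree (G := ↥Φ.U), Finset.mul_sum, show (B.card : ℂ) * (q : ℂ) ^ 2 =
      ∑ ρ : IrrCharacter ↥Φ.U, (if h.Big ρ then (q : ℂ) ^ 2 else 0) by
        rw [← Finset.sum_filter, Finset.sum_const, nsmul_eq_mul], Finset.mul_sum, ← Finset.sum_sub_distrib]
    refine Finset.sum_congr rfl fun ρ _ => ?_
    by_cases hb : h.Big ρ
    · rw [if_pos hb, if_pos hb, h.big_degree hb]; ring
    · rw [if_neg hb, if_neg hb]; ring
  rw [h2, h.card_U] at h1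
  have h3 : ((q * B.card : ℕ) : ℂ) = (((q - 1) * Nat.card h.Z * h.F.relIndex Φ.U : ℕ) : ℂ) := by
    push_cast [Nat.cast_sub (show 1 ≤ q from hq)] at h1 ⊢
    refine mul_left_cancel₀ (pow_ne_zero 2 (Nat.cast_ne_zero.2 h.prime.ne_zero : (q : ℂ) ≠ 0)) ?_
    linear_combination -h1
  exact_mod_cast h3

theorem big_twist (h : Φ.Hei q) {ρ : IrrCharacter ↥Φ.U} (hρ : h.Big ρ) :
    h.Big (Φ.twist ρ) ∧ Φ.twist ρ ≠ ρ := by
  obtain ⟨c, hc, hbig, hcg⟩ := h.exists_scalar ρ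
  have hne := hbig.1 hρ
  have hq2 := h.prime.two_le
  have hω : Φ.uHom h.omU = h.omU ^ (q - 1) := by
    refine Subtype.ext ?_
    show Φ.u * h.ω * Φ.u = ((h.omU ^ (q - 1) : ↥Φ.U) : G)
    rw [h.Z_inv _ h.ω_mem, SubmonoidClass.coe_pow]
    refine inv_eq_of_mul_eq_one_right ?_
    show h.ω * h.ω ^ (q - 1) = 1
    rw [← pow_succ', Nat.sub_add_cancel h.prime.pos]
    exact orderOf_dvd_iff_pow_eq_one.1 h.hω.dvd
  have hv : (Φ.twist ρ : ↥Φ.U → ℂ) h.omU = c ^ (q - 1) * (ρ : ↥Φ.U → ℂ) 1 := by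
    rw [twist_apply, hω, ← hcg, mul_one]
  have h1 : (Φ.twist ρ : ↥Φ.U → ℂ) 1 = (ρ : ↥Φ.U → ℂ) 1 := by rw [twist_apply, map_one]
  refine ⟨fun e => ?_, fun e => ?_⟩
  · rw [hv, h1, mul_eq_right₀ ρ.2.apply_one_ne_zero] at e
    exact h.not_pow_eq_one hc hne (fun hd => by have := Nat.le_of_dvd (by omega) hd; omega) e
  · rw [e, show (ρ : ↥Φ.U → ℂ) h.omU = c * (ρ : ↥Φ.U → ℂ) 1 by
      rw [show (ρ : ↥Φ.U → ℂ) h.omU = (ρ : ↥Φ.U → ℂ) (h.omU ^ 1 * 1) by rw [pow_one, mul_one], hcg, pow_one]] at hv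
    have h2 : c = c ^ (q - 1) := mul_right_cancel₀ ρ.2.apply_one_ne_zero hv
    refine h.not_pow_eq_one hc hne (k := 2) (fun hd => h.ne_two ((Nat.prime_dvd_prime_iff_eq h.prime Nat.prime_two).1 hd)) ?_
    calc c ^ 2 = c * c ^ (q - 1) := by rw [← h2, pow_two]
      _ = 1 := by rw [← pow_succ', Nat.sub_add_cancel h.prime.pos, hc]

open Classical in
/-- The special set. -/
noncomputable def special (h : Φ.Hei q) : Finset G :=
  Φ.Uset.filter fun y => y ∉ h.F ∨ (y ∈ h.Z ∧ y ≠ 1)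

open Classical in
theorem special_special (h : Φ.Hei q) (hK : KMin G) : Klein.Special Φ.C h.special := by
  have hmem : ∀ y, y ∈ h.special ↔ y ∈ Φ.U ∧ (y ∉ h.F ∨ (y ∈ h.Z ∧ y ≠ 1)) := fun y => by
    simp [special, Φ.mem_Uset]
  refine ⟨fun c hc => Φ.U_le_C ((hmem c).1 hc).1, fun k hk c hc => ?_, fun c hc x hx => ?_⟩
  · obtain ⟨hcU, hc'⟩ := (hmem c).1 hc
    refine (hmem _).2 ⟨Φ.conj_mem_U hk hcU, hc'.imp (fun hF h' => hF ?_) fun ⟨hZ, h1⟩ => ⟨?_, ?_⟩⟩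
    · have := h.conj_mem_F (inv_mem hk) h'
      rwa [show k⁻¹ * (k * c * k⁻¹) * k⁻¹⁻¹ = c by group] at this
    · rcases h.Z_conj hK hk hZ with e | e <;> rw [e]
      exacts [hZ, inv_mem hZ]
    · exact fun e => h1 (conj_eq_one_iff.1 e)
  · obtain ⟨hcU, -⟩ := (hmem c).1 hc
    obtain ⟨hyU, hy⟩ := (hmem _).1 hx
    set y := x * c * x⁻¹ with hydef
    have hcen : ∀ a : G, Commute a y → a ∈ Φ.C := by
      intro a ha
      rcases hy with hF | ⟨hZ, h1⟩
      · exact hK.centralizer_le_C h hyU hF (mem_centralizer_singleton_iff.2 ha.eq)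
      · exact hK.centralizer_Z_le h hZ h1 ha
    have hcom : Commute (x * Φ.t * x⁻¹) y := fixed_conj (Φ.commute_t hcU)
    have ht : x * Φ.t * x⁻¹ = Φ.t := by
      refine hK.involution_eq_t h hyU (fun a ha hw => ?_)
        ((Cfsg.Lib.Invol.orderOf_conj_eq x Φ.t).trans Φ.ht) (hcen _ hcom) hcom
      rcases hy with hF | ⟨hZ, h1⟩
      · exact hK.notMem_W_of_notMem_F h hyU hF ha hw
      · rw [(h.Z_central _ hZ a⁻¹ (inv_mem ha)).eq, inv_mul_cancel_right] at hw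
        exact h1 (h.W_inf_Z hw hZ)
    exact Φ.mem_C.2 (mul_inv_eq_iff_eq_mul.1 ht).symm

open Classical in
/-- A character in the row of `θ` contains all characters nontrivial on `ω` equally often, and an even
number of times. -/
theorem quad_mult (h : Φ.Hei q) (hK : KMin G) {χ : IrrCharacter G} {N : ℤ}
    (hval : ∀ y ∈ Φ.U, (χ : G → ℂ) (Φ.t * y) = (N : ℂ) * h.theta y)
    {ρ ρ' : IrrCharacter ↥Φ.U} (hρ : h.Big ρ) (hρ' : h.Big ρ') :
    (∃ a : ℕ, Φ.mult χ ρ = 2 * a) ∧ Φ.mult χ ρ = Φ.mult χ ρ' := by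
  have hU : (Nat.card Φ.U : ℂ) ≠ 0 := Nat.cast_ne_zero.2 Nat.card_pos.ne'
  have heven : ∀ σ : IrrCharacter ↥Φ.U, h.Big σ → ∃ a : ℕ, Φ.mult χ σ = 2 * a := by
    intro σ hσ
    obtain ⟨a, b, ha, hb⟩ := exists_eigen_mult χ.2.isCharacter Φ.U Φ.tt (Cfsg.Lib.Invol.ne_one Φ.ht)
      (fun y hy => Φ.commute_t hy) (ψ := extendByZero Φ.U (σ : ↥Φ.U → ℂ))
      (by simpa [Char.extendByZero_coe] using σ.2.isCharacter)
    rw [show (Finset.univ.filter fun y : G => y ∈ Φ.U) = Φ.Uset from rfl, Φ.sum_Uset] at ha hb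
    simp only [Char.extendByZero_coe] at ha hb
    rw [Finset.sum_congr rfl (g := fun y : ↥Φ.U => (N : ℂ) * (h.theta y * conj ((σ : ↥Φ.U → ℂ) y)))
      fun y _ => by rw [hval y y.2]; ring, ← Finset.mul_sum] at hb
    have hne : (fun y : ↥Φ.U => h.theta y) ≠ (σ : ↥Φ.U → ℂ) := fun e => by
      have h1 := congrFun e 1
      simp only [OneMemClass.coe_one, h.theta_one, h.big_degree hσ, Nat.cast_inj] at h1
      have := h.index_le
      have := h.prime.two_le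
      omega
    have h0 := Char.classInner_irr_ne h.theta_irr σ.2 hne
    rw [classInner, mul_eq_zero, or_iff_right (inv_ne_zero hU)] at h0
    rw [h0, mul_zero, eq_comm, mul_eq_zero, or_iff_right hU, sub_eq_zero] at hb
    refine ⟨a, ?_⟩
    rw [KFrame.mult, classInner, ha, ← mul_assoc, inv_mul_cancel₀ hU, one_mul, ← hb]
    ring
  refine ⟨heven ρ hρ, ?_⟩
  by_cases e1 : ρ' = ρ
  · rw [e1]
  by_cases e2 : ρ' = Φ.twist ρ
  · rw [e2, Φ.mult_twist]
  obtain ⟨hb1, hne1⟩ := h.big_twist hρ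
  obtain ⟨hb2, hne2⟩ := h.big_twist hρ'
  set γ' : ↥Φ.U → ℂ := (ρ : ↥Φ.U → ℂ) + (Φ.twist ρ : ↥Φ.U → ℂ) - (ρ' : ↥Φ.U → ℂ) - (Φ.twist ρ' : ↥Φ.U → ℂ)
    with hγ'
  set γ : G → ℂ := extendByZero Φ.U γ' with hγ
  have hγU : ∀ y : ↥Φ.U, γ y = γ' y := fun y => Char.extendByZero_coe Φ.U γ' y
  -- support
  have hsupp : ∀ y ∈ Φ.Uset, y ∉ h.special → γ y = 0 := by
    intro y hy hns
    have hyU := Φ.mem_Uset.1 hy
    simp only [special, Finset.mem_filter, hy, true_and, not_or, not_not, not_and] at hns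
    rw [show y = ((⟨y, hyU⟩ : ↥Φ.U) : G) from rfl, hγU]
    simp only [hγ', Pi.add_apply, Pi.sub_apply]
    by_cases hyZ : y ∈ h.Z
    · have h1 : (⟨y, hyU⟩ : ↥Φ.U) = 1 := Subtype.ext (hns.2 hyZ)
      rw [h1, h.big_degree hρ, h.big_degree hρ', h.big_degree hb1, h.big_degree hb2]
      ring
    · rw [h.big_vanish hρ hns.1 hyZ, h.big_vanish hρ' hns.1 hyZ, h.big_vanish hb1 hns.1 hyZ,
        h.big_vanish hb2 hns.1 hyZ]
      ring
  have hinv : Φ.Invariant γ := by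
    refine hK.invariant_of Φ (fun a ha y hy => ?_) (fun y hy => ?_)
    · have e : a * y * a⁻¹ = (((⟨a, ha⟩ : ↥Φ.U) * ⟨y, hy⟩ * (⟨a, ha⟩ : ↥Φ.U)⁻¹ : ↥Φ.U) : G) := rfl
      refine (congrArg γ e).trans ((hγU _).trans (Eq.trans ?_ (hγU ⟨y, hy⟩).symm))
      simp only [hγ', Pi.add_apply, Pi.sub_apply]
      rw [ρ.2.isClassFunction, ρ'.2.isClassFunction, (Φ.twist ρ).2.isClassFunction,
        (Φ.twist ρ').2.isClassFunction]
    · have e : Φ.u * y * Φ.u = ((Φ.uHom ⟨y, hy⟩ : ↥Φ.U) : G) := rfl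
      refine (congrArg γ e).trans ((hγU _).trans (Eq.trans ?_ (hγU ⟨y, hy⟩).symm))
      simp only [hγ', Pi.add_apply, Pi.sub_apply, twist_apply, uHom_uHom]
      ring
  have hsum : ∀ f : G → ℂ, ∑ c ∈ h.special, f c * conj (γ c) = ∑ y : ↥Φ.U, f y * conj (γ' y) := by
    intro f
    have e : ∑ y ∈ Φ.Uset, f y * conj (γ y) = ∑ y : ↥Φ.U, f y * conj (γ' y) := by
      rw [Φ.sum_Uset]
      exact Finset.sum_congr rfl fun y _ => by rw [hγU]
    rw [← e]
    exact Finset.sum_subset (Finset.filter_subset _ _) fun y hy hns => by rw [hsupp y hy hns, map_zero, mul_zero]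
  -- norm
  have hC : (Nat.card Φ.C : ℂ) = 4 * (Nat.card Φ.U : ℂ) := by exact_mod_cast hK.card_C Φ
  have hself : classInner γ' γ' = 4 := by
    have d : ∀ σ σ' : IrrCharacter ↥Φ.U, σ ≠ σ' → classInner (σ : ↥Φ.U → ℂ) (σ' : ↥Φ.U → ℂ) = 0 :=
      fun σ σ' hne => Char.classInner_irr_ne σ.2 σ'.2 fun e => hne (Subtype.ext e)
    have f1 : ρ ≠ Φ.twist ρ' := fun e => e2 (by rw [e, Φ.twist_twist])
    have f2 : Φ.twist ρ ≠ Φ.twist ρ' := fun e => e1 (by rw [← Φ.twist_twist ρ, e, Φ.twist_twist])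
    simp only [hγ', Char.classInner_sub_left, Char.classInner_add_left, Char.classInner_sub_right,
      Char.classInner_add_right, Char.classInner_irr_self ρ.2, Char.classInner_irr_self ρ'.2,
      Char.classInner_irr_self (Φ.twist ρ).2, Char.classInner_irr_self (Φ.twist ρ').2, d _ _ hne1,
      d _ _ hne1.symm, d _ _ hne2, d _ _ hne2.symm, d _ _ e1, d _ _ (Ne.symm e1), d _ _ e2, d _ _ (Ne.symm e2),
      d _ _ f1, d _ _ f1.symm, d _ _ f2, d _ _ f2.symm]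
    norm_num
  have hgram : ∑ η : IrrCharacter G, Klein.coef Φ.C h.special γ η * conj (Klein.coef Φ.C h.special γ η) = 1 := by
    rw [Klein.gram (h.special_special hK) (β' := γ) (fun k hk c hc => hinv k hk c
      (Φ.mem_Uset.1 (Finset.filter_subset _ _ hc))), hsum γ]
    have h1 : ∑ y : ↥Φ.U, γ y * conj (γ' y) = 4 * (Nat.card Φ.U : ℂ) := by
      rw [classInner, inv_mul_eq_iff_eq_mul₀ hU] at hself
      rw [mul_comm (4 : ℂ), ← hself]
      exact Finset.sum_congr rfl fun y _ => by rw [hγU]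
    rw [h1, hC, inv_mul_cancel₀ (mul_ne_zero (by norm_num) hU)]
  have hdeg := Klein.sum_degree (C := Φ.C) γ (S := h.special) fun h1 => by
    simp [special, one_mem h.F] at h1
  -- the coefficient
  obtain ⟨a, ha⟩ := heven ρ hρ
  obtain ⟨b, hb⟩ := heven ρ' hρ'
  have hcoef : Klein.coef Φ.C h.special γ χ = ((a : ℤ) - b : ℤ) := by
    have h1 : classInner (fun y : ↥Φ.U => (χ : G → ℂ) y) γ' = 4 * ((a : ℂ) - b) := by
      simp only [hγ', Char.classInner_sub_right, Char.classInner_add_right]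
      show Φ.mult χ ρ + Φ.mult χ (Φ.twist ρ) - Φ.mult χ ρ' - Φ.mult χ (Φ.twist ρ') = _
      rw [Φ.mult_twist, Φ.mult_twist, ha, hb]
      ring
    rw [classInner, inv_mul_eq_iff_eq_mul₀ hU] at h1
    rw [Klein.coef, hsum, h1, hC]
    push_cast
    field_simp
  by_contra hne
  have hk : ((a : ℤ) - b) ≠ 0 := fun e => hne (by rw [ha, hb, show a = b by omega])
  have hre : ∑ η : IrrCharacter G, Complex.normSq (Klein.coef Φ.C h.special γ η) = 1 := by
    have h1 := hgram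
    simp only [Complex.mul_conj] at h1
    exact_mod_cast h1
  have hge : (1 : ℝ) ≤ Complex.normSq (Klein.coef Φ.C h.special γ χ) := by
    rw [hcoef, show (((a : ℤ) - b : ℤ) : ℂ) = ((((a : ℤ) - b : ℤ) : ℝ) : ℂ) by push_cast; ring,
      Complex.normSq_ofReal]
    have : (1 : ℤ) ≤ ((a : ℤ) - b) * ((a : ℤ) - b) := by
      rcases Int.lt_or_gt_of_ne hk with h' | h' <;> nlinarith
    exact_mod_cast this
  have hzero : ∀ η, η ≠ χ → Klein.coef Φ.C h.special γ η = 0 := by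
    intro η hη
    have h1 := Finset.sum_le_sum_of_subset_of_nonneg (Finset.subset_univ ({χ, η} : Finset (IrrCharacter G)))
      (f := fun ζ => Complex.normSq (Klein.coef Φ.C h.special γ ζ)) fun _ _ _ => Complex.normSq_nonneg _
    rw [Finset.sum_pair (Ne.symm hη), hre] at h1
    refine Complex.normSq_eq_zero.1 (le_antisymm ?_ (Complex.normSq_nonneg _))
    linarith
  rw [Finset.sum_eq_single χ (fun η _ hη => by rw [hzero η hη, zero_mul]) (fun h' => absurd (Finset.mem_univ _) h'),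
    hcoef, mul_eq_zero] at hdeg
  rcases hdeg with e | e
  · exact hk (by exact_mod_cast e)
  · exact χ.2.apply_one_ne_zero e

open Classical in
/-- The degree of a character in the row of `θ`. -/
theorem quad_degree (h : Φ.Hei q) (hK : KMin G) {χ : IrrCharacter G} (hne : χ ≠ trivChar G) {N : ℤ}
    (hval : ∀ y ∈ Φ.U, (χ : G → ℂ) (Φ.t * y) = (N : ℂ) * h.theta y) :
    2 * (q - 1) * q * h.F.relIndex Φ.U ≤ charDegree (χ : G → ℂ) := by
  haveI := hK.min.isSimple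
  set B := Finset.univ.filter fun ρ : IrrCharacter ↥Φ.U => h.Big ρ with hB
  choose k hk using fun ρ : IrrCharacter ↥Φ.U =>
    (χ.2.isCharacter.comp Φ.U.subtype).exists_nat_classInner ρ.2.isCharacter
  choose d hd0 hd using fun ρ : IrrCharacter ↥Φ.U => ρ.2.exists_degree
  have hsum : charDegree (χ : G → ℂ) = ∑ ρ, k ρ * d ρ := by
    have h1 := Φ.eq_sum_mult χ 1
    rw [OneMemClass.coe_one, χ.2.apply_one_eq_charDegree,
      Finset.sum_congr rfl (g := fun ρ => ((k ρ * d ρ : ℕ) : ℂ)) fun ρ _ => by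
        rw [hd ρ, show Φ.mult χ ρ = (k ρ : ℂ) from hk ρ, Nat.cast_mul], ← Nat.cast_sum] at h1
    exact_mod_cast h1
  obtain ⟨ρ₀, hρ₀, hk0⟩ : ∃ ρ, h.Big ρ ∧ k ρ ≠ 0 := by
    by_contra hno
    push Not at hno
    have hω : (χ : G → ℂ) h.ω = (χ : G → ℂ) 1 := by
      have h1 := Φ.eq_sum_mult χ h.omU
      have h2 := Φ.eq_sum_mult χ 1
      rw [OneMemClass.coe_one] at h2
      refine h1.trans (Eq.trans ?_ h2.symm)
      refine Finset.sum_congr rfl fun ρ _ => ?_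
      by_cases hb : h.Big ρ
      · rw [show Φ.mult χ ρ = (k ρ : ℂ) from hk ρ, hno ρ hb, Nat.cast_zero, zero_mul, zero_mul]
      · rw [show (ρ : ↥Φ.U → ℂ) h.omU = (ρ : ↥Φ.U → ℂ) 1 from not_not.1 hb]
    have hker : h.ω ∈ Char.charKer χ.2.isCharacter := (Char.mem_charKer _).2 hω
    haveI := Char.charKer_normal χ.2.isCharacter
    rcases IsSimpleGroup.eq_bot_or_eq_top_of_normal (Char.charKer χ.2.isCharacter) inferInstance with e | e
    · exact h.ω_ne_one (mem_bot.1 (e ▸ hker))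
    · refine hne (Twist.eq_trivChar_of_degree_one (fun hh => hK.min.nonab ⟨⟨hh⟩⟩) χ ?_)
      have hnorm := Char.classInner_irr_self χ.2
      rw [classInner, inv_mul_eq_one₀ Char.card_cast_ne_zero,
        Finset.sum_congr rfl (g := fun _ => ((charDegree (χ : G → ℂ) : ℕ) : ℂ) ^ 2) fun g _ => by
          rw [(Char.mem_charKer χ.2.isCharacter).1 (e ▸ mem_top g), χ.2.apply_one_eq_charDegree, map_natCast,
            pow_two],
        Finset.sum_const, Finset.card_univ, nsmul_eq_mul, ← Nat.card_eq_fintype_card] at hnorm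
      have h1 : ((charDegree (χ : G → ℂ) * charDegree (χ : G → ℂ) : ℕ) : ℂ) = ((1 : ℕ) : ℂ) := by
        push_cast
        refine mul_left_cancel₀ (Char.card_cast_ne_zero (G := G)) ?_
        linear_combination -hnorm
      exact (mul_eq_one.1 (Nat.cast_injective h1)).1
  have hkB : ∀ ρ ∈ B, 2 ≤ k ρ ∧ d ρ = q := by
    intro ρ hρ
    have hρ' := (Finset.mem_filter.1 hρ).2
    obtain ⟨⟨a, ha⟩, heq⟩ := h.quad_mult hK hval hρ₀ hρ'
    rw [show Φ.mult χ ρ₀ = (k ρ₀ : ℂ) from hk ρ₀, show Φ.mult χ ρ = (k ρ : ℂ) from hk ρ] at heq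
    rw [show Φ.mult χ ρ₀ = (k ρ₀ : ℂ) from hk ρ₀] at ha
    have e1 : k ρ₀ = 2 * a := by exact_mod_cast ha
    have e2 : k ρ₀ = k ρ := by exact_mod_cast heq
    refine ⟨by omega, ?_⟩
    have e3 := (hd ρ).symm.trans (h.big_degree hρ')
    exact_mod_cast e3
  have hcard := h.card_big
  rw [← hB] at hcard
  have hZ : q ≤ Nat.card h.Z := by
    refine le_trans (le_of_eq (h.hω.symm.trans (Nat.card_zpowers h.ω).symm)) ?_
    exact Nat.le_of_dvd Nat.card_pos (card_dvd_of_le (zpowers_le.2 h.ω_mem))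
  calc 2 * (q - 1) * q * h.F.relIndex Φ.U ≤ 2 * ((q - 1) * Nat.card h.Z * h.F.relIndex Φ.U) := by
        rw [mul_assoc 2, mul_assoc 2]
        gcongr
    _ = ∑ ρ ∈ B, 2 * q := by rw [← hcard, Finset.sum_const, smul_eq_mul]; ring
    _ ≤ ∑ ρ ∈ B, k ρ * d ρ := Finset.sum_le_sum fun ρ hρ => by
        rw [(hkB ρ hρ).2]; exact Nat.mul_le_mul_right _ (hkB ρ hρ).1
    _ ≤ ∑ ρ, k ρ * d ρ := Finset.sum_le_sum_of_subset (Finset.subset_univ _)
    _ = _ := hsum.symm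

end Hei

end KFrame

open Classical in
/-- There is no Heisenberg configuration. -/
theorem hei_false {G : Type u} [Group G] [Fintype G] (hK : KMin G) (Φ : KFrame G)
    (hg : ∀ w ∈ Φ.W, Commute Φ.g w) {q : ℕ} (h : Φ.Hei q) : False := by
  obtain ⟨n, hn, hval, hpos, htriv, hbound⟩ := h.row_data hK hg
  set m := h.F.relIndex Φ.U with hm
  have hq2 := h.prime.two_le
  have hm1 := h.index_gt
  have hodd := h.odd_index
  have hle := h.index_le
  rw [← hm] at hm1 hodd hle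
  have hm3 : 3 ≤ m := by obtain ⟨i, hi⟩ := hodd; omega
  set D : ℚ := 2 * ((q : ℚ) - 1) * q * m with hD
  have hqQ : (5 : ℚ) ≤ q := by exact_mod_cast (show 5 ≤ q by omega)
  have hmQ : (3 : ℚ) ≤ m := by exact_mod_cast hm3
  have hD0 : 0 < D := by rw [hD]; have h1 : (0 : ℚ) < (q : ℚ) - 1 := (by linarith); positivity
  have hdeg : ∀ χ, n χ = 1 → (n χ : ℚ) / (charDegree (χ : G → ℂ) : ℚ) ≤ 1 / D := by
    intro χ hχ
    have h1 := h.quad_degree hK (fun e => by rw [e, htriv] at hχ; exact zero_ne_one hχ)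
      (hval χ (by rw [hχ]; norm_num))
    rw [hχ, Int.cast_one, ← hm] at *
    refine one_div_le_one_div_of_le hD0 ?_
    have h2 : ((2 * (q - 1) * q * m : ℕ) : ℚ) ≤ (charDegree (χ : G → ℂ) : ℚ) := Nat.cast_le.2 h1
    push_cast [Nat.cast_sub (show 1 ≤ q by omega)] at h2
    exact h2
  have hS : ∑ χ, (n χ : ℚ) / (charDegree (χ : G → ℂ) : ℚ) ≤ 3 / D := by
    calc ∑ χ, (n χ : ℚ) / (charDegree (χ : G → ℂ) : ℚ)
        ≤ ∑ χ : IrrCharacter G, (if n χ = 1 then 1 / D else 0) := Finset.sum_le_sum fun χ _ => by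
          split_ifs with e
          · exact hdeg χ e
          · refine div_nonpos_of_nonpos_of_nonneg ?_ (Nat.cast_nonneg _)
            rcases hn χ with e' | e' | e'
            · simp [e']
            · exact absurd e' e
            · simp [e']
      _ = ((Finset.univ.filter fun χ => n χ = 1).card : ℚ) * (1 / D) := by
          rw [← Finset.sum_filter, Finset.sum_const, nsmul_eq_mul]
      _ ≤ 3 * (1 / D) := mul_le_mul_of_nonneg_right (by exact_mod_cast hpos) (by positivity)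
      _ = 3 / D := by ring
  have h3 : (5 / 7 : ℚ) ≤ (m : ℚ) ^ 3 * (3 / D) :=
    hbound.trans (mul_le_mul_of_nonneg_left hS (by positivity))
  rw [mul_div_assoc', le_div_iff₀ hD0, hD] at h3
  have h4 : 10 * ((q : ℚ) - 1) * q ≤ 21 * (m : ℚ) ^ 2 := by
    refine le_of_mul_le_mul_left ?_ (show (0 : ℚ) < m by linarith)
    nlinarith
  have h5 : (2 * (m : ℚ)) ^ 2 ≤ ((q : ℚ) + 1) ^ 2 := by
    gcongr
    exact_mod_cast hle
  nlinarith

end Cfsg.Lib.GW
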