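import Cfsg.Agent.Lib.GW.Klein.Hei

/-!
# Gorenstein–Walter, Sylow four groups: coordinates on the Heisenberg configuration

`F / Z` is a vector space of dimension two with basis the images of `e` and `d`; an element of `U` outside
`F` moves it without fixed points, so that it commutes with an element modulo `Z` only if it commutes with it.
-/

set_option autoImplicit false
set_option linter.style.haveILetI false
set_option linter.unusedSectionVars false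

namespace Cfsg.Lib.GW

open Subgroup

universe u

namespace KFrame.Hei

variable {G : Type u} [Group G] [Finite G] {Φ : KFrame G} {q : ℕ} (h : Φ.Hei q)

theorem Z_central_F (h : Φ.Hei q) {x z : G} (hx : x ∈ h.F) (hz : z ∈ h.Z) : Commute x z :=
  h.Z_central z hz x (h.F_le hx)

theorem conj_mem_F (h : Φ.Hei q) {k r : G} (hk : k ∈ Φ.C) (hr : r ∈ h.F) : k * r * k⁻¹ ∈ h.F :=
  (mem_normalizer_iff.1 (h.F_normal hk) r).1 hr

theorem conj_d_pow (h : Φ.Hei q) (j : ℕ) : h.e * h.d ^ j * h.e⁻¹ = h.ω ^ j * h.d ^ j := by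
  rw [← conj_pow, show h.e * h.d * h.e⁻¹ = h.ω * h.d by rw [← h.comm]; group,
    (h.Z_central_F h.d_mem h.ω_mem).symm.mul_pow]

theorem conj_e_pow (h : Φ.Hei q) (i : ℕ) : h.d * h.e ^ i * h.d⁻¹ = h.ω⁻¹ ^ i * h.e ^ i := by
  have e1 : h.d * h.e * h.d⁻¹ = h.ω⁻¹ * h.e := by
    rw [← h.comm]
    group
  rw [← conj_pow, e1, ((h.Z_central_F h.e_mem h.ω_mem).symm.inv_left).mul_pow]

theorem swap_pows (h : Φ.Hei q) (j k : ℕ) : ∃ z ∈ h.Z, h.d ^ j * h.e ^ k = h.e ^ k * h.d ^ j * z := by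
  induction j with
  | zero => exact ⟨1, one_mem _, by simp⟩
  | succ j ih =>
    obtain ⟨z, hz, hjk⟩ := ih
    have hw : h.ω⁻¹ ^ k ∈ h.Z := pow_mem (inv_mem h.ω_mem) k
    refine ⟨h.ω⁻¹ ^ k * z, mul_mem hw hz, ?_⟩
    have hc := h.Z_central _ hw (h.e ^ k * h.d ^ (j + 1))
      (mul_mem (pow_mem (h.F_le h.e_mem) k) (pow_mem (h.F_le h.d_mem) _))
    calc h.d ^ (j + 1) * h.e ^ k = h.d * (h.d ^ j * h.e ^ k) := by rw [pow_succ', mul_assoc]
      _ = (h.d * h.e ^ k * h.d⁻¹) * h.d ^ (j + 1) * z := by rw [hjk, pow_succ']; group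
      _ = h.ω⁻¹ ^ k * (h.e ^ k * h.d ^ (j + 1)) * z := by rw [h.conj_e_pow]; group
      _ = _ := by rw [← hc.eq]; group

open Classical in
/-- The coordinates of an element of `F` modulo `Z`. -/
noncomputable def co (h : Φ.Hei q) (x : G) : ZMod q × ZMod q :=
  if hx : x ∈ h.F then
    (((h.F_eq x hx).choose : ZMod q), ((h.F_eq x hx).choose_spec.choose : ZMod q))
  else (0, 0)

theorem co_unique (h : Φ.Hei q) {i j k l : ℕ} {z w : G} (hz : z ∈ h.Z) (hw : w ∈ h.Z)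
    (he : h.e ^ i * h.d ^ j * z = h.e ^ k * h.d ^ l * w) :
    (i : ZMod q) = k ∧ (j : ZMod q) = l := by
  have hq := h.prime.pos
  have heq : h.e ^ q = 1 := orderOf_dvd_iff_pow_eq_one.1 h.he.dvd
  have hdq : h.d ^ q = 1 := orderOf_dvd_iff_pow_eq_one.1 h.hd.dvd
  -- move everything to one side
  have e1 : h.e ^ ((q - 1) * k + i) * h.d ^ (j + (q - 1) * l) = h.d ^ l * (w * z⁻¹) * h.d ^ ((q - 1) * l) := by
    have a1 : h.e ^ ((q - 1) * k) * h.e ^ k = 1 := by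
      rw [← pow_add, ← Nat.succ_mul, Nat.succ_eq_add_one, Nat.sub_add_cancel hq, pow_mul, heq, one_pow]
    calc h.e ^ ((q - 1) * k + i) * h.d ^ (j + (q - 1) * l)
        = h.e ^ ((q - 1) * k) * (h.e ^ i * h.d ^ j * z) * z⁻¹ * h.d ^ ((q - 1) * l) := by
          rw [pow_add, pow_add]; group
      _ = h.e ^ ((q - 1) * k) * h.e ^ k * (h.d ^ l * (w * z⁻¹)) * h.d ^ ((q - 1) * l) := by rw [he]; group
      _ = _ := by rw [a1, one_mul]
  have e2 : h.e ^ ((q - 1) * k + i) * h.d ^ (j + (q - 1) * l) = w * z⁻¹ := by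
    have hwz := mul_mem hw (inv_mem hz)
    have hc := h.Z_central _ hwz (h.d ^ l) (pow_mem (h.F_le h.d_mem) l)
    rw [e1, hc.eq, mul_assoc, ← pow_add, add_comm, ← Nat.succ_mul, Nat.succ_eq_add_one,
      Nat.sub_add_cancel hq, pow_mul, hdq, one_pow, mul_one]
  obtain ⟨h1, h2⟩ := h.coord _ _ (e2 ▸ mul_mem hw (inv_mem hz))
  rw [← ZMod.natCast_eq_zero_iff] at h1 h2
  push_cast [Nat.cast_sub (show 1 ≤ q from hq), ZMod.natCast_self] at h1 h2
  exact ⟨by linear_combination h1, by linear_combination h2⟩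

theorem co_eq (h : Φ.Hei q) {i j : ℕ} {z : G} (hz : z ∈ h.Z) :
    h.co (h.e ^ i * h.d ^ j * z) = ((i : ZMod q), (j : ZMod q)) := by
  have hx : h.e ^ i * h.d ^ j * z ∈ h.F :=
    mul_mem (mul_mem (pow_mem h.e_mem i) (pow_mem h.d_mem j)) (h.Z_le hz)
  obtain ⟨w, hw, he⟩ := (h.F_eq _ hx).choose_spec.choose_spec
  obtain ⟨h1, h2⟩ := h.co_unique hz hw he
  rw [co, dif_pos hx, h1, h2]

/-- The standard representative of a class modulo `Z`. -/
def rep (h : Φ.Hei q) (p : ZMod q × ZMod q) : G := h.e ^ p.1.val * h.d ^ p.2.val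

theorem rep_mem (h : Φ.Hei q) (p : ZMod q × ZMod q) : h.rep p ∈ h.F :=
  mul_mem (pow_mem h.e_mem _) (pow_mem h.d_mem _)

theorem rep_zero (h : Φ.Hei q) : h.rep 0 = 1 := by
  haveI : NeZero q := ⟨h.prime.ne_zero⟩
  simp [rep]

theorem co_rep (h : Φ.Hei q) (p : ZMod q × ZMod q) {z : G} (hz : z ∈ h.Z) : h.co (h.rep p * z) = p := by
  haveI : NeZero q := ⟨h.prime.ne_zero⟩
  rw [rep, h.co_eq hz, ZMod.natCast_zmod_val, ZMod.natCast_zmod_val]

theorem exists_eq_rep (h : Φ.Hei q) {x : G} (hx : x ∈ h.F) : ∃ z ∈ h.Z, x = h.rep (h.co x) * z := by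
  haveI : NeZero q := ⟨h.prime.ne_zero⟩
  obtain ⟨i, j, z, hz, rfl⟩ := h.F_eq x hx
  refine ⟨z, hz, ?_⟩
  rw [h.co_eq hz]
  simp only [rep, ZMod.val_natCast]
  have hmod : ∀ (a : G) (n : ℕ), orderOf a = q → a ^ (n % q) = a ^ n := fun a n e => by
    rw [← e, pow_mod_orderOf]
  rw [hmod _ _ h.he, hmod _ _ h.hd]

theorem co_mul (h : Φ.Hei q) {x y : G} (hx : x ∈ h.F) (hy : y ∈ h.F) : h.co (x * y) = h.co x + h.co y := by
  obtain ⟨i, j, z, hz, rfl⟩ := h.F_eq x hx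
  obtain ⟨k, l, w, hw, rfl⟩ := h.F_eq y hy
  obtain ⟨v, hv, hjk⟩ := h.swap_pows j k
  have hzy := (h.Z_central_F hy hz).eq
  have hvl := (h.Z_central_F (pow_mem h.d_mem l) hv).eq
  have e : h.e ^ i * h.d ^ j * z * (h.e ^ k * h.d ^ l * w) = h.e ^ (i + k) * h.d ^ (j + l) * (v * (w * z)) := by
    calc h.e ^ i * h.d ^ j * z * (h.e ^ k * h.d ^ l * w)
        = h.e ^ i * h.d ^ j * (z * (h.e ^ k * h.d ^ l * w)) := by group
      _ = h.e ^ i * (h.d ^ j * h.e ^ k) * (h.d ^ l * w * z) := by rw [← hzy]; group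
      _ = h.e ^ i * h.e ^ k * h.d ^ j * (v * h.d ^ l) * (w * z) := by rw [hjk]; group
      _ = _ := by rw [← hvl, pow_add, pow_add]; group
  rw [e, h.co_eq (mul_mem hv (mul_mem hw hz)), h.co_eq hz, h.co_eq hw, Nat.cast_add, Nat.cast_add,
    Prod.mk_add_mk]

theorem co_mem_Z (h : Φ.Hei q) {z : G} (hz : z ∈ h.Z) : h.co z = 0 := by
  simpa [Prod.ext_iff] using h.co_eq (i := 0) (j := 0) hz

theorem mem_Z_of_co (h : Φ.Hei q) {x : G} (hx : x ∈ h.F) (h0 : h.co x = 0) : x ∈ h.Z := by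
  obtain ⟨z, hz, e⟩ := h.exists_eq_rep hx
  rw [h0, h.rep_zero, one_mul] at e
  exact e ▸ hz

theorem co_inv (h : Φ.Hei q) {x : G} (hx : x ∈ h.F) : h.co x⁻¹ = -h.co x := by
  refine eq_neg_of_add_eq_zero_left ?_
  rw [← h.co_mul (inv_mem hx) hx, inv_mul_cancel, h.co_mem_Z (one_mem _)]

theorem eq_of_co (h : Φ.Hei q) {x y : G} (hx : x ∈ h.F) (hy : y ∈ h.F) (he : h.co x = h.co y) :
    y⁻¹ * x ∈ h.Z :=
  h.mem_Z_of_co (mul_mem (inv_mem hy) hx) (by rw [h.co_mul (inv_mem hy) hx, h.co_inv hy, he, neg_add_cancel])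

theorem co_u (h : Φ.Hei q) {x : G} (hx : x ∈ h.F) :
    h.co (Φ.u * x * Φ.u) = (-(h.co x).1, (h.co x).2) := by
  obtain ⟨i, j, z, hz, rfl⟩ := h.F_eq x hx
  have hq := h.prime.pos
  have hei : h.e⁻¹ = h.e ^ (q - 1) := by
    refine inv_eq_of_mul_eq_one_right ?_
    rw [← pow_succ', Nat.sub_add_cancel hq, orderOf_dvd_iff_pow_eq_one.1 h.he.dvd]
  have hui := Cfsg.Lib.Invol.inv_eq_self Φ.hu
  have e : Φ.u * (h.e ^ i * h.d ^ j * z) * Φ.u = h.e ^ ((q - 1) * i) * h.d ^ j * z⁻¹ := by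
    have hd1 : Φ.u * h.d * Φ.u = h.d := by rw [(Φ.commute_u h.d_mem_W).eq, mul_assoc, Φ.uu, mul_one]
    have h1 : Φ.u * h.e ^ i * Φ.u⁻¹ = (h.e⁻¹) ^ i := pow_conj_inv (by rw [hui]; exact h.e_inv) i
    have h2 : Φ.u * h.d ^ j * Φ.u⁻¹ = h.d ^ j := pow_conj_inv (by rw [hui]; exact hd1) j
    rw [hui] at h1 h2
    calc Φ.u * (h.e ^ i * h.d ^ j * z) * Φ.u
        = (Φ.u * h.e ^ i * Φ.u) * (Φ.u * h.d ^ j * Φ.u) * (Φ.u * z * Φ.u) := by
          simp only [mul_assoc, reduce_two Φ.uu]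
      _ = _ := by rw [h1, h2, h.Z_inv z hz, hei, ← pow_mul]
  rw [e, h.co_eq (inv_mem hz), h.co_eq hz]
  push_cast [Nat.cast_sub (show 1 ≤ q from hq), ZMod.natCast_self]
  simp
where
  reduce_two {u : G} (hu : u * u = 1) (a : G) : u * (u * a) = a := by rw [← mul_assoc, hu, one_mul]

theorem W_le_F (h : Φ.Hei q) : Φ.W ≤ h.F := h.W_eq ▸ zpowers_le.2 h.d_mem

theorem W_inf_Z (h : Φ.Hei q) {x : G} (hW : x ∈ Φ.W) (hZ : x ∈ h.Z) : x = 1 :=
  eq_one_of_fixed_inverted Φ.uu (Φ.commute_u hW) (h.Z_inv x hZ) (Φ.odd_of_mem (h.Z_le_U hZ))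

/-- `F / Z` has order `q²`. -/
theorem card_F (h : Φ.Hei q) : Nat.card h.F = q ^ 2 * Nat.card h.Z := by
  haveI : NeZero q := ⟨h.prime.ne_zero⟩
  let f : (ZMod q × ZMod q) × h.Z → h.F := fun p =>
    ⟨h.rep p.1 * (p.2 : G), mul_mem (h.rep_mem _) (h.Z_le p.2.2)⟩
  have hf : Function.Bijective f := by
    refine ⟨?_, fun x => ?_⟩
    · rintro ⟨p, z⟩ ⟨p', z'⟩ he
      have he' : h.rep p * (z : G) = h.rep p' * (z' : G) := congrArg Subtype.val he
      obtain rfl : p = p' := by rw [← h.co_rep p z.2, he', h.co_rep p' z'.2]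
      exact Prod.ext rfl (Subtype.ext (mul_left_cancel he'))
    · obtain ⟨z, hz, he⟩ := h.exists_eq_rep x.2
      exact ⟨(h.co x, ⟨z, hz⟩), Subtype.ext he.symm⟩
  rw [← Nat.card_congr (Equiv.ofBijective f hf), Nat.card_prod, Nat.card_prod, Nat.card_zmod, pow_two]

theorem card_U (h : Φ.Hei q) :
    Nat.card Φ.U = q ^ 2 * Nat.card h.Z * h.F.relIndex Φ.U := by
  rw [← h.card_F, Cfsg.Lib.Core.card_mul_relIndex h.F_le]

/-- The commutators with an element outside `F` fill `F / Z`. -/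
theorem exists_commutator (h : Φ.Hei q) {x : G} (hx : x ∈ Φ.U) (hxF : x ∉ h.F) {c : G} (hc : c ∈ h.F) :
    ∃ r ∈ h.F, (x * r * x⁻¹ * r⁻¹)⁻¹ * c ∈ h.Z := by
  haveI : NeZero q := ⟨h.prime.ne_zero⟩
  have hxC := Φ.U_le_C hx
  have hT : ∀ r ∈ h.F, x * r * x⁻¹ * r⁻¹ ∈ h.F ∧ h.co (x * r * x⁻¹ * r⁻¹) = h.co (x * r * x⁻¹) - h.co r :=
    fun r hr => ⟨mul_mem (h.conj_mem_F hxC hr) (inv_mem hr),
      by rw [h.co_mul (h.conj_mem_F hxC hr) (inv_mem hr), h.co_inv hr, sub_eq_add_neg]⟩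
  have hinj : Function.Injective fun p => h.co (x * h.rep p * x⁻¹ * (h.rep p)⁻¹) := by
    intro p p' he
    simp only at he
    rw [(hT _ (h.rep_mem p)).2, (hT _ (h.rep_mem p')).2] at he
    set f := (h.rep p')⁻¹ * h.rep p with hfdef
    have hf : f ∈ h.F := mul_mem (inv_mem (h.rep_mem p')) (h.rep_mem p)
    have hcx : x * f * x⁻¹ = (x * h.rep p' * x⁻¹)⁻¹ * (x * h.rep p * x⁻¹) := by rw [hfdef]; group
    have h0 : h.co (x * f * x⁻¹ * f⁻¹) = 0 := by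
      rw [(hT f hf).2, hcx, h.co_mul (inv_mem (h.conj_mem_F hxC (h.rep_mem p'))) (h.conj_mem_F hxC (h.rep_mem p)),
        h.co_inv (h.conj_mem_F hxC (h.rep_mem p')), hfdef, h.co_mul (inv_mem (h.rep_mem p')) (h.rep_mem p),
        h.co_inv (h.rep_mem p')]
      linear_combination he
    have := h.co_mem_Z (h.fpf x hx hxF f hf (h.mem_Z_of_co (hT f hf).1 h0))
    rw [hfdef, h.co_mul (inv_mem (h.rep_mem p')) (h.rep_mem p), h.co_inv (h.rep_mem p'), neg_add_eq_zero] at this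
    have e1 := h.co_rep p (one_mem h.Z)
    have e2 := h.co_rep p' (one_mem h.Z)
    rw [mul_one] at e1 e2
    rw [← e1, ← e2, this]
  obtain ⟨p, hp⟩ := (Finite.injective_iff_surjective.1 hinj) (h.co c)
  exact ⟨h.rep p, h.rep_mem p, h.eq_of_co hc (hT _ (h.rep_mem p)).1 hp.symm⟩

/-- Every element of `U` outside `F` is conjugate to an inverted one. -/
theorem exists_conj_kz (h : Φ.Hei q) {y : G} (hy : y ∈ Φ.U) (hyF : y ∉ h.F) :
    ∃ r ∈ h.F, ∃ x ∈ Φ.U, x ∉ h.F ∧ Φ.u * x * Φ.u = x⁻¹ ∧ y = r * x * r⁻¹ := by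
  obtain ⟨k, hk, w, hw, hku, hwu, hykw⟩ :=
    exists_inverted_mul_fixed Φ.uu (fun z hz => Φ.odd_of_mem hz) hy (Φ.u_conj_mem hy)
  have hwF : w ∈ h.F := h.W_le_F ⟨hw, mem_centralizer_singleton_iff.2 hwu.eq.symm⟩
  have hkF : k ∉ h.F := fun h' => hyF (hykw ▸ mul_mem h' hwF)
  have hki : k⁻¹ ∉ h.F := fun h' => hkF (inv_inv k ▸ inv_mem h')
  obtain ⟨r, hr, hz⟩ := h.exists_commutator (inv_mem hk) hki hwF
  set z := (k⁻¹ * r * k⁻¹⁻¹ * r⁻¹)⁻¹ * w with hzdef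
  have hzc := h.Z_central z hz
  refine ⟨r, hr, k * z, mul_mem hk (h.Z_le_U hz), fun h' => hkF ?_, ?_, ?_⟩
  · have := mul_mem h' (inv_mem (h.Z_le hz))
    rwa [mul_inv_cancel_right] at this
  · calc Φ.u * (k * z) * Φ.u = (Φ.u * k * Φ.u) * (Φ.u * z * Φ.u) := by
          rw [show Φ.u * k * Φ.u * (Φ.u * z * Φ.u) = Φ.u * k * (Φ.u * Φ.u) * z * Φ.u by group, Φ.uu]
          group
      _ = k⁻¹ * z⁻¹ := by rw [hku, h.Z_inv z hz]
      _ = _ := ((hzc k hk).mul_inv).symm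
  · calc y = k * (k⁻¹ * r * k⁻¹⁻¹ * r⁻¹) * z := by rw [hykw, hzdef]; group
      _ = r * k * (r⁻¹ * z) := by group
      _ = r * k * (z * r⁻¹) := by rw [(hzc r⁻¹ (inv_mem (h.F_le hr))).eq]
      _ = _ := by group

/-- Outside `F`, commuting modulo `Z` is commuting. -/
theorem commute_of_commutator_mem (h : Φ.Hei q) {x : G} (hx : x ∈ Φ.U) (hxF : x ∉ h.F) {a : G}
    (ha : a ∈ Φ.U) (hc : x * a * x⁻¹ * a⁻¹ ∈ h.Z) : Commute x a := by
  -- the inverted case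
  have key : ∀ x ∈ Φ.U, x ∉ h.F → Φ.u * x * Φ.u = x⁻¹ → ∀ g ∈ Φ.U, x * g * x⁻¹ * g⁻¹ ∈ h.Z → Commute x g := by
    intro x hx hxF hxu g hg hcZ
    set c := x * g * x⁻¹ * g⁻¹ with hcdef
    set g' := Φ.u * g * Φ.u with hg'
    have hcx := (h.Z_central c hcZ x hx)
    have hcg' := (h.Z_central c hcZ g' (Φ.u_conj_mem hg))
    have e1 : x⁻¹ * g' * x * g'⁻¹ = c⁻¹ := by
      have hφ : ∀ y, MulAut.conj Φ.u y = Φ.u * y * Φ.u := fun y => by
        rw [MulAut.conj_apply, Cfsg.Lib.Invol.inv_eq_self Φ.hu]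
      have h1 : MulAut.conj Φ.u c = x⁻¹ * g' * x * g'⁻¹ := by
        rw [hcdef, map_mul, map_mul, map_mul, map_inv, map_inv, hφ x, hφ g, hxu, inv_inv]
      rw [← h1, hφ c, h.Z_inv c hcZ]
    have e2 : x * g' * x⁻¹ = c * g' := by
      have e3 : x⁻¹ * g' * x = c⁻¹ * g' := by rw [← e1]; group
      calc x * g' * x⁻¹ = (c * x) * (c⁻¹ * g') * x⁻¹ := by
            rw [hcx.symm.eq, show x * c * (c⁻¹ * g') * x⁻¹ = x * g' * x⁻¹ by group]
        _ = c * (x * (x⁻¹ * g' * x) * x⁻¹) := by rw [e3]; group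
        _ = _ := by group
    have e4 : x * g * x⁻¹ = c * g := by rw [hcdef]; group
    have hf : g' * g ∈ h.F := h.quot_inv g hg
    have e5 : x * (g' * g) * x⁻¹ * (g' * g)⁻¹ = c * c := by
      rw [show x * (g' * g) * x⁻¹ = (x * g' * x⁻¹) * (x * g * x⁻¹) by group, e2, e4,
        show c * g' * (c * g) * (g' * g)⁻¹ = c * (g' * c) * g'⁻¹ by group, hcg'.eq]
      group
    have hfZ := h.fpf x hx hxF _ hf (e5 ▸ mul_mem hcZ hcZ)
    rw [(h.Z_central _ hfZ x hx).eq, mul_inv_cancel_right, mul_inv_cancel] at e5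
    obtain ⟨n, hn⟩ := exists_pow_sq_eq (Φ.odd_of_mem (h.Z_le_U hcZ))
    rw [← e5, one_pow] at hn
    rw [← hn, one_mul] at e4
    exact mul_inv_eq_iff_eq_mul.1 e4
  obtain ⟨r, hr, x', hx', hx'F, hx'u, rfl⟩ := h.exists_conj_kz hx hxF
  have hc' : x' * (r⁻¹ * a * r) * x'⁻¹ * (r⁻¹ * a * r)⁻¹ ∈ h.Z := by
    have e : x' * (r⁻¹ * a * r) * x'⁻¹ * (r⁻¹ * a * r)⁻¹ =
        r⁻¹ * (r * x' * r⁻¹ * a * (r * x' * r⁻¹)⁻¹ * a⁻¹) * r := by group
    rw [e, (h.Z_central _ hc r⁻¹ (inv_mem (h.F_le hr))).eq, inv_mul_cancel_right]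
    exact hc
  have := fixed_conj (h := r) (key x' hx' hx'F hx'u _
    (mul_mem (mul_mem (inv_mem (h.F_le hr)) ha) (h.F_le hr)) hc')
  rwa [show r * (r⁻¹ * a * r) * r⁻¹ = a by group] at this

/-- The centralizer of an element outside `F` has index `q²`. -/
theorem card_centralizer_mul (h : Φ.Hei q) {x : G} (hx : x ∈ Φ.U) (hxF : x ∉ h.F) :
    q ^ 2 * Nat.card ((Φ.U ⊓ centralizer ({x} : Set G) : Subgroup G)) = Nat.card Φ.U := by
  haveI : NeZero q := ⟨h.prime.ne_zero⟩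
  have hmem : ∀ {a : G}, a ∈ Φ.U ⊓ centralizer ({x} : Set G) ↔ a ∈ Φ.U ∧ Commute x a := by
    intro a
    rw [Subgroup.mem_inf, mem_centralizer_singleton_iff]
    exact and_congr_right fun _ => ⟨fun e => e.symm, fun e => e.symm⟩
  let f : (ZMod q × ZMod q) × (Φ.U ⊓ centralizer ({x} : Set G) : Subgroup G) → Φ.U := fun p =>
    ⟨h.rep p.1 * (p.2 : G), mul_mem (h.F_le (h.rep_mem _)) (hmem.1 p.2.2).1⟩
  have hf : Function.Bijective f := by
    refine ⟨?_, fun a => ?_⟩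
    · rintro ⟨p, a⟩ ⟨p', a'⟩ he
      have he' : h.rep p * (a : G) = h.rep p' * (a' : G) := congrArg Subtype.val he
      have hd : (h.rep p')⁻¹ * h.rep p = (a' : G) * (a : G)⁻¹ := by
        rw [eq_mul_inv_iff_mul_eq, mul_assoc, he', inv_mul_cancel_left]
      have hcm : Commute x ((h.rep p')⁻¹ * h.rep p) :=
        hd ▸ (hmem.1 a'.2).2.mul_right (hmem.1 a.2).2.inv_right
      have hZ := h.fpf x hx hxF _ (mul_mem (inv_mem (h.rep_mem p')) (h.rep_mem p))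
        (by rw [hcm.eq, mul_inv_cancel_right, mul_inv_cancel]; exact one_mem _)
      have e1 := h.co_rep p' hZ
      rw [mul_inv_cancel_left] at e1
      have e2 := h.co_rep p (one_mem h.Z)
      rw [mul_one, e1] at e2
      subst e2
      exact Prod.ext rfl (Subtype.ext (mul_left_cancel he'))
    · have hcF := h.quot_comm x hx a a.2
      obtain ⟨r, hr, hz⟩ := h.exists_commutator hx hxF (inv_mem hcF)
      set c := x * (a : G) * x⁻¹ * (a : G)⁻¹ with hc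
      have hcom : Commute x (r * a) := by
        refine h.commute_of_commutator_mem hx hxF (mul_mem (h.F_le hr) a.2) ?_
        have hrc : x * (r * a) * x⁻¹ * (r * a)⁻¹ = (x * r * x⁻¹) * c * r⁻¹ := by rw [hc]; group
        have hxr := h.conj_mem_F (Φ.U_le_C hx) hr
        have hT : x * r * x⁻¹ * r⁻¹ ∈ h.F := mul_mem hxr (inv_mem hr)
        have := h.co_mem_Z hz
        rw [h.co_mul (inv_mem hT) (inv_mem hcF), h.co_inv hT, h.co_inv hcF, h.co_mul hxr (inv_mem hr),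
          h.co_inv hr] at this
        rw [hrc]
        refine h.mem_Z_of_co (mul_mem (mul_mem hxr hcF) (inv_mem hr)) ?_
        rw [h.co_mul (mul_mem hxr hcF) (inv_mem hr), h.co_mul hxr hcF, h.co_inv hr]
        linear_combination -this
      obtain ⟨z, hz', he⟩ := h.exists_eq_rep (inv_mem hr)
      refine ⟨(h.co r⁻¹, ⟨z * (r * a), hmem.2 ⟨mul_mem (h.Z_le_U hz') (mul_mem (h.F_le hr) a.2),
        (h.Z_central z hz' x hx).mul_right hcom⟩⟩), Subtype.ext ?_⟩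
      show h.rep (h.co r⁻¹) * (z * (r * a)) = a
      rw [← mul_assoc, ← he, inv_mul_cancel_left]
  rw [← Nat.card_congr (Equiv.ofBijective f hf), Nat.card_prod, Nat.card_prod, Nat.card_zmod, pow_two]

end KFrame.Hei

end Cfsg.Lib.GW
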