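import Cfsg.Agent.Lib.GW.Klein.Principal
import Cfsg.Agent.Lib.GW.Twist.Section

/-!
# Gorenstein–Walter, Sylow four groups: values on the section of an involution

A character with odd sum of coefficients at a balanced family of irreducible characters of `U` restricts
to `t U` as the corresponding combination of the family.
-/

set_option autoImplicit false
set_option linter.unusedSectionVars false
set_option linter.style.haveILetI false
set_option maxHeartbeats 800000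

namespace Cfsg.Lib.GW

open Cfsg Subgroup
open Cfsg.Lib.Block
open scoped ComplexConjugate

universe u

noncomputable local instance (priority := high) fintypeSubgroupKleinSection {A : Type u}
    [Group A] [Fintype A] (H : Subgroup A) : Fintype H := Fintype.ofFinite H

noncomputable local instance (priority := high) fintypeQuotientKleinSection {A : Type u}
    [Group A] [Fintype A] (H : Subgroup A) : Fintype (A ⧸ H) := Fintype.ofFinite _

variable {G : Type u} [Group G] [Fintype G] {ι : Type} [Fintype ι]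

namespace KFrame

variable (Φ : KFrame G)

/-- Irreducible characters of `U`, fixed under `C`, whose sum is the same at the two conjugates of an
element of `W` under `g` and `g⁻¹`. -/
structure Family (θ : ι → G → ℂ) : Prop where
  inv : ∀ i, Φ.Invariant (θ i)
  irr : ∀ i, IsIrrCharacter ↥Φ.U (fun y : ↥Φ.U => θ i y)
  orth : ∀ i j, i ≠ j → ∑ y ∈ Φ.Uset, θ i y * conj (θ j y) = 0
  balanced : ∀ w ∈ Φ.W, ∑ i, θ i (Φ.g⁻¹ * w * Φ.g) = ∑ i, θ i (Φ.g * w * Φ.g⁻¹)

/-- The class function on `G` with the values `conj L` on the section of `t`. -/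
noncomputable def sectionClass (L : G → ℂ) (x : G) : ℂ :=
  (1 / 4 : ℂ) * ∑ η : IrrCharacter G, Φ.row L η * conj ((η : G → ℂ) x)

theorem family_self {θ : ι → G → ℂ} (hθ : Φ.Family θ) (i : ι) :
    ∑ y ∈ Φ.Uset, θ i y * conj (θ i y) = (Nat.card Φ.U : ℂ) := by
  have h := Char.classInner_irr_self (hθ.irr i)
  rw [classInner, inv_mul_eq_one₀ (Nat.cast_ne_zero.2 Nat.card_pos.ne')] at h
  rw [h, Finset.sum_subtype (p := (· ∈ Φ.U)) Φ.Uset (fun y => Φ.mem_Uset)]

end KFrame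

namespace KMin

variable (hK : KMin G) (Φ : KFrame G)
include hK

theorem sectionClass_isClassFunction (L : G → ℂ) : IsClassFunction G (Φ.sectionClass L) := fun x h => by
  simp only [KFrame.sectionClass]
  congr 1
  exact Finset.sum_congr rfl fun η _ => by rw [η.2.isClassFunction]

theorem sectionClass_apply {L : G → ℂ} (hL : Φ.Invariant L) {y : G} (hy : y ∈ Φ.U) :
    Φ.sectionClass L (Φ.t * y) = conj (L y) := by
  classical
  have h := Klein.value Φ.special_tSet (β := fun c => 4 * L (Φ.t * c)) (Φ.alpha_invariant hL)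
    (g := Φ.t * y) (Finset.mem_image.2 ⟨y, Φ.mem_Uset.2 hy, rfl⟩)
  simp only [KFrame.sectionClass, Φ.row_eq_coef hK, h, ← mul_assoc Φ.t Φ.t, Φ.tt, one_mul, map_mul,
    Complex.conj_ofNat]
  ring

theorem sectionClass_eq_zero (L : G → ℂ) {x : G} (hx : ∀ y ∈ Φ.U, ¬ IsConj (Φ.t * y) x) :
    Φ.sectionClass L x = 0 := by
  classical
  rw [KFrame.sectionClass]
  simp only [Φ.row_eq_coef hK]
  rw [Klein.value_eq_zero _ fun c hc e => ?_, mul_zero]
  obtain ⟨y, hy, rfl⟩ := Finset.mem_image.1 hc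
  exact hx y (Φ.mem_Uset.1 hy) e

theorem sum_sectionClass (L : G → ℂ) (χ : IrrCharacter G) :
    ∑ x : G, Φ.sectionClass L x * (χ : G → ℂ) x = (Nat.card G : ℂ) / 4 * Φ.row L χ := by
  simp only [KFrame.sectionClass, Finset.mul_sum, Finset.sum_mul]
  rw [Finset.sum_comm, Finset.sum_eq_single χ]
  · have h := Char.classInner_irr_self χ.2
    rw [classInner, inv_mul_eq_one₀ Char.card_cast_ne_zero] at h
    rw [h, Finset.sum_div, Finset.sum_mul]
    exact Finset.sum_congr rfl fun x _ => by ring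
  · intro η _ hne
    have h := Char.classInner_irr_ne χ.2 η.2 fun e => hne (Subtype.ext e.symm)
    rw [classInner, mul_eq_zero, or_iff_right (inv_ne_zero Char.card_cast_ne_zero)] at h
    rw [Finset.sum_congr rfl (g := fun x => (1 / 4 * Φ.row L η) * ((χ : G → ℂ) x * conj ((η : G → ℂ) x)))
      fun x _ => by ring, ← Finset.mul_sum, h, mul_zero]
  · exact fun h => absurd (Finset.mem_univ _) h

theorem isIntegral_sectionClass {L : G → ℂ} (hL : Φ.Invariant L) (hi : ∀ y ∈ Φ.U, IsIntegral ℤ (L y))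
    (x : G) : IsIntegral ℤ (Φ.sectionClass L x) := by
  by_cases h : ∃ y ∈ Φ.U, IsConj (Φ.t * y) x
  · obtain ⟨y, hy, hc⟩ := h
    obtain ⟨c, hc⟩ := isConj_iff.1 hc
    rw [← hc, hK.sectionClass_isClassFunction Φ L, hK.sectionClass_apply Φ hL hy]
    exact (hi y hy).map (starRingEnd ℂ).toIntAlgHom
  · rw [hK.sectionClass_eq_zero Φ L fun y hy hc => h ⟨y, hy, hc⟩]
    exact isIntegral_zero

/-- Off `U` and `t U` the class function is invariant under multiplication by `t`. -/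
theorem sectionClass_t_mul {L : G → ℂ} (hL : Φ.Invariant L)
    (hbal : ∀ w ∈ Φ.W, L (Φ.g⁻¹ * w * Φ.g) = L (Φ.g * w * Φ.g⁻¹)) {z : G} (hz : z ∈ Φ.C)
    (hzU : z ∉ Φ.U) (htz : Φ.t * z ∉ Φ.U) : Φ.sectionClass L (Φ.t * z) = Φ.sectionClass L z := by
  have key : ∀ z ∈ Φ.C, z ∉ Φ.U → Φ.t * z ∉ Φ.U → Φ.sectionClass L z ≠ 0 →
      Φ.sectionClass L (Φ.t * z) = Φ.sectionClass L z := by
    intro z hz hzU htz hne
    obtain ⟨y, hy, hc⟩ : ∃ y ∈ Φ.U, IsConj (Φ.t * y) z := by
      by_contra h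
      exact hne (hK.sectionClass_eq_zero Φ L fun y hy hc => h ⟨y, hy, hc⟩)
    obtain ⟨x, hx⟩ := isConj_iff.1 hc
    set i := x * Φ.t * x⁻¹ with hi
    have hio : orderOf i = 2 := by rw [hi, Cfsg.Lib.Invol.orderOf_conj_eq, Φ.ht]
    have hiC : i ∈ Φ.C := by
      have h := pow_mem hz (Nat.card Φ.U)
      rwa [← hx, conj_pow, Φ.pow_card y hy] at h
    set w := x * y * x⁻¹ with hw
    have hzw : z = i * w := by rw [← hx, hi, hw]; group
    have hwC : w ∈ Φ.C := by
      rw [show w = i⁻¹ * z by rw [hzw, inv_mul_cancel_left]]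
      exact mul_mem (inv_mem hiC) hz
    have hwU : w ∈ Φ.U := (hK.mem_U Φ).2 ⟨Φ.mem_C.1 hwC, by
      rw [hw, Cfsg.Lib.Invol.orderOf_conj_eq]; exact Φ.odd_of_mem hy⟩
    have hit : i ≠ Φ.t := fun e => htz (by rw [hzw, e, ← mul_assoc, Φ.tt, one_mul]; exact hwU)
    have hiw : Commute i w := fixed_conj (Φ.commute_t hy)
    obtain ⟨a, ha, hia⟩ := (hK.involution_cases Φ hio hiC).resolve_left hit
    set w' := a⁻¹ * w * a with hw'
    have hw'U : w' ∈ Φ.U := mul_mem (mul_mem (inv_mem ha) hwU) ha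
    have hwa : w = a * w' * a⁻¹ := by rw [hw']; group
    have hcl : ∀ s, Φ.sectionClass L (a * s * a⁻¹) = Φ.sectionClass L s :=
      fun s => hK.sectionClass_isClassFunction Φ L s a
    have hcg : ∀ h s, Φ.sectionClass L (h * s * h⁻¹) = Φ.sectionClass L s :=
      fun h s => hK.sectionClass_isClassFunction Φ L s h
    have hta : Φ.t * a = a * Φ.t := (Φ.commute_t ha).eq
    have hw'W : w' ∈ Φ.W := by
      refine (hK.mem_W Φ).2 ⟨Φ.commute_t hw'U, ?_, Φ.odd_of_mem hw'U⟩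
      have h1 : Commute (a⁻¹ * i * a) w' := by
        have := fixed_conj (h := a⁻¹) hiw
        rwa [inv_inv] at this
      rcases hia with e | e
      · rwa [show a⁻¹ * i * a = Φ.u by rw [e]; group] at h1
      · rw [show a⁻¹ * i * a = Φ.t * Φ.u by rw [e]; group] at h1
        have h2 := (Φ.commute_t hw'U).mul_left h1
        rwa [Φ.t_mul_v] at h2
    have vu : Φ.sectionClass L (Φ.u * w') = conj (L (Φ.g⁻¹ * w' * Φ.g)) := by
      rw [show Φ.u * w' = Φ.g * (Φ.t * (Φ.g⁻¹ * w' * Φ.g)) * Φ.g⁻¹ by rw [← Φ.gt]; group, hcg,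
        hK.sectionClass_apply Φ hL (Φ.W_le_U (hK.g_inv_conj_mem_W Φ hw'W))]
    have vv : Φ.sectionClass L (Φ.t * Φ.u * w') = conj (L (Φ.g * w' * Φ.g⁻¹)) := by
      rw [show Φ.t * Φ.u * w' = Φ.g⁻¹ * (Φ.t * (Φ.g * w' * Φ.g⁻¹)) * Φ.g⁻¹⁻¹ by rw [← Φ.gt']; group, hcg,
        hK.sectionClass_apply Φ hL (Φ.W_le_U (hK.g_conj_mem_W Φ hw'W))]
    rcases hia with e | e
    · rw [hzw, hwa, e, show a * Φ.u * a⁻¹ * (a * w' * a⁻¹) = a * (Φ.u * w') * a⁻¹ by group,
        show Φ.t * (a * (Φ.u * w') * a⁻¹) = a * (Φ.t * Φ.u * w') * a⁻¹ by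
          rw [← mul_assoc, ← mul_assoc, ← mul_assoc, hta]; group, hcl, hcl, vu, vv, hbal w' hw'W]
    · rw [hzw, hwa, e,
        show a * (Φ.t * Φ.u) * a⁻¹ * (a * w' * a⁻¹) = a * (Φ.t * Φ.u * w') * a⁻¹ by group,
        show Φ.t * (a * (Φ.t * Φ.u * w') * a⁻¹) = a * (Φ.t * (Φ.t * Φ.u) * w') * a⁻¹ by
          rw [← mul_assoc, ← mul_assoc, ← mul_assoc, hta]; group, hcl, hcl, Φ.t_mul_v, vu, vv,
        hbal w' hw'W]
  by_cases h0 : Φ.sectionClass L z = 0
  · by_cases h1 : Φ.sectionClass L (Φ.t * z) = 0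
    · rw [h0, h1]
    · have h := key (Φ.t * z) (mul_mem Φ.t_mem_C hz) htz (by rwa [← mul_assoc, Φ.tt, one_mul]) h1
      rwa [← mul_assoc, Φ.tt, one_mul, eq_comm] at h
  · exact key z hz hzU htz h0

open Classical in
/-- A character of `C` whose restriction to `U` avoids `L`. -/
theorem memLocalIdeal_of_avoid {M : Ideal AlgInt} (hM : IsPModular 2 M) {L : G → ℂ} (hL : Φ.Invariant L)
    (hi : ∀ y ∈ Φ.U, IsIntegral ℤ (L y))
    (hbal : ∀ w ∈ Φ.W, L (Φ.g⁻¹ * w * Φ.g) = L (Φ.g * w * Φ.g⁻¹))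
    (η : IrrCharacter Φ.C)
    (hav : ∑ z : Φ.C, (if (z : G) ∈ Φ.U then conj (L z) * (η : Φ.C → ℂ) z else 0) = 0) :
    MemLocalIdeal M (vec (fun z : Φ.C => Φ.sectionClass L (z : G)) η) := by
  obtain ⟨J, hJ⟩ : ∃ J : Φ.C, (J : G) = Φ.t := ⟨⟨Φ.t, Φ.t_mem_C⟩, rfl⟩
  have hJc : J ∈ Subgroup.center Φ.C := Subgroup.mem_center_iff.2 fun z => Subtype.ext (by
    rw [Subgroup.coe_mul, Subgroup.coe_mul, hJ]
    exact (Φ.mem_C.1 z.2).symm.eq)
  have hJJ : J * J = 1 := Subtype.ext (by rw [Subgroup.coe_mul, hJ, Φ.tt, OneMemClass.coe_one])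
  obtain ⟨f, hf⟩ : ∃ f : Φ.C → ℂ, f = fun z : Φ.C =>
      if (z : G) ∈ Φ.U ∨ Φ.t * (z : G) ∈ Φ.U then 0 else Φ.sectionClass L z := ⟨_, rfl⟩
  have hfJ : ∀ z : Φ.C, f (J * z) = f z := by
    intro z
    simp only [hf, Subgroup.coe_mul, hJ, ← mul_assoc Φ.t Φ.t, Φ.tt, one_mul]
    by_cases h : (z : G) ∈ Φ.U ∨ Φ.t * (z : G) ∈ Φ.U
    · rw [if_pos h, if_pos h.symm]
    · rw [if_neg h, if_neg fun h' => h h'.symm]
      rw [not_or] at h
      exact hK.sectionClass_t_mul Φ hL hbal z.2 h.1 h.2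
  obtain ⟨ε, hεo, hε⟩ := exists_central_scalar η hJc
  have hε2 : ε * ε = 1 := by
    obtain ⟨m, hm⟩ := orderOf_dvd_of_pow_eq_one (x := J) (n := 2) (by rw [pow_two, hJJ])
    rw [← pow_two, hm, pow_mul, hεo, one_pow]
  have hregular : ∀ z ∈ Φ.U, Φ.sectionClass L z = 0 := fun z hz => hK.sectionClass_eq_zero Φ L
    fun y hy hc => by
      obtain ⟨x, hx⟩ := isConj_iff.1 hc
      have h : z ^ Nat.card Φ.U = x * Φ.t * x⁻¹ := by rw [← hx, conj_pow, Φ.pow_card y hy]
      rw [orderOf_dvd_iff_pow_eq_one.1 (Subgroup.orderOf_dvd_natCard _ hz)] at h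
      exact Cfsg.Lib.Invol.ne_one Φ.ht (conj_eq_one_iff.1 h.symm)
  have hsplit : ∑ z : Φ.C, Φ.sectionClass L (z : G) * (η : Φ.C → ℂ) z = ∑ z : Φ.C, f z * (η : Φ.C → ℂ) z := by
    have hrest : ∀ z : Φ.C, Φ.sectionClass L (z : G) * (η : Φ.C → ℂ) z = f z * (η : Φ.C → ℂ) z +
        (if Φ.t * (z : G) ∈ Φ.U then conj (L (Φ.t * z)) * (η : Φ.C → ℂ) z else 0) := by
      intro z
      simp only [hf]
      by_cases h0 : Φ.t * (z : G) ∈ Φ.U
      · rw [if_pos (Or.inr h0), if_pos h0, zero_mul, zero_add]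
        have h := hK.sectionClass_apply Φ hL h0
        rw [← mul_assoc, Φ.tt, one_mul] at h
        rw [h]
      · by_cases h1 : (z : G) ∈ Φ.U
        · rw [if_pos (Or.inl h1), if_neg h0, hregular _ h1, add_zero]
        · rw [if_neg (by tauto), if_neg h0, add_zero]
    rw [Finset.sum_congr rfl fun z _ => hrest z, Finset.sum_add_distrib, add_eq_left]
    rw [← Equiv.sum_comp (Equiv.mulLeft J)]
    rw [Finset.sum_congr rfl (g := fun z : Φ.C => ε *
      (if (z : G) ∈ Φ.U then conj (L z) * (η : Φ.C → ℂ) z else 0)) fun z _ => ?_,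
      ← Finset.mul_sum, hav, mul_zero]
    rw [Equiv.coe_mulLeft, Subgroup.coe_mul, hJ, ← mul_assoc, Φ.tt, one_mul, hε z]
    split_ifs <;> ring
  rw [vec, hsplit]
  by_cases hε1 : ε = 1
  · haveI hN : (Subgroup.zpowers J).Normal := ⟨fun n hn g => by
      have hc : n ∈ Subgroup.center Φ.C := Subgroup.zpowers_le.2 hJc hn
      rwa [Subgroup.mem_center_iff.1 hc g, mul_inv_cancel_right]⟩
    have hNmem : ∀ n ∈ Subgroup.zpowers J, n = 1 ∨ n = J := by
      intro n hn
      obtain ⟨k, hk⟩ := (IsOfFinOrder.mem_powers_iff_mem_zpowers (isOfFinOrder_of_finite J)).2 hn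
      rw [← hk]
      obtain ⟨m, rfl | rfl⟩ := Nat.even_or_odd' k
      · left; simp [pow_mul, pow_two, hJJ]
      · right; simp [pow_succ, pow_mul, pow_two, hJJ]
    have hηJ : ∀ z : Φ.C, (η : Φ.C → ℂ) (J * z) = (η : Φ.C → ℂ) z := fun z => by rw [hε z, hε1, one_mul]
    obtain ⟨η', hη', hηη⟩ := Char.exists_deflate_irr (Subgroup.zpowers J) η.2 fun n hn => by
      rcases hNmem n hn with rfl | rfl
      · rfl
      · simpa using hηJ 1
    obtain ⟨f', hf'⟩ : ∃ f' : Φ.C ⧸ Subgroup.zpowers J → ℂ, f' = fun q => f q.out := ⟨_, rfl⟩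
    have hff : ∀ z : Φ.C, f' (z : Φ.C ⧸ Subgroup.zpowers J) = f z := by
      intro z
      obtain ⟨n, hn⟩ := QuotientGroup.mk_out_eq_mul (Subgroup.zpowers J) z
      rw [hf']
      show f _ = _
      rw [hn]
      rcases hNmem _ n.2 with e | e <;> rw [e]
      · rw [mul_one]
      · rw [Subgroup.mem_center_iff.1 hJc z, hfJ]
    have hfc : ∀ z x : Φ.C, f (x * z * x⁻¹) = f z := by
      intro z x
      simp only [hf, Subgroup.coe_mul, InvMemClass.coe_inv]
      have e1 : (x : G) * z * (x : G)⁻¹ ∈ Φ.U ↔ (z : G) ∈ Φ.U :=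
        (mem_normalizer_iff.1 (Φ.C_le_normalizer_U x.2) z).symm
      have e2 : Φ.t * ((x : G) * z * (x : G)⁻¹) ∈ Φ.U ↔ Φ.t * (z : G) ∈ Φ.U := by
        rw [← Φ.conj_t x.2]
        exact (mem_normalizer_iff.1 (Φ.C_le_normalizer_U x.2) _).symm
      simp only [e1, e2]
      split_ifs with h
      · rfl
      · exact hK.sectionClass_isClassFunction Φ L z x
    have hfi : ∀ z : Φ.C, IsIntegral ℤ (f z) := fun z => by
      simp only [hf]
      split_ifs
      · exact isIntegral_zero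
      · exact hK.isIntegral_sectionClass Φ hL hi _
    have hv := Twist.isIntegral_vec (f := f') (fun q r => by
        obtain ⟨a, rfl⟩ := QuotientGroup.mk_surjective q
        obtain ⟨b, rfl⟩ := QuotientGroup.mk_surjective r
        rw [← QuotientGroup.mk_inv, ← QuotientGroup.mk_mul, ← QuotientGroup.mk_mul, hff, hff, hfc])
      (fun q => by rw [hf']; exact hfi _) ⟨η', hη'⟩
    have hcard : Nat.card (Subgroup.zpowers J) = 2 := by
      rw [Nat.card_zpowers, orderOf_eq_prime (by rw [pow_two, hJJ]) fun e =>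
        Cfsg.Lib.Invol.ne_one Φ.ht (by rw [← hJ, e, OneMemClass.coe_one])]
    have e2 : ∑ z : Φ.C, f z * (η : Φ.C → ℂ) z =
        2 * ∑ q : Φ.C ⧸ Subgroup.zpowers J, f' q * η' q := by
      rw [← Finset.sum_fiberwise Finset.univ (fun z : Φ.C => (z : Φ.C ⧸ Subgroup.zpowers J)),
        Finset.mul_sum]
      refine Finset.sum_congr rfl fun q _ => ?_
      rw [Finset.sum_congr rfl (g := fun _ => f' q * η' q) fun z hz => by
        rw [← (Finset.mem_filter.1 hz).2, hff, hηη], Finset.sum_const, nsmul_eq_mul]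
      congr 1
      obtain ⟨a, rfl⟩ := QuotientGroup.mk_surjective q
      have : (Finset.univ.filter fun z : Φ.C =>
          (z : Φ.C ⧸ Subgroup.zpowers J) = (a : Φ.C ⧸ Subgroup.zpowers J)).card = 2 := by
        rw [← hcard, ← Nat.card_eq_finsetCard]
        exact Nat.card_congr
          { toFun := fun z => ⟨a⁻¹ * z, QuotientGroup.eq.1 (Finset.mem_filter.1 z.2).2.symm⟩
            invFun := fun n => ⟨a * n, Finset.mem_filter.2 ⟨Finset.mem_univ _,
              (QuotientGroup.eq.2 (by simp)).symm⟩⟩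
            left_inv := fun z => Subtype.ext (mul_inv_cancel_left a (z : Φ.C))
            right_inv := fun n => Subtype.ext (inv_mul_cancel_left a (n : Φ.C)) }
      rw [this, Nat.cast_ofNat]
    have h2 : MemLocalIdeal M ((2 : ℕ) : ℂ) := (memLocalIdeal_natCast_iff hM 2).2 dvd_rfl
    rw [e2, ← hηη 1, mul_div_assoc]
    rw [Nat.cast_ofNat] at h2
    exact memLocalIdeal_mul_right hM h2 (isIntegral_mem_locRing hM hv)
  · have hεm : ε = -1 := by
      have : (ε - 1) * (ε + 1) = 0 := by linear_combination hε2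
      rcases mul_eq_zero.1 this with e | e
      · exact absurd (sub_eq_zero.1 e) hε1
      · exact eq_neg_of_add_eq_zero_left e
    have h0 : ∑ z : Φ.C, f z * (η : Φ.C → ℂ) z = 0 := by
      have e := Equiv.sum_comp (Equiv.mulLeft J) fun z : Φ.C => f z * (η : Φ.C → ℂ) z
      simp only [Equiv.coe_mulLeft, hfJ, hε, hεm] at e
      rw [Finset.sum_congr rfl (g := fun z : Φ.C => -(f z * (η : Φ.C → ℂ) z)) fun z _ => by ring,
        Finset.sum_neg_distrib] at e
      linear_combination (-1 / 2 : ℂ) * e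
    rw [h0, zero_div]
    exact memLocalIdeal_zero hM

open Classical in
/-- A character of `C` meeting a member of the family restricts to `U` as a multiple of it. -/
theorem eq_mul_of_not_avoid {θ : G → ℂ} (hθ : Φ.Invariant θ)
    (hirr : IsIrrCharacter ↥Φ.U (fun y : ↥Φ.U => θ y)) (η : IrrCharacter Φ.C)
    (hav : ∑ z : Φ.C, (if (z : G) ∈ Φ.U then conj (θ z) * (η : Φ.C → ℂ) z else 0) ≠ 0) :
    ∃ c : ℂ, ∀ z : Φ.C, (z : G) ∈ Φ.U → (η : Φ.C → ℂ) z = c * θ z := by
  let U' : Subgroup Φ.C := Φ.U.subgroupOf Φ.C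
  haveI hUn : U'.Normal := ⟨fun n hn g => mem_subgroupOf.2 (Φ.conj_mem_U g.2 (mem_subgroupOf.1 hn))⟩
  let e : U' ≃* Φ.U := subgroupOfEquivOfLe Φ.U_le_C
  have hirr' : IsIrrCharacter U' (fun c : U' => θ (((c : Φ.C)) : G)) :=
    Char.isIrrCharacter_comp_equiv e hirr
  have hne : classInner (fun c : U' => (η : Φ.C → ℂ) c) (fun c : U' => θ (((c : Φ.C)) : G)) ≠ 0 := by
    intro h
    refine hav ?_
    rw [classInner, mul_eq_zero, or_iff_right (inv_ne_zero Char.card_cast_ne_zero)] at h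
    rw [← Finset.sum_filter, Finset.sum_subtype (p := (· ∈ U'))
      (F := (inferInstance : Fintype U')) _ (fun c => by simp [U', mem_subgroupOf]), ← h]
    exact Finset.sum_congr rfl fun c _ => by ring
  have horb : Char.twistOrbit U' (fun c : U' => θ (((c : Φ.C)) : G)) =
      {fun c : U' => θ (((c : Φ.C)) : G)} := by
    refine Finset.eq_singleton_iff_unique_mem.2 ⟨Char.self_mem_twistOrbit U' _, fun φ hφ => ?_⟩
    obtain ⟨g, rfl⟩ := (Char.mem_twistOrbit U').1 hφ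
    funext c
    exact hθ g g.2 _ (mem_subgroupOf.1 c.2)
  have hres := Char.clifford_res U' η.2 hirr' hne
  rw [horb, Finset.sum_singleton] at hres
  exact ⟨_, fun z hz => congrFun hres ⟨z, mem_subgroupOf.2 hz⟩⟩

/-- The values on the section. -/
theorem section_values {θ : ι → G → ℂ} (hθ : Φ.Family θ) (χ : IrrCharacter G) (N : ι → ℤ)
    (hN : ∀ i, Φ.row (θ i) χ = N i) (hodd : Odd (∑ i, N i)) {y : G} (hy : y ∈ Φ.U) :
    (χ : G → ℂ) (Φ.t * y) = ∑ i, (N i : ℂ) * θ i y := by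
  classical
  haveI : Fact (Nat.Prime 2) := ⟨Nat.prime_two⟩
  obtain ⟨M, hM⟩ := exists_isPModular Nat.prime_two
  have hU0 : (Nat.card Φ.U : ℂ) ≠ 0 := Nat.cast_ne_zero.2 Nat.card_pos.ne'
  set L : G → ℂ := fun x => ∑ i, θ i x with hLdef
  have hL : Φ.Invariant L := fun k hk z hz => Finset.sum_congr rfl fun i _ => hθ.inv i k hk z hz
  have hi : ∀ z ∈ Φ.U, IsIntegral ℤ (L z) := fun z hz =>
    IsIntegral.sum _ fun i _ => (hθ.irr i).isCharacter.isIntegral ⟨z, hz⟩
  have hrow : Φ.row L χ = ((∑ i, N i : ℤ) : ℂ) := by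
    push_cast
    simp only [← hN, KFrame.row, hLdef, map_sum, Finset.mul_sum]
    rw [Finset.sum_comm]
  obtain ⟨d, hd⟩ : ∃ d, d = charDegree (χ : G → ℂ) := ⟨_, rfl⟩
  have hd0 : d ≠ 0 := hd ▸ (charDegree_pos χ).ne'
  obtain ⟨q, hq⟩ : ∃ q : ℤ, q = (Φ.C.index : ℤ) * (Nat.card Φ.U : ℤ) * (∑ i, N i) := ⟨_, rfl⟩
  have hfc := hK.sectionClass_isClassFunction Φ L
  have hfi := fun g => hK.isIntegral_sectionClass Φ hL hi g
  have hvec : vec (Φ.sectionClass L) χ = (q : ℂ) / (d : ℂ) := by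
    rw [vec, hK.sum_sectionClass Φ, Block.apply_one_eq_charDegree, ← hd, hrow, hq]
    have h1 : (Nat.card G : ℂ) = (Φ.C.index : ℂ) * (4 * (Nat.card Φ.U : ℂ)) := by
      rw [← index_mul_card Φ.C, hK.card_C Φ]
      push_cast
      ring
    rw [h1]
    push_cast
    ring
  have hdvd : (d : ℤ) ∣ q := by
    have hint := Twist.isIntegral_vec hfc hfi χ
    rw [hvec] at hint
    have h' : IsIntegral ℤ (((q : ℚ) / (d : ℚ) : ℚ) : ℂ) := by push_cast; exact hint
    obtain ⟨m, hm⟩ := Char.exists_int_of_isIntegral_rat h'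
    rw [div_eq_iff (Nat.cast_ne_zero.2 hd0)] at hm
    exact ⟨m, by rw [mul_comm]; exact_mod_cast hm⟩
  obtain ⟨m, hm⟩ := hdvd
  have hidx : Odd Φ.C.index := by
    obtain ⟨P, -, hP⟩ := hK.exists_kleinCond Φ
    rw [← Nat.not_even_iff_odd, even_iff_two_dvd]
    exact fun h => P.not_dvd_index (h.trans (index_dvd_of_le (hP ▸ Φ.V_le_C)))
  have hmodd : Odd m := by
    have : Odd q := hq ▸ (((Int.odd_coe_nat _).2 hidx).mul ((Int.odd_coe_nat _).2 Φ.odd_card_U)).mul hodd
    rw [hm] at this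
    exact (Int.odd_mul.1 this).2
  have hunit : ¬MemLocalIdeal M (vec (Φ.sectionClass L) χ) := by
    rw [hvec, show ((q : ℤ) : ℂ) / (d : ℂ) = (m : ℂ) by
      rw [hm]; push_cast; rw [mul_div_cancel_left₀ _ (Nat.cast_ne_zero.2 hd0)]]
    intro hmem
    have h2 : MemLocalIdeal M ((m.natAbs : ℕ) : ℂ) := by
      rcases Int.natAbs_eq m with e | e
      · rw [e] at hmem; simpa using hmem
      · rw [e] at hmem
        simpa using memLocalIdeal_neg hM hmem
    rw [memLocalIdeal_natCast_iff hM] at h2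
    obtain ⟨c, hc⟩ := Int.natAbs_odd.2 hmodd
    omega
  have hu : ∃ k : ℕ, orderOf Φ.t = 2 ^ k := ⟨1, by rw [Φ.ht, pow_one]⟩
  have hHu : ∀ z : Φ.C, Commute Φ.t (z : G) := fun z => Φ.mem_C.1 z.2
  have hB := isPBlock_blockOf (M := M) χ
  set B := (indSet M Φ.C (blockOf M (χ : G → ℂ))).toFinset with hBdef
  have hspan : ∀ η ∈ B, ∃ c : ι → ℂ, ∀ z : Φ.C, (z : G) ∈ Φ.U → (η : Φ.C → ℂ) z = ∑ i, c i * θ i z := by
    intro η hη
    by_cases hsome : ∃ i, ∑ z : Φ.C, (if (z : G) ∈ Φ.U then conj (θ i z) * (η : Φ.C → ℂ) z else 0) ≠ 0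
    · obtain ⟨i, hne⟩ := hsome
      obtain ⟨c, hc⟩ := hK.eq_mul_of_not_avoid Φ (hθ.inv i) (hθ.irr i) η hne
      exact ⟨fun j => if j = i then c else 0, fun z hz => by simp [hc z hz, ite_mul]⟩
    · push Not at hsome
      exfalso
      refine hunit ?_
      have hav : ∑ z : Φ.C, (if (z : G) ∈ Φ.U then conj (L z) * (η : Φ.C → ℂ) z else 0) = 0 := by
        rw [Finset.sum_congr rfl (g := fun z : Φ.C => ∑ i,
          (if (z : G) ∈ Φ.U then conj (θ i z) * (η : Φ.C → ℂ) z else 0)) fun z _ => by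
            split_ifs <;> simp [hLdef, map_sum, Finset.sum_mul], Finset.sum_comm]
        exact Finset.sum_eq_zero fun i _ => hsome i
      have h1 := hK.memLocalIdeal_of_avoid Φ hM hL hi hθ.balanced η hav
      have h2 := Twist.memLocalIdeal_vec_sub hM
        (Set.mem_toFinset.1 hη : η ∈ indSet M Φ.C (blockOf M (χ : G → ℂ)))
        (self_mem_blockOf hM η) (self_mem_blockOf hM χ) hfc hfi
      have := memLocalIdeal_sub hM h1 h2
      rwa [sub_sub_cancel] at this
  choose! c hc using hspan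
  obtain ⟨b, hb⟩ : ∃ b : ι → ℂ, b = fun i =>
      ∑ η ∈ B, classInner (secFn Φ.t Φ.C (χ : G → ℂ)) (η : Φ.C → ℂ) * c η i := ⟨_, rfl⟩
  have hall : ∀ z ∈ Φ.U, (χ : G → ℂ) (Φ.t * z) = ∑ i, b i * θ i z := by
    intro z hz
    have hr : IsPRegular 2 (⟨z, Φ.U_le_C hz⟩ : Φ.C) := by
      rw [IsPRegular, ← Subgroup.orderOf_coe]
      exact hK.isPRegular_of_mem Φ hz
    have e := blockPart_indSet hM hu hHu le_rfl hB χ hr
    rw [if_pos (self_mem_blockOf hM χ)] at e
    rw [← e, blockPart, finsum_mem_eq_toFinset_sum, hb]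
    simp only [Finset.sum_mul]
    rw [Finset.sum_comm]
    refine Finset.sum_congr rfl fun η hη => ?_
    rw [hc η hη ⟨z, Φ.U_le_C hz⟩ hz, Finset.mul_sum]
    exact Finset.sum_congr rfl fun i _ => by ring
  have hbN : ∀ j, b j = N j := fun j => by
    rw [← hN j, KFrame.row, Finset.sum_congr rfl fun z hz => by
      rw [hall z (Φ.mem_Uset.1 hz), Finset.sum_mul], Finset.sum_comm, Finset.sum_eq_single j]
    · simp only [mul_assoc]
      rw [← Finset.mul_sum, Φ.family_self hθ j]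
      field_simp
    · intro i _ hne
      simp only [mul_assoc]
      rw [← Finset.mul_sum, hθ.orth i j hne, mul_zero]
    · exact fun h => absurd (Finset.mem_univ _) h
  rw [hall y hy]
  exact Finset.sum_congr rfl fun i _ => by rw [hbN]

end KMin

end Cfsg.Lib.GW
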