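import Cfsg.Agent.Lib.GW.Klein.HeiCoord
import Cfsg.Agent.Lib.GW.Klein.Section
import Cfsg.Agent.Lib.GW.Klein.Arith
import Cfsg.Agent.Lib.Char.FixedChar

/-!
# Gorenstein–Walter, Sylow four groups: the character of degree `|U : F|` in the Heisenberg configuration

`θ` is induced from the linear character of `F` with kernel `⟨e⟩ Z`. Its row consists of four signs, and the
weighted sum of the signs is governed by the principal block.
-/

set_option autoImplicit false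
set_option linter.style.haveILetI false
set_option linter.unusedSectionVars false

namespace Cfsg.Lib.GW

open Cfsg Subgroup
open Cfsg.Lib.Block (trivChar charDegree_pos)
open scoped ComplexConjugate

universe u

noncomputable local instance (priority := high) fintypeSubgroupHeiTheta {A : Type u}
    [Group A] [Fintype A] (H : Subgroup A) : Fintype H := Fintype.ofFinite H

variable {G : Type u} [Group G] [Fintype G]

/-- A class function of `U` fixed by `u` is fixed by `C`. -/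
theorem KMin.invariant_of (hK : KMin G) (Φ : KFrame G) {f : G → ℂ}
    (hU : ∀ a ∈ Φ.U, ∀ y ∈ Φ.U, f (a * y * a⁻¹) = f y) (hu : ∀ y ∈ Φ.U, f (Φ.u * y * Φ.u) = f y) :
    Φ.Invariant f := by
  intro k hk y hy
  have hui := Cfsg.Lib.Invol.inv_eq_self Φ.hu
  have hti := Cfsg.Lib.Invol.inv_eq_self Φ.ht
  obtain ⟨v, hv, a, ha, rfl⟩ := hK.exists_mul_of_mem_C Φ hk
  set z := a * y * a⁻¹ with hz
  have hzU : z ∈ Φ.U := mul_mem (mul_mem ha hy) (inv_mem ha)
  have hfix : Φ.t * z * Φ.t = z := by rw [(Φ.commute_t hzU).eq, mul_assoc, Φ.tt, mul_one]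
  rw [show v * a * y * (v * a)⁻¹ = v * z * v⁻¹ by rw [hz]; group]
  have hfz : f z = f y := hU a ha y hy
  by_cases hv1 : v = 1
  · simpa [hv1] using hfz
  rcases Φ.V_cases hv hv1 with rfl | rfl | rfl
  · rw [hti, hfix, hfz]
  · rw [hui, hu z hzU, hfz]
  · rw [mul_inv_rev, hui, hti, show Φ.t * Φ.u * z * (Φ.u * Φ.t) = Φ.t * (Φ.u * z * Φ.u) * Φ.t by group,
      (Φ.commute_t (Φ.u_conj_mem hzU)).eq, mul_assoc, Φ.tt, mul_one, hu z hzU, hfz]

theorem KFrame.sum_Uset (Φ : KFrame G) (f : G → ℂ) : ∑ y ∈ Φ.Uset, f y = ∑ y : Φ.U, f y :=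
  Finset.sum_subtype (p := (· ∈ Φ.U)) Φ.Uset (fun _ => Φ.mem_Uset) f

namespace KFrame.Hei

variable {Φ : KFrame G} {q : ℕ} (h : Φ.Hei q)

theorem Z_conj (h : Φ.Hei q) (hK : KMin G) {k z : G} (hk : k ∈ Φ.C) (hz : z ∈ h.Z) :
    k * z * k⁻¹ = z ∨ k * z * k⁻¹ = z⁻¹ := by
  obtain ⟨v, hv, a, ha, rfl⟩ := hK.exists_mul_of_mem_C Φ hk
  rw [show v * a * z * (v * a)⁻¹ = v * (a * z * a⁻¹) * v⁻¹ by group, (h.Z_central z hz a ha).eq,
    mul_inv_cancel_right]
  have hui := Cfsg.Lib.Invol.inv_eq_self Φ.hu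
  have hti := Cfsg.Lib.Invol.inv_eq_self Φ.ht
  by_cases hv1 : v = 1
  · simp [hv1]
  rcases Φ.V_cases hv hv1 with rfl | rfl | rfl
  · exact Or.inl (by rw [(Φ.commute_t (h.Z_le_U hz)).eq, mul_inv_cancel_right])
  · exact Or.inr (by rw [hui, h.Z_inv z hz])
  · refine Or.inr ?_
    rw [mul_inv_rev, hui, hti, show Φ.t * Φ.u * z * (Φ.u * Φ.t) = Φ.t * (Φ.u * z * Φ.u) * Φ.t by group,
      h.Z_inv z hz, (Φ.commute_t (inv_mem (h.Z_le_U hz))).eq, mul_assoc, Φ.tt, mul_one]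

theorem co_pow (h : Φ.Hei q) {x : G} (hx : x ∈ h.F) (n : ℕ) : h.co (x ^ n) = n • h.co x := by
  induction n with
  | zero => rw [pow_zero, zero_smul, h.co_mem_Z (one_mem _)]
  | succ n ih => rw [pow_succ, h.co_mul (pow_mem hx n) hx, ih, succ_nsmul]

open Classical in
/-- The linear character of `F` with kernel `⟨e⟩ Z`. -/
noncomputable def psi (h : Φ.Hei q) (x : G) : ℂ :=
  haveI : NeZero q := ⟨h.prime.ne_zero⟩
  if x ∈ h.F then ZMod.stdAddChar (h.co x).2 else 0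

theorem psi_of_mem (h : Φ.Hei q) [NeZero q] {x : G} (hx : x ∈ h.F) :
    h.psi x = ZMod.stdAddChar (h.co x).2 := if_pos hx

theorem psi_eq_zero (h : Φ.Hei q) {x : G} (hx : x ∉ h.F) : h.psi x = 0 := if_neg hx

theorem psi_mul (h : Φ.Hei q) {x y : G} (hx : x ∈ h.F) (hy : y ∈ h.F) : h.psi (x * y) = h.psi x * h.psi y := by
  haveI : NeZero q := ⟨h.prime.ne_zero⟩
  rw [h.psi_of_mem (mul_mem hx hy), h.psi_of_mem hx, h.psi_of_mem hy, h.co_mul hx hy, Prod.snd_add,
    AddChar.map_add_eq_mul]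

theorem psi_one (h : Φ.Hei q) : h.psi 1 = 1 := by
  haveI : NeZero q := ⟨h.prime.ne_zero⟩
  rw [h.psi_of_mem (one_mem _), h.co_mem_Z (one_mem _), Prod.snd_zero, AddChar.map_zero_eq_one]

theorem psi_u (h : Φ.Hei q) (x : G) : h.psi (Φ.u * x * Φ.u) = h.psi x := by
  haveI : NeZero q := ⟨h.prime.ne_zero⟩
  have hiff : Φ.u * x * Φ.u ∈ h.F ↔ x ∈ h.F := by
    have := (mem_normalizer_iff.1 (h.F_normal Φ.u_mem_C) x).symm
    rwa [Cfsg.Lib.Invol.inv_eq_self Φ.hu] at this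
  by_cases hx : x ∈ h.F
  · rw [h.psi_of_mem (hiff.2 hx), h.psi_of_mem hx, h.co_u hx]
  · rw [h.psi_eq_zero hx, h.psi_eq_zero (fun h' => hx (hiff.1 h'))]

/-- The induced character. -/
noncomputable def theta (h : Φ.Hei q) (y : G) : ℂ :=
  (Nat.card h.F : ℂ)⁻¹ * ∑ x ∈ Φ.Uset, h.psi (x⁻¹ * y * x)

theorem theta_eq_zero (h : Φ.Hei q) {y : G} (hy : y ∉ h.F) : h.theta y = 0 := by
  rw [theta, Finset.sum_eq_zero fun x hx => h.psi_eq_zero fun hmem => hy ?_, mul_zero]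
  have := h.conj_mem_F (Φ.U_le_C (Φ.mem_Uset.1 hx)) hmem
  rwa [show x * (x⁻¹ * y * x) * x⁻¹ = y by group] at this

theorem theta_one (h : Φ.Hei q) : h.theta 1 = (h.F.relIndex Φ.U : ℂ) := by
  rw [theta, Finset.sum_congr rfl (g := fun _ => (1 : ℂ)) fun x _ => by rw [mul_one, inv_mul_cancel, h.psi_one],
    Finset.sum_const, nsmul_eq_mul, mul_one, Φ.card_Uset,
    ← Cfsg.Lib.Core.card_mul_relIndex h.F_le, Nat.cast_mul, inv_mul_cancel_left₀]
  exact Nat.cast_ne_zero.2 Nat.card_pos.ne'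

theorem theta_invariant (h : Φ.Hei q) (hK : KMin G) : Φ.Invariant h.theta := by
  refine hK.invariant_of Φ (fun a ha y _ => ?_) (fun y _ => ?_)
  · simp only [theta]
    congr 1
    refine Finset.sum_bij' (fun x _ => a⁻¹ * x) (fun x _ => a * x) ?_ ?_ ?_ ?_ ?_
    · exact fun x hx => Φ.mem_Uset.2 (mul_mem (inv_mem ha) (Φ.mem_Uset.1 hx))
    · exact fun x hx => Φ.mem_Uset.2 (mul_mem ha (Φ.mem_Uset.1 hx))
    · exact fun x _ => mul_inv_cancel_left a x
    · exact fun x _ => inv_mul_cancel_left a x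
    · intro x _; congr 1; group
  · simp only [theta]
    congr 1
    refine Finset.sum_bij' (fun x _ => Φ.u * x * Φ.u) (fun x _ => Φ.u * x * Φ.u) ?_ ?_ ?_ ?_ ?_
    · exact fun x hx => Φ.mem_Uset.2 (Φ.u_conj_mem (Φ.mem_Uset.1 hx))
    · exact fun x hx => Φ.mem_Uset.2 (Φ.u_conj_mem (Φ.mem_Uset.1 hx))
    · intro x _; rw [show Φ.u * (Φ.u * x * Φ.u) * Φ.u = (Φ.u * Φ.u) * x * (Φ.u * Φ.u) by group, Φ.uu, one_mul, mul_one]
    · intro x _; rw [show Φ.u * (Φ.u * x * Φ.u) * Φ.u = (Φ.u * Φ.u) * x * (Φ.u * Φ.u) by group, Φ.uu, one_mul, mul_one]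
    · intro x _
      have hui := Cfsg.Lib.Invol.inv_eq_self Φ.hu
      rw [← h.psi_u ((Φ.u * x * Φ.u)⁻¹ * y * (Φ.u * x * Φ.u)), mul_inv_rev, mul_inv_rev, hui,
        show Φ.u * (Φ.u * (x⁻¹ * Φ.u) * y * (Φ.u * x * Φ.u)) * Φ.u =
          (Φ.u * Φ.u) * x⁻¹ * (Φ.u * y * Φ.u) * x * (Φ.u * Φ.u) by group, Φ.uu, one_mul, mul_one]

theorem theta_irr (h : Φ.Hei q) : IsIrrCharacter ↥Φ.U (fun y : ↥Φ.U => h.theta y) := by
  classical
  haveI : NeZero q := ⟨h.prime.ne_zero⟩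
  let Fu : Subgroup ↥Φ.U := h.F.subgroupOf Φ.U
  haveI hn : Fu.Normal := ⟨fun n hn a => mem_subgroupOf.2 (h.conj_mem_F (Φ.U_le_C a.2) (mem_subgroupOf.1 hn))⟩
  have hne : ∀ x : Fu, h.psi ((x : ↥Φ.U) : G) ≠ 0 := fun x e => by
    have := h.psi_mul (mem_subgroupOf.1 x.2) (inv_mem (mem_subgroupOf.1 x.2))
    rw [e, zero_mul, mul_inv_cancel, h.psi_one] at this
    exact one_ne_zero this
  let f : Fu →* ℂˣ := MonoidHom.mk' (fun x => Units.mk0 _ (hne x))
    fun a b => Units.ext (h.psi_mul (mem_subgroupOf.1 a.2) (mem_subgroupOf.1 b.2))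
  have hirr : IsIrrCharacter Fu (fun x : Fu => h.psi ((x : ↥Φ.U) : G)) := Char.isIrrCharacter_linear f
  have hI : Char.inertia Fu (fun x : Fu => h.psi ((x : ↥Φ.U) : G)) = Fu := by
    refine le_antisymm (fun a ha => mem_subgroupOf.2 ?_) (Char.le_inertia Fu hirr.isClassFunction)
    have h1 := (Char.mem_inertia_iff Fu).1 ha ⟨⟨h.e, h.F_le h.e_mem⟩, mem_subgroupOf.2 h.e_mem⟩
    simp only [Subgroup.coe_mul, Subgroup.coe_inv] at h1
    have hc := h.conj_mem_F (Φ.U_le_C a.2) h.e_mem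
    have he0 : (h.co h.e).2 = 0 := by
      have := h.co_eq (i := 1) (j := 0) (one_mem h.Z)
      rw [pow_one, pow_zero, mul_one, mul_one] at this
      rw [this, Nat.cast_zero]
    rw [h.psi_of_mem hc, h.psi_of_mem h.e_mem, he0] at h1
    have h2 := ZMod.injective_stdAddChar h1
    obtain ⟨z, hz, hrep⟩ := h.exists_eq_rep hc
    refine h.line_e a a.2 ⟨(h.co ((a : G) * h.e * (a : G)⁻¹)).1.val, z, hz, ?_⟩
    refine hrep.trans ?_
    rw [rep, h2, ZMod.val_zero, pow_zero, mul_one]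
  have := Char.isIrrCharacter_indFun_of_inertia Fu hirr hI
  convert this using 1
  funext y
  have hcard : Nat.card Fu = Nat.card h.F := Nat.card_congr (subgroupOfEquivOfLe h.F_le).toEquiv
  simp only [indFun, theta, hcard]
  congr 1
  rw [Φ.sum_Uset]
  refine Finset.sum_congr rfl fun x _ => ?_
  by_cases hm : x⁻¹ * y * x ∈ Fu
  · rw [Char.extendByZero_of_mem Fu _ hm]
    rfl
  · rw [Char.extendByZero_of_notMem Fu _ hm]
    exact h.psi_eq_zero fun h' => hm (mem_subgroupOf.2 h')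

theorem theta_sum (h : Φ.Hei q) : ∑ y ∈ Φ.Uset, h.theta y = 0 := by
  have hne : (fun y : ↥Φ.U => h.theta y) ≠ fun _ => 1 := fun e => by
    have h1 := congrFun e 1
    simp only [OneMemClass.coe_one, h.theta_one, Nat.cast_eq_one] at h1
    have := h.index_gt
    omega
  have := Char.classInner_irr_ne h.theta_irr Char.isIrrCharacter_one hne
  rw [Char.classInner_one_right, mul_eq_zero, or_iff_right (inv_ne_zero Char.card_cast_ne_zero)] at this
  rw [Φ.sum_Uset, this]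

open Classical in
theorem sum_Iset (h : Φ.Hei q) :
    ∑ y ∈ Φ.Iset, h.theta y = (q : ℂ) * (Nat.card h.Z : ℂ) := by
  haveI : NeZero q := ⟨h.prime.ne_zero⟩
  haveI : Fact q.Prime := ⟨h.prime⟩
  let emb : ZMod q × h.Z → G := fun p => h.rep (p.1, 0) * (p.2 : G)
  have hmemI : ∀ p, emb p ∈ Φ.Iset.filter (· ∈ h.F) := by
    intro p
    have hF : emb p ∈ h.F := mul_mem (h.rep_mem _) (h.Z_le p.2.2)
    refine Finset.mem_filter.2 ⟨Φ.mem_Iset.2 ⟨h.F_le hF, ?_⟩, hF⟩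
    have hr : h.rep (p.1, 0) = h.e ^ p.1.val := by simp [rep]
    have hui := Cfsg.Lib.Invol.inv_eq_self Φ.hu
    have h1 := pow_conj_inv (a := Φ.u) (b := h.e) (c := h.e⁻¹) (by rw [hui]; exact h.e_inv) p.1.val
    rw [hui] at h1
    calc Φ.u * emb p * Φ.u = (Φ.u * h.e ^ p.1.val * Φ.u) * (Φ.u * (p.2 : G) * Φ.u) := by
          show Φ.u * (h.rep (p.1, 0) * (p.2 : G)) * Φ.u = _
          rw [hr, show (Φ.u * h.e ^ p.1.val * Φ.u) * (Φ.u * (p.2 : G) * Φ.u) =
            Φ.u * h.e ^ p.1.val * (Φ.u * Φ.u) * (p.2 : G) * Φ.u by group, Φ.uu]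
          group
      _ = _ := by
          rw [h1, h.Z_inv _ p.2.2, inv_pow]
          show _ = (h.rep (p.1, 0) * (p.2 : G))⁻¹
          rw [hr, ((h.Z_central _ p.2.2 _ (pow_mem (h.F_le h.e_mem) _))).mul_inv]
  have hinj : Function.Injective emb := by
    rintro ⟨i, z⟩ ⟨i', z'⟩ he
    have h1 : ((i, 0) : ZMod q × ZMod q) = (i', 0) := by
      rw [← h.co_rep (i, 0) z.2, show h.rep (i, 0) * (z : G) = h.rep (i', 0) * (z' : G) from he,
        h.co_rep (i', 0) z'.2]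
    obtain rfl : i = i' := congrArg Prod.fst h1
    exact Prod.ext rfl (Subtype.ext (mul_left_cancel he))
  have hsurj : ∀ y ∈ Φ.Iset.filter (· ∈ h.F), ∃ p, emb p = y := by
    intro y hy
    obtain ⟨hyI, hyF⟩ := Finset.mem_filter.1 hy
    have h1 := h.co_u hyF
    rw [(Φ.mem_Iset.1 hyI).2, h.co_inv hyF, Prod.ext_iff] at h1
    simp only [Prod.snd_neg, true_and] at h1
    have h2 : (h.co y).2 = 0 := by
      have h2' : (2 : ZMod q) * (h.co y).2 = 0 := by linear_combination -h1.2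
      refine (mul_eq_zero.1 h2').resolve_left fun e => h.ne_two ?_
      rw [show (2 : ZMod q) = ((2 : ℕ) : ZMod q) by norm_num, ZMod.natCast_eq_zero_iff] at e
      exact (Nat.prime_dvd_prime_iff_eq h.prime Nat.prime_two).1 e
    obtain ⟨z, hz, e⟩ := h.exists_eq_rep hyF
    refine ⟨((h.co y).1, ⟨z, hz⟩), ?_⟩
    show h.rep ((h.co y).1, 0) * z = y
    rw [← h2]
    exact e.symm
  rw [← Finset.sum_filter_add_sum_filter_not Φ.Iset (· ∈ h.F),
    Finset.sum_eq_zero (s := Φ.Iset.filter fun y => ¬ y ∈ h.F) fun y hy => h.theta_eq_zero (Finset.mem_filter.1 hy).2,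
    add_zero]
  have hz : Φ.Iset.filter (· ∈ h.F) = Finset.univ.image emb := by
    ext y
    refine ⟨fun hy => ?_, fun hy => ?_⟩
    · obtain ⟨p, hp⟩ := hsurj y hy
      exact Finset.mem_image.2 ⟨p, Finset.mem_univ _, hp⟩
    · obtain ⟨p, -, rfl⟩ := Finset.mem_image.1 hy
      exact hmemI p
  rw [hz, Finset.sum_image fun a _ b _ e => hinj e]
  simp only [theta, ← Finset.mul_sum]
  rw [Finset.sum_comm]
  have hin : ∀ x ∈ Φ.Uset, ∑ p : ZMod q × h.Z, h.psi (x⁻¹ * emb p * x) =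
      if x ∈ h.F then (q : ℂ) * (Nat.card h.Z : ℂ) else 0 := by
    intro x hx
    have hxU := Φ.mem_Uset.1 hx
    have hxC : x⁻¹ ∈ Φ.C := inv_mem (Φ.U_le_C hxU)
    have hc : ∀ r ∈ h.F, x⁻¹ * r * x ∈ h.F := fun r hr => by
      have := h.conj_mem_F hxC hr
      rwa [inv_inv] at this
    set c := h.co (x⁻¹ * h.e * x) with hcdef
    have hval : ∀ p : ZMod q × h.Z, h.psi (x⁻¹ * emb p * x) = ZMod.stdAddChar (p.1 * c.2) := by
      intro p
      have hr : h.rep (p.1, 0) = h.e ^ p.1.val := by simp [rep]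
      have e : x⁻¹ * emb p * x = (x⁻¹ * h.e * x) ^ p.1.val * (p.2 : G) := by
        show x⁻¹ * (h.rep (p.1, 0) * (p.2 : G)) * x = _
        rw [hr, show (x⁻¹ * h.e * x) ^ p.1.val = x⁻¹ * h.e ^ p.1.val * x from by
          simpa using (conj_pow (a := x⁻¹) (b := h.e) (i := p.1.val)), mul_assoc _ x,
          (h.Z_central _ p.2.2 x hxU).eq]
        group
      rw [e, h.psi_of_mem (mul_mem (pow_mem (hc _ h.e_mem) _) (h.Z_le p.2.2)),
        h.co_mul (pow_mem (hc _ h.e_mem) _) (h.Z_le p.2.2), h.co_mem_Z p.2.2, add_zero,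
        h.co_pow (hc _ h.e_mem), ← hcdef, Prod.smul_snd, nsmul_eq_mul, ZMod.natCast_zmod_val]
    rw [Finset.sum_congr rfl fun p _ => hval p, Fintype.sum_prod_type]
    simp only [Finset.sum_const, Finset.card_univ, nsmul_eq_mul, ← Finset.mul_sum, ← Nat.card_eq_fintype_card]
    rw [AddChar.sum_mulShift _ (ZMod.isPrimitive_stdAddChar q), ZMod.card]
    have hiff : c.2 = 0 ↔ x ∈ h.F := by
      refine ⟨fun h0 => inv_mem_iff.1 (h.line_e x⁻¹ (inv_mem hxU) ?_), fun hxF => ?_⟩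
      · obtain ⟨z, hz, e⟩ := h.exists_eq_rep (hc _ h.e_mem)
        refine ⟨c.1.val, z, hz, ?_⟩
        rw [inv_inv, e, ← hcdef, rep, h0, ZMod.val_zero, pow_zero, mul_one]
      · rw [hcdef, h.co_mul (mul_mem (inv_mem hxF) h.e_mem) hxF, h.co_mul (inv_mem hxF) h.e_mem, h.co_inv hxF]
        have := h.co_eq (i := 1) (j := 0) (one_mem h.Z)
        rw [pow_one, pow_zero, mul_one, mul_one] at this
        simp [this]
    by_cases hxF : x ∈ h.F
    · rw [if_pos (hiff.2 hxF), if_pos hxF]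
      push_cast
      ring
    · rw [if_neg (fun h0 => hxF (hiff.1 h0)), if_neg hxF]
      simp
  rw [Finset.sum_congr rfl hin, ← Finset.sum_filter, Finset.sum_const, nsmul_eq_mul,
    show (Φ.Uset.filter (· ∈ h.F)).card = Nat.card h.F by
      rw [Nat.card_eq_fintype_card, Fintype.card_of_subtype]
      exact fun x => by simp only [Finset.mem_filter, Φ.mem_Uset]; exact ⟨fun h' => h'.2, fun h' => ⟨h.F_le h', h'⟩⟩,
    inv_mul_cancel_left₀]
  exact Nat.cast_ne_zero.2 Nat.card_pos.ne'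

open Classical in
theorem card_Iset_le (h : Φ.Hei q) : Φ.Iset.card * q ≤ Nat.card Φ.U := by
  let f : Φ.Iset × Φ.W → Φ.U := fun p =>
    ⟨(p.1 : G) * (p.2 : G), mul_mem (Φ.mem_Iset.1 p.1.2).1 (Φ.W_le_U p.2.2)⟩
  have hf : Function.Injective f := by
    rintro ⟨⟨k, hk⟩, w⟩ ⟨⟨k', hk'⟩, w'⟩ he
    have he' : k * (w : G) = k' * (w' : G) := congrArg Subtype.val he
    obtain ⟨hkU, hku⟩ := Φ.mem_Iset.1 hk
    obtain ⟨hk'U, hk'u⟩ := Φ.mem_Iset.1 hk'
    have hfix : ∀ v : G, v ∈ Φ.W → Φ.u * v * Φ.u = v := fun v hv => (fix_iff_commute Φ.uu).2 (Φ.commute_u hv)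
    have e2 : k⁻¹ * (w : G) = k'⁻¹ * (w' : G) := by
      have := congrArg (fun z => Φ.u * z * Φ.u) he'
      beta_reduce at this
      rw [show Φ.u * (k * (w : G)) * Φ.u = (Φ.u * k * Φ.u) * (Φ.u * (w : G) * Φ.u) by
          rw [show (Φ.u * k * Φ.u) * (Φ.u * (w : G) * Φ.u) = Φ.u * k * (Φ.u * Φ.u) * (w : G) * Φ.u by group,
            Φ.uu]; group,
        show Φ.u * (k' * (w' : G)) * Φ.u = (Φ.u * k' * Φ.u) * (Φ.u * (w' : G) * Φ.u) by
          rw [show (Φ.u * k' * Φ.u) * (Φ.u * (w' : G) * Φ.u) = Φ.u * k' * (Φ.u * Φ.u) * (w' : G) * Φ.u by group,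
            Φ.uu]; group, hku, hk'u, hfix _ w.2, hfix _ w'.2] at this
      exact this
    have h1 : k * k = k' * k' := by
      calc k * k = (k * (w : G)) * (k⁻¹ * (w : G))⁻¹ := by group
        _ = (k' * (w' : G)) * (k'⁻¹ * (w' : G))⁻¹ := by rw [he', e2]
        _ = _ := by group
    have hkk : k = k' := by
      obtain ⟨a, ha⟩ := Φ.odd_card_U
      have key : ∀ z ∈ Φ.U, (z * z) ^ (a + 1) = z := fun z hz => by
        have h1 : z ^ Nat.card Φ.U = 1 := orderOf_dvd_iff_pow_eq_one.1 (Subgroup.orderOf_dvd_natCard _ hz)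
        rw [← pow_two, ← pow_mul, show 2 * (a + 1) = Nat.card Φ.U + 1 by omega, pow_succ, h1, one_mul]
      rw [← key k hkU, h1, key k' hk'U]
    subst hkk
    exact Prod.ext rfl (Subtype.ext (mul_left_cancel he'))
  have := Nat.card_le_card_of_injective f hf
  rwa [Nat.card_prod, Nat.card_eq_finsetCard, h.W_eq, Nat.card_zpowers, h.hd] at this

/-- The signs of the row of `θ` and their weighted sum. -/
theorem row_data (h : Φ.Hei q) (hK : KMin G) (hg : ∀ w ∈ Φ.W, Commute Φ.g w) :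
    ∃ n : IrrCharacter G → ℤ,
      (∀ χ, n χ = 0 ∨ n χ = 1 ∨ n χ = -1) ∧
      (∀ χ, n χ ≠ 0 → ∀ y ∈ Φ.U, (χ : G → ℂ) (Φ.t * y) = (n χ : ℂ) * h.theta y) ∧
      (Finset.univ.filter fun χ => n χ = 1).card ≤ 3 ∧
      n (trivChar G) = 0 ∧
      (5 / 7 : ℚ) ≤ (h.F.relIndex Φ.U : ℚ) ^ 3 * ∑ χ, (n χ : ℚ) / (charDegree (χ : G → ℂ) : ℚ) := by
  classical
  haveI : Fact (Nat.Prime 2) := ⟨Nat.prime_two⟩
  choose n hn using fun χ : IrrCharacter G => Φ.exists_int_row h.theta_irr.isCharacter χ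
  have hU : (Nat.card Φ.U : ℂ) ≠ 0 := Nat.cast_ne_zero.2 Nat.card_pos.ne'
  have hfam : Φ.Family (ι := Unit) (fun _ => h.theta) :=
    ⟨fun _ => h.theta_invariant hK, fun _ => h.theta_irr, fun i j hij => absurd (Subsingleton.elim i j) hij,
      fun w hw => by
        have hc := (hg w hw).eq
        simp only [show Φ.g⁻¹ * w * Φ.g = w by rw [mul_assoc, ← hc, inv_mul_cancel_left],
          show Φ.g * w * Φ.g⁻¹ = w by rw [hc, mul_inv_cancel_right]]⟩
  have hsq : ∑ χ, n χ * n χ = 4 := by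
    have h1 := Φ.gram hK (θ := h.theta) (θ' := h.theta) (h.theta_invariant hK)
    simp only [hn, map_intCast, Φ.family_self hfam (), inv_mul_cancel₀ hU, mul_one] at h1
    exact_mod_cast h1
  have hdeg : ∑ χ, n χ * (charDegree (χ : G → ℂ) : ℤ) = 0 := by
    have h1 := Φ.row_degree hK h.theta
    simp only [hn, Block.apply_one_eq_charDegree] at h1
    exact_mod_cast h1
  have hone : ∀ χ, n χ = 0 ∨ n χ = 1 ∨ n χ = -1 := fun χ => by
    rcases Twist.abs_le_one_of_orth (fun χ : IrrCharacter G => Int.natCast_pos.2 (charDegree_pos χ))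
      (le_of_eq hsq) hdeg χ with e | e | e <;> simp [e]
  have hval : ∀ χ, n χ ≠ 0 → ∀ y ∈ Φ.U, (χ : G → ℂ) (Φ.t * y) = (n χ : ℂ) * h.theta y := by
    intro χ hχ y hy
    have hodd : Odd (∑ _i : Unit, n χ) := by
      rcases hone χ with e | e | e
      · exact absurd e hχ
      all_goals simp [e]
    simpa using hK.section_values Φ hfam χ (fun _ => n χ) (fun _ => hn χ) hodd hy
  have htriv : n (trivChar G) = 0 := by
    have h1 := hn (trivChar G)
    rw [KFrame.row, Finset.sum_congr rfl (g := fun y => conj (h.theta y)) fun y _ => by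
      rw [show ((trivChar G : IrrCharacter G) : G → ℂ) (Φ.t * y) = 1 from rfl, one_mul],
      ← map_sum, h.theta_sum, map_zero, mul_zero] at h1
    exact_mod_cast h1.symm
  have hpos : (Finset.univ.filter fun χ => n χ = 1).card ≤ 3 := by
    have h1 : (Finset.univ.filter fun χ => n χ = 1).card + (Finset.univ.filter fun χ => n χ = -1).card = 4 := by
      have hz : ∀ χ, n χ * n χ = (if n χ = 1 then 1 else 0) + (if n χ = -1 then 1 else 0) := fun χ => by
        rcases hone χ with e | e | e <;> simp [e]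
      rw [Finset.sum_congr rfl fun χ _ => hz χ, Finset.sum_add_distrib, Finset.sum_boole, Finset.sum_boole] at hsq
      exact_mod_cast hsq
    by_contra hlt
    have hneg : ∀ χ, n χ ≠ -1 := fun χ e => by
      have : 0 < (Finset.univ.filter fun χ => n χ = -1).card :=
        Finset.card_pos.2 ⟨χ, Finset.mem_filter.2 ⟨Finset.mem_univ _, e⟩⟩
      omega
    obtain ⟨χ, hχ⟩ : ∃ χ, n χ = 1 := by
      obtain ⟨χ, hχ⟩ := Finset.card_pos.1 (show 0 < (Finset.univ.filter fun χ => n χ = 1).card by omega)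
      exact ⟨χ, (Finset.mem_filter.1 hχ).2⟩
    have h0 : ∀ η, 0 ≤ n η * (charDegree (η : G → ℂ) : ℤ) := fun η => by
      rcases hone η with e | e | e
      · simp [e]
      · simp [e]
      · exact absurd e (hneg η)
    have h2 := (Finset.sum_eq_zero_iff_of_nonneg fun η _ => h0 η).1 hdeg χ (Finset.mem_univ _)
    have := charDegree_pos χ
    rw [hχ, one_mul] at h2
    omega
  refine ⟨n, hone, hval, hpos, htriv, ?_⟩
  obtain ⟨a, b, c, -, -, -, hrel, hsig, hw⟩ := hK.principal_data Φ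
  have hW : Φ.W ≠ ⊥ := fun e => by
    have h1 : h.d = 1 := mem_bot.1 (e ▸ h.d_mem_W)
    exact h.prime.ne_one (h.hd.symm.trans (by rw [h1, orderOf_one]))
  obtain ⟨sa, sb, sc⟩ := hsig hW
  set s : ℚ := 1 + 1 / (a : ℚ) + 1 / (b : ℚ) + 1 / (c : ℚ) with hsdef
  have hs : 5 / 7 ≤ s := Klein.sum_ge sa sb sc hrel
  set m := h.F.relIndex Φ.U with hm
  set S : ℚ := ∑ χ, (n χ : ℚ) / (charDegree (χ : G → ℂ) : ℚ) with hS
  have hwt : Φ.weight h.theta = (((m : ℚ) ^ 2 * S : ℚ) : ℂ) := by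
    rw [KFrame.weight, hS, Finset.mul_sum, Rat.cast_sum]
    refine Finset.sum_congr rfl fun χ _ => ?_
    rw [hn, Block.apply_one_eq_charDegree]
    push_cast
    rcases hone χ with e | e | e
    · simp [e]
    all_goals
      have ht := hval χ (by rw [e]; norm_num) 1 (one_mem _)
      rw [mul_one, h.theta_one, e] at ht
      rw [ht, e]
      push_cast
      ring
  have heq := hK.weight_mul Φ (h.theta_invariant hK)
  rw [hwt, hw, ← map_sum, h.sum_Iset, map_mul, map_natCast, map_natCast] at heq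
  have heq' : (m : ℚ) ^ 2 * S * (Φ.Iset.card : ℚ) = s * ((q : ℚ) * (Nat.card h.Z : ℚ)) := by exact_mod_cast heq
  have hI : (Φ.Iset.card : ℚ) ≤ (m : ℚ) * ((q : ℚ) * (Nat.card h.Z : ℚ)) := by
    have h1 := h.card_Iset_le
    rw [h.card_U, show q ^ 2 * Nat.card h.Z * m = m * (q * Nat.card h.Z) * q by ring] at h1
    exact_mod_cast Nat.le_of_mul_le_mul_right h1 h.prime.pos
  have hZ : (0 : ℚ) < (q : ℚ) * (Nat.card h.Z : ℚ) :=
    mul_pos (Nat.cast_pos.2 h.prime.pos) (Nat.cast_pos.2 Nat.card_pos)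
  have hS0 : 0 ≤ (m : ℚ) ^ 2 * S := by
    have hcard : (0 : ℚ) < Φ.Iset.card := Nat.cast_pos.2 (Finset.card_pos.2 ⟨1, Φ.one_mem_Iset⟩)
    by_contra hneg
    have h2 := mul_neg_of_neg_of_pos (not_le.1 hneg) hcard
    have h3 := mul_pos (show (0 : ℚ) < s by linarith) hZ
    linarith
  refine hs.trans (le_of_mul_le_mul_right ?_ hZ)
  rw [← heq']
  calc (m : ℚ) ^ 2 * S * (Φ.Iset.card : ℚ) ≤ (m : ℚ) ^ 2 * S * ((m : ℚ) * ((q : ℚ) * (Nat.card h.Z : ℚ))) :=
        mul_le_mul_of_nonneg_left hI hS0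
    _ = _ := by ring

end KFrame.Hei

end Cfsg.Lib.GW
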