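import Cfsg.Agent.Lib.GW.Klein.Rows
import Cfsg.Agent.Lib.Block.KleinBlock

/-!
# Gorenstein–Walter, Sylow four groups: the equation of a row

Weighting a row by `χ(t)² / χ(1)` counts pairs of involutions with product in `t U`; the result depends
on the function only through its sum over the elements of `U` inverted by `u`.
-/

set_option autoImplicit false
set_option linter.unusedSectionVars false
set_option linter.style.haveILetI false

namespace Cfsg.Lib.GW

open Subgroup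
open scoped ComplexConjugate

universe u

variable {G : Type u} [Group G] [Fintype G]

namespace KFrame

variable (Φ : KFrame G)

open Classical in
/-- The elements of `U` inverted by `u`. -/
noncomputable def Iset : Finset G := Φ.Uset.filter fun y => Φ.u * y * Φ.u = y⁻¹

/-- The weighted sum of a row. -/
noncomputable def weight (θ : G → ℂ) : ℂ :=
  ∑ χ : IrrCharacter G, Φ.row θ χ * ((χ : G → ℂ) Φ.t * (χ : G → ℂ) Φ.t / (χ : G → ℂ) 1)

open Classical in
/-- The involutions of `C` other than `t`. -/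
noncomputable def Aset : Finset G :=
  Finset.univ.filter fun a => orderOf a = 2 ∧ a ∈ Φ.C ∧ a ≠ Φ.t

theorem mem_Aset {a : G} : a ∈ Φ.Aset ↔ orderOf a = 2 ∧ a ∈ Φ.C ∧ a ≠ Φ.t := by simp [Aset]

theorem mem_Iset {y : G} : y ∈ Φ.Iset ↔ y ∈ Φ.U ∧ Φ.u * y * Φ.u = y⁻¹ := by
  simp [Iset, mem_Uset]

theorem one_mem_Iset : (1 : G) ∈ Φ.Iset :=
  Φ.mem_Iset.2 ⟨one_mem _, by rw [mul_one, Φ.uu, inv_one]⟩

theorem card_Iset_ne : (Φ.Iset.card : ℂ) ≠ 0 :=
  Nat.cast_ne_zero.2 (Finset.card_ne_zero.2 ⟨1, Φ.one_mem_Iset⟩)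

end KFrame

namespace KMin

variable (hK : KMin G) (Φ : KFrame G)
include hK

open Classical in
theorem card_pairs {y : G} (hy : y ∈ Φ.U) :
    (((Char.classFinset Φ.t ×ˢ Char.classFinset Φ.t).filter fun p => p.1 * p.2 = Φ.t * y).card) =
      (Φ.Aset.filter fun a => a * y * a = y⁻¹).card := by
  classical
  have hcls : ∀ a : G, a ∈ Char.classFinset Φ.t ↔ orderOf a = 2 := fun a => by
    rw [Char.mem_classFinset]
    refine ⟨fun h => ?_, fun h => hK.min.oneClass _ _ Φ.ht h⟩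
    obtain ⟨c, rfl⟩ := isConj_iff.1 h
    rw [Cfsg.Lib.Invol.orderOf_conj_eq, Φ.ht]
  have hty : Φ.t * y⁻¹ = (Φ.t * y)⁻¹ := by
    rw [mul_inv_rev, Cfsg.Lib.Invol.inv_eq_self Φ.ht, (Φ.commute_t hy).inv_right.eq]
  refine Finset.card_bij' (fun p _ => p.1) (fun a _ => (a, a * (Φ.t * y))) ?_ ?_ ?_ ?_
  · rintro ⟨a, b⟩ hp
    obtain ⟨hab, he⟩ := Finset.mem_filter.1 hp
    obtain ⟨ha, hb⟩ := Finset.mem_product.1 hab
    have haa := Cfsg.Lib.Invol.inv_mul_self ((hcls a).1 ha)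
    have hbb := Cfsg.Lib.Invol.inv_mul_self ((hcls b).1 hb)
    have hai := Cfsg.Lib.Invol.inv_eq_self ((hcls a).1 ha)
    simp only at he
    have hbe : b = a * (Φ.t * y) := by rw [← he, ← mul_assoc, haa, one_mul]
    have hconj : a * (Φ.t * y) * a⁻¹ = Φ.t * y⁻¹ := by
      rw [hty, ← he, mul_inv_rev, hai, Cfsg.Lib.Invol.inv_eq_self ((hcls b).1 hb), ← mul_assoc a a, haa,
        one_mul]
    have hat : Commute Φ.t a := Φ.commute_of_section hy (inv_mem hy) hconj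
    have haya : a * y * a = y⁻¹ := by
      refine mul_left_cancel (a := Φ.t) ?_
      rw [← hconj, hai, show Φ.t * (a * y * a) = Φ.t * a * y * a by group, hat.eq]
      group
    have hne : a ≠ Φ.t := by
      intro e
      have hby : b = y := by rw [hbe, e, ← mul_assoc, Φ.tt, one_mul]
      exact Cfsg.Lib.Invol.ne_one ((hcls b).1 hb) (hby.trans (by
        obtain ⟨k, hk⟩ := exists_pow_sq_eq (Φ.odd_of_mem hy)
        rw [← hk, ← hby, hbb, one_pow]))
    exact Finset.mem_filter.2 ⟨Φ.mem_Aset.2 ⟨(hcls a).1 ha, Φ.mem_C.2 hat, hne⟩, haya⟩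
  · intro a ha
    obtain ⟨hA, haya⟩ := Finset.mem_filter.1 ha
    obtain ⟨h2, haC, hne⟩ := Φ.mem_Aset.1 hA
    have haa := Cfsg.Lib.Invol.inv_mul_self h2
    refine Finset.mem_filter.2 ⟨Finset.mem_product.2 ⟨(hcls a).2 h2, (hcls _).2 ?_⟩, ?_⟩
    · refine Cfsg.Lib.Invol.orderOf_eq_two_of (fun e => hne ?_) ?_
      · simp only at e
        have e' : Φ.t * y = a := by
          have := congrArg (a * ·) e
          simpa [← mul_assoc, haa] using this
        have hy1 : y * y = 1 := by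
          have h' : Φ.t * y * (Φ.t * y) = 1 := by rw [e', haa]
          rwa [(Φ.commute_t hy).symm.mul_mul_mul_comm, Φ.tt, one_mul] at h'
        obtain ⟨k, hk⟩ := exists_pow_sq_eq (Φ.odd_of_mem hy)
        rw [hy1, one_pow] at hk
        rw [← e', ← hk, mul_one]
      · simp only
        calc a * (Φ.t * y) * (a * (Φ.t * y)) = (a * Φ.t) * y * a * (Φ.t * y) := by group
          _ = (Φ.t * a) * y * a * (Φ.t * y) := by rw [(Φ.mem_C.1 haC).eq]
          _ = Φ.t * (a * y * a) * (Φ.t * y) := by group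
          _ = 1 := by rw [haya, hty, inv_mul_cancel]
    · simp only [← mul_assoc, haa, one_mul]
  · rintro ⟨a, b⟩ hp
    obtain ⟨hab, he⟩ := Finset.mem_filter.1 hp
    obtain ⟨ha, -⟩ := Finset.mem_product.1 hab
    simp only at he ⊢
    rw [← he, ← mul_assoc, Cfsg.Lib.Invol.inv_mul_self ((hcls a).1 ha), one_mul]
  · intro a _; rfl

open Classical in
/-- The elements inverted by an involution of `C` other than `t`. -/
theorem sum_inverted {f : G → ℂ} (hf : Φ.Invariant f) {a : G} (ha : a ∈ Φ.Aset) :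
    ∑ y ∈ Φ.Uset.filter (fun y => a * y * a = y⁻¹), f y = ∑ y ∈ Φ.Iset, f y := by
  classical
  obtain ⟨h2, haC, hne⟩ := Φ.mem_Aset.1 ha
  have huv : ∀ y ∈ Φ.U, (Φ.t * Φ.u) * y * (Φ.t * Φ.u) = Φ.u * y * Φ.u := fun y hy => by
    calc (Φ.t * Φ.u) * y * (Φ.t * Φ.u) = Φ.t * (Φ.u * y * Φ.t) * Φ.u := by group
      _ = Φ.t * (Φ.u * Φ.t) * y * Φ.u := by rw [mul_assoc Φ.u y, ← (Φ.commute_t hy).eq]; group
      _ = Φ.t * (Φ.t * Φ.u) * y * Φ.u := by rw [Φ.hc.eq]
      _ = _ := by rw [Φ.t_mul_v]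
  obtain ⟨x, hx, hax⟩ := (hK.involution_cases Φ h2 haC).resolve_left hne
  have key : ∀ y ∈ Φ.U, a * (x * y * x⁻¹) * a = (x * y * x⁻¹)⁻¹ ↔ Φ.u * y * Φ.u = y⁻¹ := by
    intro y hy
    have e : a * (x * y * x⁻¹) * a = x * (Φ.u * y * Φ.u) * x⁻¹ := by
      rcases hax with rfl | rfl
      · group
      · rw [← huv y hy]; group
    rw [e, conj_inv]
    exact ⟨fun h => mul_left_cancel (mul_right_cancel h), fun h => by rw [h]⟩
  have hxC : x ∈ Φ.C := Φ.U_le_C hx
  symm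
  refine Finset.sum_bij' (fun y _ => x * y * x⁻¹) (fun z _ => x⁻¹ * z * x) ?_ ?_ ?_ ?_ ?_
  · intro y hy
    obtain ⟨h1, h2⟩ := Φ.mem_Iset.1 hy
    exact Finset.mem_filter.2 ⟨Φ.mem_Uset.2 (Φ.conj_mem_U hxC h1), (key y h1).2 h2⟩
  · intro z hz
    obtain ⟨h1, h2⟩ := Finset.mem_filter.1 hz
    have hzU : x⁻¹ * z * x ∈ Φ.U := by
      have := Φ.conj_mem_U (inv_mem hxC) (Φ.mem_Uset.1 h1)
      rwa [inv_inv] at this
    refine Φ.mem_Iset.2 ⟨hzU, (key _ hzU).1 ?_⟩
    rwa [show x * (x⁻¹ * z * x) * x⁻¹ = z by group]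
  · intro y _; group
  · intro z _; group
  · intro y hy
    exact (hf x hxC y (Φ.mem_Iset.1 hy).1).symm

open Classical in
theorem weight_eq {θ : G → ℂ} (hθ : Φ.Invariant θ) :
    Φ.weight θ = (Nat.card Φ.U : ℂ)⁻¹ * ((Nat.card G : ℂ) /
      ((Char.classFinset Φ.t).card * (Char.classFinset Φ.t).card : ℂ)) *
      (Φ.Aset.card : ℂ) * ∑ y ∈ Φ.Iset, conj (θ y) := by
  classical
  have hG : (Nat.card G : ℂ) ≠ 0 := Char.card_cast_ne_zero
  have hK0 : ((Char.classFinset Φ.t).card : ℂ) ≠ 0 :=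
    Nat.cast_ne_zero.2 (Finset.card_ne_zero.2 ⟨Φ.t, Char.mem_classFinset.2 (IsConj.refl _)⟩)
  choose m hm using fun χ : IrrCharacter G => Cfsg.Lib.Block.int_value_involution χ Φ.ht
  have hN : ∀ g : G, ∑ χ : IrrCharacter G,
      (χ : G → ℂ) Φ.t * (χ : G → ℂ) Φ.t * (χ : G → ℂ) g / (χ : G → ℂ) 1 =
      (Nat.card G : ℂ) / ((Char.classFinset Φ.t).card * (Char.classFinset Φ.t).card : ℂ) *
        (((Char.classFinset Φ.t ×ˢ Char.classFinset Φ.t).filter fun p => p.1 * p.2 = g).card : ℂ) := by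
    intro g
    apply (starRingEnd ℂ).injective
    have hc : (((Char.classFinset Φ.t ×ˢ Char.classFinset Φ.t).filter fun p => p.1 * p.2 = g).card : ℂ) =
        ((Char.classFinset Φ.t).card : ℂ) * (Char.classFinset Φ.t).card / (Nat.card G : ℂ) *
          ∑ χ : IrrCharacter G,
            (χ : G → ℂ) Φ.t * (χ : G → ℂ) Φ.t * conj ((χ : G → ℂ) g) / (χ : G → ℂ) 1 := by
      convert Char.card_class_product Φ.t Φ.t g
    rw [map_mul, map_div₀, map_mul, map_natCast, map_natCast, map_natCast, hc, map_sum]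
    field_simp
    refine Finset.sum_congr rfl fun χ _ => ?_
    obtain ⟨n, -, hn⟩ := χ.2.exists_degree
    rw [map_div₀, map_mul, map_pow, hm χ, map_intCast, hn, map_natCast]
  rw [KFrame.weight]
  simp only [KFrame.row, mul_assoc, Finset.mul_sum, Finset.sum_mul]
  rw [Finset.sum_comm]
  rw [Finset.sum_congr rfl (g := fun y => ((Nat.card Φ.U : ℂ)⁻¹ * conj (θ y)) *
    ∑ χ : IrrCharacter G, (χ : G → ℂ) Φ.t * (χ : G → ℂ) Φ.t * (χ : G → ℂ) (Φ.t * y) / (χ : G → ℂ) 1)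
    fun y _ => by
      rw [Finset.mul_sum]
      exact Finset.sum_congr rfl fun χ _ => by ring]
  simp only [hN]
  rw [Finset.sum_congr rfl (g := fun y => ∑ a ∈ Φ.Aset,
    if a * y * a = y⁻¹ then (Nat.card Φ.U : ℂ)⁻¹ * ((Nat.card G : ℂ) /
      ((Char.classFinset Φ.t).card * (Char.classFinset Φ.t).card : ℂ)) * conj (θ y) else 0) fun y hy => by
      rw [hK.card_pairs Φ (Φ.mem_Uset.1 hy), ← Finset.sum_filter, Finset.sum_const, nsmul_eq_mul]
      ring]
  rw [Finset.sum_comm]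
  rw [Finset.sum_congr rfl (g := fun _ => ∑ y ∈ Φ.Iset, (Nat.card Φ.U : ℂ)⁻¹ * ((Nat.card G : ℂ) /
      ((Char.classFinset Φ.t).card * (Char.classFinset Φ.t).card : ℂ)) * conj (θ y)) fun a ha => by
      rw [← Finset.sum_filter]
      exact hK.sum_inverted Φ (f := fun y => (Nat.card Φ.U : ℂ)⁻¹ * ((Nat.card G : ℂ) /
        ((Char.classFinset Φ.t).card * (Char.classFinset Φ.t).card : ℂ)) * conj (θ y))
        (fun k hk y hy => by simp only [hθ k hk y hy]) ha]
  rw [Finset.sum_const, nsmul_eq_mul, Finset.mul_sum]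
  exact Finset.sum_congr rfl fun y _ => by ring

/-- The equation: a row against the row of the trivial function. -/
theorem weight_mul {θ : G → ℂ} (hθ : Φ.Invariant θ) :
    Φ.weight θ * (Φ.Iset.card : ℂ) = Φ.weight (fun _ => 1) * ∑ y ∈ Φ.Iset, conj (θ y) := by
  rw [hK.weight_eq Φ hθ, hK.weight_eq Φ (θ := fun _ => (1 : ℂ)) (fun _ _ _ _ => rfl)]
  simp only [map_one, Finset.sum_const, nsmul_eq_mul, mul_one]
  ring

end KMin

end Cfsg.Lib.GW
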