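import Cfsg.Agent.Lib.GW.Klein.Principal
import Cfsg.Agent.Lib.Block.KleinData
import Cfsg.Agent.Lib.GW.Basic

/-!
# Signed degrees of a group with Sylow four groups and one class of involutions

The order formula in terms of the signed degrees, and a nontrivial linear character with the centralizer
of an involution in its kernel makes the group solvable.
-/

set_option autoImplicit false
set_option linter.style.haveILetI false
set_option linter.unusedSectionVars false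

namespace Cfsg.Lib.GW.Klein

open Cfsg Subgroup
open Cfsg.Lib.Block

universe u

variable {X : Type u} [Group X] [Fintype X] [Fact (Nat.Prime 2)]

/-- The signed degrees and the order formula. -/
theorem signed_data {M : Ideal AlgInt} (hM : IsPModular 2 M) {P : Sylow 2 X} (hP : KleinCond P) {z : X}
    (hzP : z ∈ (P : Subgroup X)) (hz : orderOf z = 2) :
    ∃ a b c : ℤ, a % 4 = 1 ∧ b % 4 = 1 ∧ c % 4 = 1 ∧ 1 + a + b + c = 0 ∧
      (Nat.card X : ℚ) * (1 + 1 / (a : ℚ) + 1 / (b : ℚ) + 1 / (c : ℚ)) *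
          (Nat.card (centralizer ((P : Subgroup X) : Set X)) : ℚ) ^ 2 =
        8 * (Nat.card (centralizer ({z} : Set X)) : ℚ) ^ 3 ∧
      ((a = 1 ∨ b = 1 ∨ c = 1) → ∃ χ ∈ principalBlock M X, χ ≠ trivChar X ∧
        (χ : X → ℂ) 1 = 1 ∧ (χ : X → ℂ) z = 1) ∧
      ((a = -3 ∨ b = -3 ∨ c = -3) → ∃ χ ∈ principalBlock M X,
        (χ : X → ℂ) 1 = 3 ∧ (χ : X → ℂ) z = -1) := by
  classical
  obtain ⟨x, y, w, hx0, hy0, hw0, hxy, hxw, hyw, sx, sw, sy, hset⟩ := klein_exists_three hM hP hz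
  obtain ⟨hsg, -⟩ := klein_signs hM hP hz
  have mem : ∀ χ, χ = x ∨ χ = y ∨ χ = w → χ ∈ principalBlock M X := fun χ h => by
    rw [hset]; simp only [Set.mem_insert_iff, Set.mem_singleton_iff]; exact Or.inr h
  have hd : ∀ χ ∈ principalBlock M X, ∃ ε : ℤ, (χ : X → ℂ) z = ε ∧ (ε = 1 ∨ ε = -1) ∧
      (ε * (charDegree (χ : X → ℂ) : ℤ)) % 4 = 1 ∧
      (ε : ℚ) / (charDegree (χ : X → ℂ) : ℚ) = 1 / ((ε * (charDegree (χ : X → ℂ) : ℤ) : ℤ) : ℚ) ∧
      (ε * (charDegree (χ : X → ℂ) : ℤ) = 1 → (χ : X → ℂ) 1 = 1 ∧ (χ : X → ℂ) z = 1) ∧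
      (ε * (charDegree (χ : X → ℂ) : ℤ) = -3 → (χ : X → ℂ) 1 = 3 ∧ (χ : X → ℂ) z = -1) := by
    intro χ hχ
    have hpos := charDegree_pos χ
    have hdeg := apply_one_eq_charDegree χ
    rcases hsg χ hχ with e | e
    · have hc := klein_degree_congr hM hP hz χ (ε := 1) (by rw [e]; norm_num)
      refine ⟨1, by rw [e]; norm_num, Or.inl rfl, by omega, by simp, fun h => ⟨?_, e⟩, fun h => by omega⟩
      rw [hdeg, show charDegree (χ : X → ℂ) = 1 by omega, Nat.cast_one]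
    · have hc := klein_degree_congr hM hP hz χ (ε := -1) (by rw [e]; norm_num)
      refine ⟨-1, by rw [e]; norm_num, Or.inr rfl, by omega, by simp [neg_div],
        fun h => by omega, fun h => ⟨?_, e⟩⟩
      rw [hdeg, show charDegree (χ : X → ℂ) = 3 by omega]
      norm_num
  obtain ⟨e₁, v₁, -, m₁, q₁, o₁, t₁⟩ := hd x (mem x (Or.inl rfl))
  obtain ⟨e₂, v₂, -, m₂, q₂, o₂, t₂⟩ := hd y (mem y (Or.inr (Or.inl rfl)))
  obtain ⟨e₃, v₃, -, m₃, q₃, o₃, t₃⟩ := hd w (mem w (Or.inr (Or.inr rfl)))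
  have hB : principalBlock M X = {χ : IrrCharacter X |
      (χ : X → ℂ) = (fun _ => 1) ∨ χ = x ∨ χ = y ∨ χ = w} := by
    rw [hset]
    ext χ
    simp only [Set.mem_insert_iff, Set.mem_singleton_iff, Set.mem_ofPred_eq]
    exact or_congr_left ⟨fun h => by rw [h]; rfl, fun h => Subtype.ext h⟩
  have hdist : (x : X → ℂ) ≠ (fun _ => 1) ∧ (y : X → ℂ) ≠ (fun _ => 1) ∧ (w : X → ℂ) ≠ (fun _ => 1) ∧
      x ≠ y ∧ x ≠ w ∧ y ≠ w :=
    ⟨fun h => hx0 (Subtype.ext h), fun h => hy0 (Subtype.ext h), fun h => hw0 (Subtype.ext h),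
      hxy, hxw, hyw⟩
  have hrel := klein_degree_relation hM hP hz hB hdist ⟨v₁, v₂, v₃⟩
  have hord := klein_order_rat hM hP hzP hz hB hdist ⟨v₁, v₂, v₃⟩
  refine ⟨_, _, _, m₁, m₂, m₃, ?_, by rw [← q₁, ← q₂, ← q₃]; exact hord, ?_, ?_⟩
  · exact_mod_cast hrel
  · rintro (h | h | h)
    exacts [⟨x, mem x (Or.inl rfl), hx0, o₁ h⟩, ⟨y, mem y (Or.inr (Or.inl rfl)), hy0, o₂ h⟩,
      ⟨w, mem w (Or.inr (Or.inr rfl)), hw0, o₃ h⟩]
  · rintro (h | h | h)
    exacts [⟨x, mem x (Or.inl rfl), t₁ h⟩, ⟨y, mem y (Or.inr (Or.inl rfl)), t₂ h⟩,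
      ⟨w, mem w (Or.inr (Or.inr rfl)), t₃ h⟩]

/-- The crude bound on the sum. -/
theorem sum_lt_three {a b c : ℤ} (ha : a % 4 = 1) (hb : b % 4 = 1) (hc : c % 4 = 1) (h : 1 + a + b + c = 0) :
    1 + 1 / (a : ℚ) + 1 / (b : ℚ) + 1 / (c : ℚ) < 3 := by
  have key : ∀ x : ℤ, x % 4 = 1 → (1 ≤ x ∧ 1 / (x : ℚ) ≤ 1) ∨ (x ≤ -3 ∧ 1 / (x : ℚ) < 0) := by
    intro x hx
    rcases (show 1 ≤ x ∨ x ≤ -3 by omega) with p | p
    · exact Or.inl ⟨p, by simpa using (inv_pos_le (c := 1) one_pos (by exact_mod_cast p)).2⟩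
    · exact Or.inr ⟨p, (inv_neg_ge (c := 3) (by norm_num) (by exact_mod_cast p)).1⟩
  rcases key a ha with ⟨pa, qa⟩ | ⟨pa, qa⟩ <;> rcases key b hb with ⟨pb, qb⟩ | ⟨pb, qb⟩ <;>
    rcases key c hc with ⟨pc, qc⟩ | ⟨pc, qc⟩ <;> first | omega | linarith

/-- A nontrivial linear character with the centralizer of an involution in its kernel. -/
theorem solvable_of_linear {P : Sylow 2 X} (hP : KleinCond P) {z : X} (hzP : z ∈ (P : Subgroup X))
    (hz : orderOf z = 2) (φ : X →* ℂˣ) (hker : centralizer ({z} : Set X) ≤ φ.ker) (hne : φ ≠ 1) :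
    Group.IsSolvable X := by
  haveI := hP.isKleinFour
  have hPK : (P : Subgroup X) ≤ φ.ker := fun x hx =>
    hker (mem_centralizer_singleton_iff.2 (Cfsg.Lib.Invol.klein_comm hx hzP))
  let Q : Sylow 2 φ.ker := P.subtype hPK
  have hQ : ∀ x : φ.ker, x ∈ (Q : Subgroup φ.ker) ↔ (x : X) ∈ (P : Subgroup X) := fun x => by
    show x ∈ ((P.subtype _ : Sylow 2 φ.ker) : Subgroup φ.ker) ↔ _
    rw [Sylow.coe_subtype, mem_subgroupOf]
  haveI : IsKleinFour (Q : Subgroup φ.ker) :=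
    ⟨((Nat.card_congr (subgroupOfEquivOfLe hPK).toEquiv).trans IsKleinFour.card_four :
        Nat.card ((P : Subgroup X).subgroupOf φ.ker) = 4),
      ((Monoid.exponent_eq_of_mulEquiv (subgroupOfEquivOfLe hPK)).trans IsKleinFour.exponent_two :
        Monoid.exponent ((P : Subgroup X).subgroupOf φ.ker) = 2)⟩
  by_cases hmove : normalizer ((Q : Subgroup φ.ker) : Set φ.ker) ≤ centralizer ((Q : Subgroup φ.ker) : Set φ.ker)
  · haveI := isSolvable_of_complement (Cfsg.Lib.Fusion.hasNormalPComplement_of_normalizer_le_centralizer Q hmove)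
    exact Group.isSolvable_of_ker_le_range φ.ker.subtype φ (by rw [range_subtype])
  · exfalso
    obtain ⟨h, hh, hhc⟩ := SetLike.not_le_iff_exists.1 hmove
    obtain ⟨w, hw, hwne⟩ : ∃ w ∈ (Q : Subgroup φ.ker), h * w * h⁻¹ ≠ w := by
      by_contra hno
      push Not at hno
      exact hhc (mem_centralizer_iff.2 fun w hw => (mul_inv_eq_iff_eq_mul.1 (hno w hw)).symm)
    refine hne (MonoidHom.ext fun x => ?_)
    have hzK : z ∈ φ.ker := hPK hzP
    have hzo : orderOf (⟨z, hzK⟩ : φ.ker) = 2 := by rw [Subgroup.orderOf_mk, hz]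
    have hxo : orderOf (⟨x * z * x⁻¹, φ.normal_ker.conj_mem z hzK x⟩ : φ.ker) = 2 := by
      rw [Subgroup.orderOf_mk]
      exact (Cfsg.Lib.Invol.orderOf_conj_eq x z).trans hz
    obtain ⟨r, hr, hro, hrc⟩ := Cfsg.Lib.Invol.klein_exists_rep Q hxo
    obtain ⟨k, hk⟩ := isConj_iff.1 ((Cfsg.Lib.Invol.klein_isConj_of_moved Q hh hw hwne
      ((hQ ⟨z, hzK⟩).2 hzP) (Cfsg.Lib.Invol.ne_one hzo) hr (Cfsg.Lib.Invol.ne_one hro)).trans hrc)
    have hk' : (k : X) * z * (k : X)⁻¹ = x * z * x⁻¹ := congrArg Subtype.val hk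
    have hc : (k : X)⁻¹ * x ∈ φ.ker := hker (mem_centralizer_singleton_iff.2 (by
      calc (k : X)⁻¹ * x * z = (k : X)⁻¹ * (x * z * x⁻¹) * x := by group
        _ = (k : X)⁻¹ * ((k : X) * z * (k : X)⁻¹) * x := by rw [hk']
        _ = z * ((k : X)⁻¹ * x) := by group))
    have := φ.ker.mul_mem k.2 hc
    rw [mul_inv_cancel_left] at this
    exact this

end Cfsg.Lib.GW.Klein
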