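import Cfsg.Agent.Lib.GW.Klein.Section

/-!
# Gorenstein–Walter, Sylow four groups: linear characters of `U` fixed by `u`

There is no nontrivial one fixed by `g` on `W`, and no orbit of three under `g`.
-/

set_option autoImplicit false
set_option linter.unusedSectionVars false
set_option linter.style.haveILetI false

namespace Cfsg.Lib.GW

open Cfsg Subgroup
open Cfsg.Lib.Block
open scoped ComplexConjugate

universe u

variable {G : Type u} [Group G] [Fintype G]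

open Classical in
/-- A sum of a symmetric function over a set with an involution reduces to the fixed points modulo two. -/
theorem exists_two_mul {f : G → ℂ} {s : Finset G} (σ : G → G) (hσ : ∀ y ∈ s, σ y ∈ s)
    (hσσ : ∀ y ∈ s, σ (σ y) = y) (hf : ∀ y ∈ s, f (σ y) = f y) (hint : ∀ y ∈ s, IsIntegral ℤ (f y)) :
    ∃ x : ℂ, IsIntegral ℤ x ∧ ∑ y ∈ s, f y = ∑ y ∈ s.filter (fun y => σ y = y), f y + 2 * x := by
  let e := Fintype.equivFin G
  refine ⟨∑ y ∈ s.filter (fun y => e y < e (σ y)), f y,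
    IsIntegral.sum _ fun y hy => hint y (Finset.mem_filter.1 hy).1, ?_⟩
  have h1 : ∀ y ∈ s, f y = (if σ y = y then f y else 0) +
      ((if e y < e (σ y) then f y else 0) + (if e (σ y) < e y then f y else 0)) := by
    intro y _
    rcases lt_trichotomy (e y) (e (σ y)) with h | h | h
    · rw [if_neg (fun h' => h.ne (by rw [h'])), if_pos h, if_neg h.asymm]; ring
    · rw [if_pos (e.injective h).symm, if_neg h.not_lt, if_neg h.symm.not_lt]; ring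
    · rw [if_neg (fun h' => h.ne (by rw [h'])), if_neg h.asymm, if_pos h]; ring
  have h2 : ∑ y ∈ s.filter (fun y => e (σ y) < e y), f y = ∑ y ∈ s.filter (fun y => e y < e (σ y)), f y := by
    refine Finset.sum_bij' (fun y _ => σ y) (fun y _ => σ y) ?_ ?_ ?_ ?_ ?_
    · intro y hy
      obtain ⟨hs, hlt⟩ := Finset.mem_filter.1 hy
      exact Finset.mem_filter.2 ⟨hσ y hs, by rwa [hσσ y hs]⟩
    · intro y hy
      obtain ⟨hs, hlt⟩ := Finset.mem_filter.1 hy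
      exact Finset.mem_filter.2 ⟨hσ y hs, by rwa [hσσ y hs]⟩
    · intro y hy; exact hσσ y (Finset.mem_filter.1 hy).1
    · intro y hy; exact hσσ y (Finset.mem_filter.1 hy).1
    · intro y hy; exact (hf y (Finset.mem_filter.1 hy).1).symm
  rw [Finset.sum_congr rfl h1, Finset.sum_add_distrib, Finset.sum_add_distrib, ← Finset.sum_filter,
    ← Finset.sum_filter, ← Finset.sum_filter, h2]
  ring

namespace KFrame

variable (Φ : KFrame G)

/-- A linear character of `U` fixed by `C`. -/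
structure Lin (φ : G → ℂ) : Prop where
  map_one : φ 1 = 1
  map_mul : ∀ a ∈ Φ.U, ∀ b ∈ Φ.U, φ (a * b) = φ a * φ b
  inv : Φ.Invariant φ

variable {Φ} {φ : G → ℂ} (hφ : Φ.Lin φ)
include hφ

theorem Lin.inv_mul {y : G} (hy : y ∈ Φ.U) : φ y⁻¹ * φ y = 1 := by
  rw [← hφ.map_mul _ (inv_mem hy) _ hy, inv_mul_cancel, hφ.map_one]

theorem Lin.ne_zero {y : G} (hy : y ∈ Φ.U) : φ y ≠ 0 := fun h => by
  have := hφ.inv_mul hy
  rw [h, mul_zero] at this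
  exact zero_ne_one this

theorem Lin.irr : IsIrrCharacter ↥Φ.U (fun y : ↥Φ.U => φ y) := by
  let f : ↥Φ.U →* ℂˣ := MonoidHom.mk' (fun y => Units.mk0 (φ y) (hφ.ne_zero y.2))
    fun a b => Units.ext (hφ.map_mul a a.2 b b.2)
  exact Char.isIrrCharacter_linear f

theorem Lin.map_pow {y : G} (hy : y ∈ Φ.U) (n : ℕ) : φ (y ^ n) = φ y ^ n := by
  induction n with
  | zero => rw [pow_zero, pow_zero, hφ.map_one]
  | succ n ih => rw [pow_succ, pow_succ, hφ.map_mul _ (pow_mem hy n) _ hy, ih]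

theorem Lin.apply_inverted {y : G} (hy : y ∈ Φ.U) (hi : Φ.u * y * Φ.u = y⁻¹) : φ y = 1 := by
  have h := hφ.inv Φ.u Φ.u_mem_C y hy
  rw [Cfsg.Lib.Invol.inv_eq_self Φ.hu, hi] at h
  have h2 : φ y * φ y = 1 := by
    conv_lhs => arg 1; rw [← h]
    exact hφ.inv_mul hy
  obtain ⟨j, hj⟩ := Φ.odd_of_mem hy
  have h3 : φ y ^ orderOf y = 1 := by rw [← hφ.map_pow hy, pow_orderOf_eq_one, hφ.map_one]
  rwa [hj, pow_succ, pow_mul, pow_two, h2, one_pow, one_mul] at h3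

theorem Lin.sum_eq_zero {y₀ : G} (h0 : y₀ ∈ Φ.U) (hne : φ y₀ ≠ 1) : ∑ y ∈ Φ.Uset, φ y = 0 := by
  have h : ∑ y ∈ Φ.Uset, φ y = φ y₀ * ∑ y ∈ Φ.Uset, φ y := by
    rw [Finset.mul_sum]
    refine Finset.sum_bij' (fun y _ => y₀⁻¹ * y) (fun y _ => y₀ * y) ?_ ?_ ?_ ?_ ?_
    · exact fun y hy => Φ.mem_Uset.2 (mul_mem (inv_mem h0) (Φ.mem_Uset.1 hy))
    · exact fun y hy => Φ.mem_Uset.2 (mul_mem h0 (Φ.mem_Uset.1 hy))
    · exact fun y _ => mul_inv_cancel_left y₀ y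
    · exact fun y _ => inv_mul_cancel_left y₀ y
    · intro y hy
      rw [← hφ.map_mul _ h0 _ (mul_mem (inv_mem h0) (Φ.mem_Uset.1 hy)), mul_inv_cancel_left]
  have h' : (φ y₀ - 1) * ∑ y ∈ Φ.Uset, φ y = 0 := by linear_combination -h
  exact (mul_eq_zero.1 h').resolve_left (sub_ne_zero.2 hne)

theorem Lin.conj_eq {y : G} (hy : y ∈ Φ.U) : conj (φ y) = φ y⁻¹ :=
  (hφ.irr.isCharacter.apply_inv ⟨y, hy⟩).symm

theorem Lin.orth {φ' : G → ℂ} (hφ' : Φ.Lin φ') {y₀ : G} (h0 : y₀ ∈ Φ.U) (hne : φ y₀ ≠ φ' y₀) :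
    ∑ y ∈ Φ.Uset, φ y * conj (φ' y) = 0 := by
  have hq : Φ.Lin (fun y => φ y * φ' y⁻¹) := by
    refine ⟨by simp [hφ.map_one, hφ'.map_one], fun a ha b hb => ?_, fun k hk y hy => ?_⟩
    · show φ (a * b) * φ' (a * b)⁻¹ = φ a * φ' a⁻¹ * (φ b * φ' b⁻¹)
      rw [hφ.map_mul a ha b hb, mul_inv_rev, hφ'.map_mul _ (inv_mem hb) _ (inv_mem ha)]
      ring
    · show φ (k * y * k⁻¹) * φ' (k * y * k⁻¹)⁻¹ = φ y * φ' y⁻¹
      rw [conj_inv, hφ.inv k hk y hy, hφ'.inv k hk _ (inv_mem hy)]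
  rw [Finset.sum_congr rfl fun y hy => by rw [hφ'.conj_eq (Φ.mem_Uset.1 hy)]]
  refine hq.sum_eq_zero h0 fun h => hne ?_
  calc φ y₀ = φ y₀ * (φ' y₀⁻¹ * φ' y₀) := by rw [hφ'.inv_mul h0, mul_one]
    _ = φ' y₀ := by rw [← mul_assoc, h, one_mul]

end KFrame

namespace KMin

variable (hK : KMin G) (Φ : KFrame G)
include hK

/-- The integers of the row of a nontrivial linear character. -/
theorem lin_row {φ : G → ℂ} (hφ : Φ.Lin φ) :
    ∃ n : IrrCharacter G → ℤ, (∀ χ, Φ.row φ χ = n χ) ∧ (∀ χ, n χ = 0 ∨ n χ = 1 ∨ n χ = -1) ∧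
      (Finset.univ.filter fun χ => n χ ≠ 0).card = 4 ∧ ∑ χ, n χ * (charDegree (χ : G → ℂ) : ℤ) = 0 := by
  choose n hn using fun χ : IrrCharacter G => Φ.exists_int_row hφ.irr.isCharacter χ
  have hU : (Nat.card Φ.U : ℂ) ≠ 0 := Nat.cast_ne_zero.2 Nat.card_pos.ne'
  have hsq : ∑ χ, n χ * n χ = 4 := by
    have h := Φ.gram hK (θ := φ) (θ' := φ) hφ.inv
    have hself : ∑ y ∈ Φ.Uset, φ y * conj (φ y) = (Nat.card Φ.U : ℂ) := by
      rw [Finset.sum_congr rfl (g := fun _ => (1 : ℂ)) fun y hy => by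
        rw [hφ.conj_eq (Φ.mem_Uset.1 hy), mul_comm, hφ.inv_mul (Φ.mem_Uset.1 hy)],
        Finset.sum_const, nsmul_eq_mul, mul_one, Φ.card_Uset]
    simp only [hn, map_intCast, hself, inv_mul_cancel₀ hU, mul_one] at h
    exact_mod_cast h
  have hdeg : ∑ χ, n χ * (charDegree (χ : G → ℂ) : ℤ) = 0 := by
    have h := Φ.row_degree hK φ
    simp only [hn, apply_one_eq_charDegree] at h
    exact_mod_cast h
  have hone := Twist.abs_le_one_of_orth (fun χ : IrrCharacter G => Int.natCast_pos.2 (charDegree_pos χ))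
    (le_of_eq hsq) hdeg
  refine ⟨n, hn, fun χ => by rcases hone χ with h | h | h <;> simp [h], ?_, hdeg⟩
  have hz : ∀ χ, n χ * n χ = if n χ ≠ 0 then 1 else 0 := fun χ => by
    rcases hone χ with h | h | h <;> simp [h]
  rw [Finset.sum_congr rfl fun χ _ => hz χ, Finset.sum_boole] at hsq
  exact_mod_cast hsq

theorem weight_lin {φ : G → ℂ} (hφ : Φ.Lin φ) : Φ.weight φ = Φ.weight (fun _ => 1) := by
  have h := hK.weight_mul Φ hφ.inv
  rw [Finset.sum_congr rfl (g := fun _ => (1 : ℂ)) fun y hy => by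
    rw [hφ.apply_inverted (Φ.mem_Iset.1 hy).1 (Φ.mem_Iset.1 hy).2, map_one],
    Finset.sum_const, nsmul_eq_mul, mul_one] at h
  exact mul_right_cancel₀ Φ.card_Iset_ne h

/-- No nontrivial linear character of `U` fixed by `u` is fixed by `g` on `W`. -/
theorem lin_fixed (hW : Φ.W ≠ ⊥) {φ : G → ℂ} (hφ : Φ.Lin φ)
    (hg : ∀ w ∈ Φ.W, φ (Φ.g⁻¹ * w * Φ.g) = φ (Φ.g * w * Φ.g⁻¹)) : ∀ y ∈ Φ.U, φ y = 1 := by
  classical
  haveI : Fact (Nat.Prime 2) := ⟨Nat.prime_two⟩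
  haveI := hK.min.isSimple
  by_contra hne
  push Not at hne
  obtain ⟨y₀, hy₀, hy1⟩ := hne
  obtain ⟨M, hM⟩ := exists_isPModular Nat.prime_two
  obtain ⟨P, hP, -⟩ := hK.exists_kleinCond Φ
  obtain ⟨n, hn, hone, hcard, hdeg⟩ := hK.lin_row Φ hφ
  have hfam : Φ.Family (ι := Unit) (fun _ => φ) :=
    ⟨fun _ => hφ.inv, fun _ => hφ.irr, fun i j h => absurd (Subsingleton.elim i j) h,
      fun w hw => by simp [hg w hw]⟩
  have hT : ∀ χ, n χ ≠ 0 → (χ : G → ℂ) Φ.t = n χ := by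
    intro χ hχ
    have hodd : Odd (∑ _i : Unit, n χ) := by
      rcases hone χ with h | h | h
      · exact absurd h hχ
      all_goals simp [h]
    have h := hK.section_values Φ hfam χ (fun _ => n χ) (fun _ => hn χ) hodd (one_mem Φ.U)
    simpa [hφ.map_one] using h
  have htriv : n (trivChar G) = 0 := by
    have h := hn (trivChar G)
    rw [KFrame.row, Finset.sum_congr rfl (g := fun y => conj (φ y)) fun y _ => by
      rw [show ((trivChar G : IrrCharacter G) : G → ℂ) (Φ.t * y) = 1 from rfl, one_mul],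
      ← map_sum, hφ.sum_eq_zero hy₀ hy1, map_zero, mul_zero] at h
    exact_mod_cast h.symm
  obtain ⟨e⟩ : Nonempty (Fin 4 ≃ {χ // χ ∈ Finset.univ.filter fun χ => n χ ≠ 0}) :=
    ⟨(Finset.equivFinOfCardEq hcard).symm⟩
  set a : Fin 4 → ℤ := fun i => n (e i) * (charDegree ((e i).1 : G → ℂ) : ℤ) with ha
  have hsupp : ∀ i, n (e i) ≠ 0 := fun i => (Finset.mem_filter.1 (e i).2).2
  have h4 : ∀ i, a i % 4 = 1 := by
    intro i
    have hc := klein_degree_congr hM hP Φ.ht (e i).1 (hT _ (hsupp i))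
    rcases hone (e i) with h | h | h
    · exact absurd h (hsupp i)
    · simp only [ha, h] at hc ⊢; omega
    · simp only [ha, h] at hc ⊢; omega
  have h1 : ∀ i, a i ≠ 1 := by
    intro i h
    have hpos := charDegree_pos (e i).1
    rcases hone (e i) with h' | h' | h'
    · exact hsupp i h'
    · simp only [ha, h'] at h
      have : (e i).1 = trivChar G := Twist.eq_trivChar_of_degree_one
        (fun hh => hK.min.nonab ⟨⟨hh⟩⟩) _ (by omega)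
      exact hsupp i (this ▸ htriv)
    · simp only [ha, h'] at h; omega
  have hsum4 : ∀ {β : Type} [AddCommMonoid β] (f : IrrCharacter G → β), (∀ χ, n χ = 0 → f χ = 0) →
      ∑ χ, f χ = ∑ i, f (e i) := by
    intro β _ f hf
    rw [Equiv.sum_comp e fun x => f x.1,
      ← Finset.sum_subset (Finset.subset_univ (Finset.univ.filter fun χ => n χ ≠ 0))
        (fun χ _ hχ => hf χ (by simpa using hχ))]
    exact (Finset.sum_coe_sort _ f).symm
  have hs0 : ∑ i, a i = 0 := by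
    rw [← hdeg, hsum4 (fun χ => n χ * (charDegree (χ : G → ℂ) : ℤ)) fun χ h => by rw [h, zero_mul]]
  obtain ⟨p, q, r, -, -, -, hrel, hsig, hw⟩ := hK.principal_data Φ
  obtain ⟨sp, sq, sr⟩ := hsig hW
  have hwt : Φ.weight φ = ((∑ i, 1 / (a i : ℚ) : ℚ) : ℂ) := by
    rw [KFrame.weight, hsum4 _ fun χ h => by rw [hn, h, Int.cast_zero, zero_mul]]
    push_cast
    refine Finset.sum_congr rfl fun i _ => ?_
    rw [hn, hT _ (hsupp i), apply_one_eq_charDegree]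
    simp only [ha]
    rcases hone (e i) with h | h | h
    · exact absurd h (hsupp i)
    · rw [h]; push_cast; ring
    · rw [h]; push_cast; ring
  rw [hK.weight_lin Φ hφ, hw, Rat.cast_inj] at hwt
  have h5 := Klein.four_lt h4 h1 hs0
  have h6 := Klein.sum_ge sp sq sr hrel
  linarith

open Classical in
/-- The row of a character agrees modulo two with its part on `W`. -/
theorem row_parity {φ : G → ℂ} (hφ : Φ.Lin φ) (χ : IrrCharacter G) {n : ℤ} (hn : Φ.row φ χ = n)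
    {A : ℤ} (hA : ∑ w ∈ Finset.univ.filter (fun w : G => w ∈ Φ.W), (χ : G → ℂ) (Φ.t * w) * conj (φ w) =
      (Nat.card Φ.W : ℂ) * A) : n % 2 = A % 2 := by
  have hui := Cfsg.Lib.Invol.inv_eq_self Φ.hu
  obtain ⟨x, hx, hsum⟩ := exists_two_mul (f := fun y => (χ : G → ℂ) (Φ.t * y) * conj (φ y)) (s := Φ.Uset)
    (fun y => Φ.u * y * Φ.u) (fun y hy => Φ.mem_Uset.2 (Φ.u_conj_mem (Φ.mem_Uset.1 hy)))
    (fun y _ => by rw [show Φ.u * (Φ.u * y * Φ.u) * Φ.u = (Φ.u * Φ.u) * y * (Φ.u * Φ.u) by group, Φ.uu,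
      one_mul, mul_one])
    (fun y hy => by
      have e : Φ.u * y * Φ.u = Φ.u * y * Φ.u⁻¹ := by rw [hui]
      rw [e, hφ.inv Φ.u Φ.u_mem_C y (Φ.mem_Uset.1 hy), ← Φ.conj_t Φ.u_mem_C, χ.2.isClassFunction])
    (fun y hy => (χ.2.isCharacter.isIntegral _).mul
      ((hφ.irr.isCharacter.isIntegral ⟨y, Φ.mem_Uset.1 hy⟩).map (starRingEnd ℂ).toIntAlgHom))
  rw [show Φ.Uset.filter (fun y => Φ.u * y * Φ.u = y) = Finset.univ.filter (fun w : G => w ∈ Φ.W) by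
    ext y
    simp only [Finset.mem_filter, Finset.mem_univ, true_and, Φ.mem_Uset, fix_iff_commute Φ.uu,
      KFrame.W, Subgroup.mem_inf, mem_centralizer_singleton_iff]
    exact and_congr_right fun _ => ⟨fun h => h.eq.symm, fun h => h.symm⟩, hA] at hsum
  have hU : (Nat.card Φ.U : ℂ) ≠ 0 := Nat.cast_ne_zero.2 Nat.card_pos.ne'
  rw [KFrame.row, hsum, inv_mul_eq_iff_eq_mul₀ hU] at hn
  have hxr : x = ((((Nat.card Φ.U : ℤ) * n - (Nat.card Φ.W : ℤ) * A : ℤ) : ℚ) / 2 : ℚ) := by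
    push_cast
    linear_combination hn / 2
  rw [hxr] at hx
  obtain ⟨m, hm⟩ := Char.exists_int_of_isIntegral_rat hx
  have hm' : (Nat.card Φ.U : ℤ) * n - (Nat.card Φ.W : ℤ) * A = 2 * m := by
    rw [div_eq_iff two_ne_zero] at hm
    have h2 : (((Nat.card Φ.U : ℤ) * n - (Nat.card Φ.W : ℤ) * A : ℤ) : ℚ) = ((2 * m : ℤ) : ℚ) := by
      push_cast at hm ⊢
      linarith
    exact_mod_cast h2
  obtain ⟨a, ha⟩ := Φ.odd_card_U
  obtain ⟨b, hb⟩ := Φ.odd_card_U.of_dvd_nat (Subgroup.card_dvd_of_le Φ.W_le_U)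
  rw [ha, hb] at hm'
  push_cast at hm'
  have e1 : (2 * (a : ℤ) + 1) * n = n + 2 * (a * n) := by ring
  have e2 : (2 * (b : ℤ) + 1) * A = A + 2 * (b * A) := by ring
  omega

open Classical in
/-- Linear characters related by `g` on `W` have rows of the same parity. -/
theorem parity_next {φ φ' : G → ℂ} (hφ : Φ.Lin φ) (hφ' : Φ.Lin φ')
    (hrel : ∀ w ∈ Φ.W, φ' w = φ (Φ.g * w * Φ.g⁻¹)) (χ : IrrCharacter G) {n n' : ℤ}
    (hn : Φ.row φ χ = n) (hn' : Φ.row φ' χ = n') : n % 2 = n' % 2 := by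
  have hch : IsCharacter ↥Φ.W (fun w : ↥Φ.W => φ w) :=
    hφ.irr.isCharacter.comp (Subgroup.inclusion Φ.W_le_U)
  obtain ⟨a, b, h1, h2⟩ := exists_eigen_mult χ.2.isCharacter Φ.W Φ.tt (Cfsg.Lib.Invol.ne_one Φ.ht)
    (fun w hw => Φ.commute_t (Φ.W_le_U hw)) (ψ := φ) hch
  obtain ⟨a', b', h1', h2'⟩ := exists_eigen_mult χ.2.isCharacter Φ.W Φ.uu (Cfsg.Lib.Invol.ne_one Φ.hu)
    (fun w hw => Φ.commute_u hw) (ψ := φ) hch
  have hsame : ((a : ℤ) + b) = (a' : ℤ) + b' := by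
    have h := h1.symm.trans h1'
    have hW : (Nat.card Φ.W : ℂ) ≠ 0 := Nat.cast_ne_zero.2 Nat.card_pos.ne'
    have := mul_left_cancel₀ hW h
    exact_mod_cast this
  have hA' : ∑ w ∈ Finset.univ.filter (fun w : G => w ∈ Φ.W), (χ : G → ℂ) (Φ.t * w) * conj (φ' w) =
      (Nat.card Φ.W : ℂ) * (((a' : ℤ) - b' : ℤ) : ℂ) := by
    push_cast
    rw [← h2']
    refine Finset.sum_bij' (fun w _ => Φ.g * w * Φ.g⁻¹) (fun w _ => Φ.g⁻¹ * w * Φ.g) ?_ ?_ ?_ ?_ ?_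
    · intro w hw
      simpa using hK.g_conj_mem_W Φ (Finset.mem_filter.1 hw).2
    · intro w hw
      simpa using hK.g_inv_conj_mem_W Φ (Finset.mem_filter.1 hw).2
    · intro w _; group
    · intro w _; group
    · intro w hw
      rw [hrel w (Finset.mem_filter.1 hw).2]
      congr 1
      rw [show Φ.u * (Φ.g * w * Φ.g⁻¹) = Φ.g * (Φ.t * w) * Φ.g⁻¹ by rw [← Φ.gt]; group]
      exact (χ.2.isClassFunction _ _).symm
  have p1 := hK.row_parity Φ hφ χ hn (A := (a : ℤ) - b) (by push_cast; exact h2)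
  have p2 := hK.row_parity Φ hφ' χ hn' hA'
  omega

/-- No orbit of three. -/
theorem lin_moved (hW : Φ.W ≠ ⊥) {φ₀ φ₁ φ₂ : G → ℂ} (h₀ : Φ.Lin φ₀) (h₁ : Φ.Lin φ₁) (h₂ : Φ.Lin φ₂)
    (r₁ : ∀ w ∈ Φ.W, φ₁ w = φ₀ (Φ.g * w * Φ.g⁻¹)) (r₂ : ∀ w ∈ Φ.W, φ₂ w = φ₁ (Φ.g * w * Φ.g⁻¹))
    (r₀ : ∀ w ∈ Φ.W, φ₀ w = φ₂ (Φ.g * w * Φ.g⁻¹))
    {y₀₁ y₀₂ y₁₂ : G} (m₀₁ : y₀₁ ∈ Φ.U) (m₀₂ : y₀₂ ∈ Φ.U) (m₁₂ : y₁₂ ∈ Φ.U)
    (d₀₁ : φ₀ y₀₁ ≠ φ₁ y₀₁) (d₀₂ : φ₀ y₀₂ ≠ φ₂ y₀₂) (d₁₂ : φ₁ y₁₂ ≠ φ₂ y₁₂) : False := by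
  classical
  haveI : Fact (Nat.Prime 2) := ⟨Nat.prime_two⟩
  obtain ⟨M, hM⟩ := exists_isPModular Nat.prime_two
  obtain ⟨P, hP, -⟩ := hK.exists_kleinCond Φ
  obtain ⟨n₀, hn₀, one₀, card₀, deg₀⟩ := hK.lin_row Φ h₀
  obtain ⟨n₁, hn₁, one₁, -, deg₁⟩ := hK.lin_row Φ h₁
  obtain ⟨n₂, hn₂, one₂, -, deg₂⟩ := hK.lin_row Φ h₂
  set θ : Fin 3 → G → ℂ := ![φ₀, φ₁, φ₂] with hθ
  have hlin : ∀ i, Φ.Lin (θ i) := fun i => by fin_cases i <;> simpa [hθ]
  have horth : ∀ i j, i ≠ j → ∑ y ∈ Φ.Uset, θ i y * conj (θ j y) = 0 := by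
    intro i j hij
    fin_cases i <;> fin_cases j <;> simp [hθ] at hij ⊢
    · exact h₀.orth h₁ m₀₁ d₀₁
    · exact h₀.orth h₂ m₀₂ d₀₂
    · exact h₁.orth h₀ m₀₁ d₀₁.symm
    · exact h₁.orth h₂ m₁₂ d₁₂
    · exact h₂.orth h₀ m₀₂ d₀₂.symm
    · exact h₂.orth h₁ m₁₂ d₁₂.symm
  have hfam : Φ.Family θ := by
    refine ⟨fun i => (hlin i).inv, fun i => (hlin i).irr, horth, fun w hw => ?_⟩
    have key : ∀ w ∈ Φ.W, ∑ i, θ i (Φ.g * w * Φ.g⁻¹) = ∑ i, θ i w := fun w hw => by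
      simp only [hθ, Fin.sum_univ_three, Matrix.cons_val_zero, Matrix.cons_val_one, Matrix.cons_val]
      rw [← r₁ w hw, ← r₂ w hw, ← r₀ w hw]
      ring
    have h := key _ (hK.g_inv_conj_mem_W Φ hw)
    rw [show Φ.g * (Φ.g⁻¹ * w * Φ.g) * Φ.g⁻¹ = w by group] at h
    rw [key w hw, ← h]
  set x : IrrCharacter G → ℤ := fun χ => (charDegree (χ : G → ℂ) : ℤ) with hx
  set S := Finset.univ.filter fun χ => n₀ χ ≠ 0 with hS
  have hsame : ∀ χ, n₀ χ % 2 = n₁ χ % 2 ∧ n₁ χ % 2 = n₂ χ % 2 := fun χ =>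
    ⟨hK.parity_next Φ h₀ h₁ r₁ χ (hn₀ χ) (hn₁ χ), hK.parity_next Φ h₁ h₂ r₂ χ (hn₁ χ) (hn₂ χ)⟩
  have hout : ∀ χ ∉ S, n₀ χ = 0 ∧ n₁ χ = 0 ∧ n₂ χ = 0 := fun χ hχ => by
    have h0 : n₀ χ = 0 := by simpa [hS] using hχ
    obtain ⟨e1, e2⟩ := hsame χ
    refine ⟨h0, ?_, ?_⟩
    · rcases one₁ χ with h | h | h <;> omega
    · rcases one₂ χ with h | h | h <;> rcases one₁ χ with h' | h' | h' <;> omega
  have hin : ∀ χ ∈ S, (n₀ χ = 1 ∨ n₀ χ = -1) ∧ (n₁ χ = 1 ∨ n₁ χ = -1) ∧ (n₂ χ = 1 ∨ n₂ χ = -1) :=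
    fun χ hχ => by
      have h0 : n₀ χ ≠ 0 := (Finset.mem_filter.1 hχ).2
      obtain ⟨e1, e2⟩ := hsame χ
      rcases one₀ χ with h | h | h <;> rcases one₁ χ with h' | h' | h' <;>
        rcases one₂ χ with h'' | h'' | h'' <;> omega
  have hrows : ∀ {a b : IrrCharacter G → ℤ} {α β : G → ℂ}, Φ.Lin β → (∀ χ, Φ.row α χ = a χ) →
      (∀ χ, Φ.row β χ = b χ) → (∀ χ ∉ S, a χ = 0) → ∑ y ∈ Φ.Uset, β y * conj (α y) = 0 →
      ∑ χ ∈ S, a χ * b χ = 0 := by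
    intro a b α β hβ ha hb hza h0
    have h := Φ.gram hK (θ := α) (θ' := β) hβ.inv
    simp only [ha, hb, map_intCast, h0, mul_zero] at h
    rw [Finset.sum_subset (Finset.subset_univ S) fun χ _ hχ => by rw [hza χ hχ, zero_mul]]
    exact_mod_cast h
  have o01 := hrows h₁ hn₀ hn₁ (fun χ h => (hout χ h).1) (horth 1 0 (by decide))
  have o02 := hrows h₂ hn₀ hn₂ (fun χ h => (hout χ h).1) (horth 2 0 (by decide))
  have o12 := hrows h₂ hn₁ hn₂ (fun χ h => (hout χ h).2.1) (horth 2 1 (by decide))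
  have hd : ∀ {a : IrrCharacter G → ℤ}, ∑ χ, a χ * x χ = 0 → (∀ χ ∉ S, a χ = 0) → ∑ χ ∈ S, a χ * x χ = 0 :=
    fun h hz => by rw [Finset.sum_subset (Finset.subset_univ S) fun χ _ hχ => by rw [hz χ hχ, zero_mul], h]
  have e0 := hd deg₀ fun χ h => (hout χ h).1
  have e1 := hd deg₁ fun χ h => (hout χ h).2.1
  have e2 := hd deg₂ fun χ h => (hout χ h).2.2
  have hker : ∀ χ ∈ S, ∀ η ∈ S, (1 + (n₀ χ * n₁ χ) * (n₀ η * n₁ η)) * (1 + (n₀ χ * n₂ χ) * (n₀ η * n₂ η)) =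
      if η = χ then 4 else 0 := by
    intro χ hχ
    set K : IrrCharacter G → ℤ := fun η =>
      (1 + (n₀ χ * n₁ χ) * (n₀ η * n₁ η)) * (1 + (n₀ χ * n₂ χ) * (n₀ η * n₂ η)) with hKdef
    have hsum : ∑ η ∈ S, K η = 4 := by
      rw [Finset.sum_congr rfl (g := fun η => 1 + (n₀ χ * n₁ χ) * (n₀ η * n₁ η) +
        (n₀ χ * n₂ χ) * (n₀ η * n₂ η) + (n₁ χ * n₂ χ) * (n₁ η * n₂ η)) fun η hη => by
          have q1 : n₀ χ * n₀ χ = 1 := by rcases (hin χ hχ).1 with h | h <;> rw [h] <;> norm_num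
          have q2 : n₀ η * n₀ η = 1 := by rcases (hin η hη).1 with h | h <;> rw [h] <;> norm_num
          simp only [hKdef]
          linear_combination (n₁ χ * n₂ χ * n₁ η * n₂ η * (n₀ η * n₀ η)) * q1 +
            (n₁ χ * n₂ χ * n₁ η * n₂ η) * q2]
      simp only [Finset.sum_add_distrib, ← Finset.mul_sum, o01, o02, o12, mul_zero, add_zero,
        Finset.sum_const, card₀]
      norm_num
    have hnn : ∀ η ∈ S, 0 ≤ K η := fun η hη => by
      obtain ⟨a1, a2, a3⟩ := hin χ hχ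
      obtain ⟨b1, b2, b3⟩ := hin η hη
      rcases a1 with h | h <;> rcases a2 with h' | h' <;> rcases a3 with h'' | h'' <;>
        rcases b1 with k | k <;> rcases b2 with k' | k' <;> rcases b3 with k'' | k'' <;>
        simp [hKdef, h, h', h'', k, k', k'']
    have hself : K χ = 4 := by
      obtain ⟨a1, a2, a3⟩ := hin χ hχ
      rcases a1 with h | h <;> rcases a2 with h' | h' <;> rcases a3 with h'' | h'' <;>
        simp [hKdef, h, h', h'']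
    rw [← Finset.add_sum_erase _ _ hχ, hself, add_eq_left,
      Finset.sum_eq_zero_iff_of_nonneg fun η hη => hnn η (Finset.mem_of_mem_erase hη)] at hsum
    intro η hη
    by_cases h : η = χ
    · rw [if_pos h, h]; exact hself
    · rw [if_neg h]; exact hsum η (Finset.mem_erase.2 ⟨h, hη⟩)
  set R : ℤ := ∑ η ∈ S, n₀ η * n₁ η * n₂ η * x η with hR
  have hxR : ∀ χ ∈ S, 4 * x χ = (n₀ χ * n₁ χ * n₂ χ) * R := by
    intro χ hχ
    have h : ∑ η ∈ S, (1 + (n₀ χ * n₁ χ) * (n₀ η * n₁ η)) * (1 + (n₀ χ * n₂ χ) * (n₀ η * n₂ η)) *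
        (n₀ χ * (n₀ η * x η)) = 4 * x χ := by
      rw [Finset.sum_congr rfl fun η hη => by rw [hker χ hχ η hη]]
      simp only [ite_mul, zero_mul, Finset.sum_ite_eq', hχ, if_true]
      rcases (hin χ hχ).1 with h | h <;> rw [h] <;> ring
    rw [← h, hR, Finset.mul_sum]
    have z0 : ∑ η ∈ S, n₀ χ * (n₀ η * x η) = 0 := by rw [← Finset.mul_sum, e0, mul_zero]
    have z1 : ∑ η ∈ S, n₁ χ * (n₁ η * x η) = 0 := by rw [← Finset.mul_sum, e1, mul_zero]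
    have z2 : ∑ η ∈ S, n₂ χ * (n₂ η * x η) = 0 := by rw [← Finset.mul_sum, e2, mul_zero]
    have hrest : ∑ η ∈ S, (n₀ χ * (n₀ η * x η) + n₁ χ * (n₁ η * x η) + n₂ χ * (n₂ η * x η)) = 0 := by
      rw [Finset.sum_add_distrib, Finset.sum_add_distrib, z0, z1, z2]; norm_num
    rw [← sub_eq_zero, ← Finset.sum_sub_distrib]
    refine Eq.trans (Finset.sum_congr rfl fun η hη => ?_) hrest
    obtain ⟨a1, a2, a3⟩ := hin χ hχ
    obtain ⟨b1, b2, b3⟩ := hin η hη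
    rcases a1 with h | h <;> rcases b1 with k | k <;> rw [h, k] <;> ring
  have hpos : ∀ χ : IrrCharacter G, 0 < x χ := fun χ => Int.natCast_pos.2 (charDegree_pos χ)
  obtain ⟨χ₀, hχ₀⟩ : ∃ χ₀, χ₀ ∈ S := Finset.card_pos.1 (by rw [hS, card₀]; norm_num)
  obtain ⟨σ, hσ⟩ : ∃ σ, σ = n₀ χ₀ * n₁ χ₀ * n₂ χ₀ := ⟨_, rfl⟩
  have hconst : ∀ χ ∈ S, n₀ χ * n₁ χ * n₂ χ = σ ∧ x χ = x χ₀ := by
    intro χ hχ
    have p := hxR χ hχ
    have p0 := hxR χ₀ hχ₀
    have := hpos χ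
    have := hpos χ₀
    obtain ⟨a1, a2, a3⟩ := hin χ hχ
    obtain ⟨b1, b2, b3⟩ := hin χ₀ hχ₀
    have v : ∀ {a b c : ℤ}, (a = 1 ∨ a = -1) → (b = 1 ∨ b = -1) → (c = 1 ∨ c = -1) →
        a * b * c = 1 ∨ a * b * c = -1 := by
      intro a b c ha hb hc
      rcases ha with rfl | rfl <;> rcases hb with rfl | rfl <;> rcases hc with rfl | rfl <;> norm_num
    rcases v a1 a2 a3 with v1 | v1 <;> rcases v b1 b2 b3 with v2 | v2 <;>
      rw [v1] at p ⊢ <;> rw [v2] at p0 <;> rw [hσ, v2] <;> constructor <;> omega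
  have hT : ∀ χ ∈ S, (χ : G → ℂ) Φ.t = ((n₀ χ + n₁ χ + n₂ χ : ℤ) : ℂ) := by
    intro χ hχ
    obtain ⟨a1, a2, a3⟩ := hin χ hχ
    have hodd : Odd (∑ i : Fin 3, ![n₀ χ, n₁ χ, n₂ χ] i) := by
      simp only [Fin.sum_univ_three, Matrix.cons_val_zero, Matrix.cons_val_one, Matrix.cons_val]
      rcases a1 with h | h <;> rcases a2 with h' | h' <;> rcases a3 with h'' | h'' <;>
        simp [h, h', h'', Int.odd_iff]
    have h := hK.section_values Φ hfam χ ![n₀ χ, n₁ χ, n₂ χ]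
      (fun i => by fin_cases i <;> simp [hθ, hn₀, hn₁, hn₂]) hodd (one_mem Φ.U)
    rw [mul_one] at h
    rw [h]
    simp [hθ, Fin.sum_univ_three, h₀.map_one, h₁.map_one, h₂.map_one]
  have hTsum : ∑ χ ∈ S, n₀ χ * (n₀ χ + n₁ χ + n₂ χ) * (n₀ χ + n₁ χ + n₂ χ) = 8 * σ := by
    have hx0 : x χ₀ ≠ 0 := (hpos χ₀).ne'
    have f : ∀ a : IrrCharacter G → ℤ, ∑ χ ∈ S, a χ * x χ = 0 → ∑ χ ∈ S, a χ = 0 := fun a h => by
      rw [Finset.sum_congr rfl (g := fun χ => a χ * x χ₀) fun χ hχ => by rw [(hconst χ hχ).2],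
        ← Finset.sum_mul] at h
      exact (mul_eq_zero.1 h).resolve_right hx0
    rw [Finset.sum_congr rfl (g := fun χ => 3 * n₀ χ + 2 * n₁ χ + 2 * n₂ χ + 2 * σ) fun χ hχ => by
      rw [← (hconst χ hχ).1]
      obtain ⟨a1, a2, a3⟩ := hin χ hχ
      rcases a1 with h | h <;> rcases a2 with h' | h' <;> rcases a3 with h'' | h'' <;> simp [h, h', h'']]
    simp only [Finset.sum_add_distrib, ← Finset.mul_sum, f n₀ e0, f n₁ e1, f n₂ e2, Finset.sum_const]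
    rw [hS, card₀]
    ring
  obtain ⟨p, q, r, -, -, -, hrel, hsig, hw⟩ := hK.principal_data Φ
  obtain ⟨sp, sq, sr⟩ := hsig hW
  have hwt : Φ.weight φ₀ = ((8 * σ / x χ₀ : ℚ) : ℂ) := by
    rw [KFrame.weight, ← Finset.sum_subset (Finset.subset_univ S) fun χ _ hχ => by
      rw [hn₀, (hout χ hχ).1, Int.cast_zero, zero_mul]]
    rw [Finset.sum_congr rfl (g := fun χ => ((n₀ χ * (n₀ χ + n₁ χ + n₂ χ) * (n₀ χ + n₁ χ + n₂ χ) : ℤ) : ℂ) *
      (1 / (x χ₀ : ℂ))) fun χ hχ => by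
        rw [hn₀, hT χ hχ, apply_one_eq_charDegree, ← (hconst χ hχ).2, hx]
        push_cast
        ring]
    rw [← Finset.sum_mul, ← Int.cast_sum, hTsum]
    push_cast
    ring
  rw [hK.weight_lin Φ h₀, hw, Rat.cast_inj] at hwt
  have hge := Klein.sum_ge sp sq sr hrel
  have hle := Klein.sum_le sp.1 sq.1 sr.1 sp.2.1 sq.2.1 sr.2.1 hrel
  obtain ⟨hne7, hne11⟩ := Klein.not_eight sp sq sr hrel
  rw [hwt] at hge hle hne7 hne11
  have hx0 : (0 : ℚ) < x χ₀ := by exact_mod_cast hpos χ₀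
  have hσ1 : σ = 1 := by
    obtain ⟨a1, a2, a3⟩ := hin χ₀ hχ₀
    rcases a1 with h | h <;> rcases a2 with h' | h' <;> rcases a3 with h'' | h'' <;>
      simp only [h, h', h''] at hσ <;> norm_num at hσ <;> first
        | exact hσ
        | (exfalso; rw [hσ, le_div_iff₀ hx0] at hge; push_cast at hge; linarith)
  rw [hσ1] at hge hle hne7 hne11
  push_cast at hge hle hne7 hne11
  rw [le_div_iff₀ hx0] at hge
  rw [div_le_iff₀ hx0] at hle
  have hlo : 6 ≤ x χ₀ := by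
    have : (5 : ℚ) < x χ₀ := by linarith
    exact_mod_cast this
  have hhi : x χ₀ ≤ 11 := by
    have : (x χ₀ : ℚ) < 12 := by linarith
    have : x χ₀ < 12 := by exact_mod_cast this
    omega
  have hcongr := klein_degree_congr hM hP Φ.ht χ₀ (hT χ₀ hχ₀)
  have hxv : x χ₀ = 7 ∨ x χ₀ = 11 := by
    obtain ⟨a1, a2, a3⟩ := hin χ₀ hχ₀
    have hxx : x χ₀ = (charDegree (χ₀ : G → ℂ) : ℤ) := rfl
    rcases a1 with h | h <;> rcases a2 with h' | h' <;> rcases a3 with h'' | h'' <;>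
      simp only [h, h', h''] at hσ hcongr <;> omega
  rcases hxv with h | h <;> rw [h] at hne7 hne11 <;> simp at hne7 hne11

end KMin

end Cfsg.Lib.GW
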