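import Cfsg.Agent.Lib.GW.Klein.NoOvergroup

/-!
# Gorenstein–Walter, Sylow four groups: the self-centralizing case
-/

set_option autoImplicit false
set_option linter.style.haveILetI false

namespace Cfsg.Lib.GW

open Subgroup

universe u

variable {G : Type u} [Group G] [Finite G]

theorem KMin.exists_frame_at (hK : KMin G) {t : G} (ht : orderOf t = 2) :
    ∃ Φ : KFrame G, Φ.t = t := by
  haveI : Fact (Nat.Prime 2) := ⟨Nat.prime_two⟩
  obtain ⟨Ψ⟩ := hK.exists_frame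
  obtain ⟨a, ha⟩ := isConj_iff.1 (hK.min.oneClass _ t Ψ.ht ht)
  refine ⟨⟨a * Ψ.t * a⁻¹, a * Ψ.u * a⁻¹, a * Ψ.g * a⁻¹, ?_, ?_, ?_, ?_, ?_, ?_⟩, ha⟩
  · rw [Cfsg.Lib.Invol.orderOf_conj_eq, Ψ.ht]
  · rw [Cfsg.Lib.Invol.orderOf_conj_eq, Ψ.hu]
  · exact fun h => Ψ.hne (mul_left_cancel (mul_right_cancel h))
  · exact fixed_conj Ψ.hc
  · conv_rhs => rw [← Ψ.gt]
    group
  · rw [show a * Ψ.t * a⁻¹ * (a * Ψ.u * a⁻¹) = a * (Ψ.t * Ψ.u) * a⁻¹ by group, ← Ψ.gu]
    group

/-- With self-centralizing four groups there is no counterexample with Sylow subgroups of order four. -/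
theorem KMin.not_selfCentralizing (hK : KMin G) : ¬ KleinSelfCentralizing G := by
  intro hV
  haveI := hK.min.isSimple
  haveI : Fact (Nat.Prime 2) := ⟨Nat.prime_two⟩
  refine hK.not_gw (hK.min.isGW_of_normalizer_le hV fun t ht Y hY hY1 => ?_)
  obtain ⟨Φ, rfl⟩ := hK.exists_frame_at ht
  set C := centralizer ({Φ.t} : Set G) with hC
  set O := (Cfsg.oddCore C).map C.subtype with hO
  have hu := fun {w : G} (hw : orderOf w = 2) (hne : w ≠ Φ.t) (hc : Commute w Φ.t) {y : G} (hy : y ∈ O) =>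
    hK.min.inverts_core hV Φ.ht hw hne hc hy
  have habel : ∀ a ∈ O, ∀ b ∈ O, Commute a b := by
    intro a ha b hb
    have h1 := hu Φ.hu Φ.hne Φ.hc.symm (mul_mem ha hb)
    rw [show Φ.u * (a * b) * Φ.u⁻¹ = (Φ.u * a * Φ.u⁻¹) * (Φ.u * b * Φ.u⁻¹) by group,
      hu Φ.hu Φ.hne Φ.hc.symm ha, hu Φ.hu Φ.hne Φ.hc.symm hb, ← mul_inv_rev, inv_inj] at h1
    exact h1.symm
  have hnorm : C ≤ normalizer (Y : Set G) := by
    intro c hc
    obtain ⟨P⟩ : Nonempty (Sylow 2 ↥C) := inferInstance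
    obtain ⟨w, hw, x, hx, hwx⟩ := Cfsg.Lib.Fusion.exists_mul_of_sylow P (⟨c, hc⟩ : ↥C)
    have hxO : (x : G) ∈ O := mem_map_of_mem C.subtype (Cfsg.Lib.ZStar.le_oddCore inferInstance
      (Nat.coprime_two_right.1 (Cfsg.Lib.Fusion.hasNormalPComplement_iff_coprime.1
        (hK.min.centralizer_complement Φ.ht))) hx)
    have hxn : (x : G) ∈ normalizer (Y : Set G) :=
      Cfsg.Lib.Fusion.le_normalizer_of_conj_mem fun y hy => by
        rwa [(habel _ hxO y (hY hy)).eq, mul_inv_cancel_right]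
    have hww : (w : G) * w = 1 := by
      obtain ⟨R, hR⟩ := (P.2.map C.subtype).exists_le_sylow
      exact (hK.sylow_klein R).sq _ (hR (mem_map_of_mem C.subtype hw))
    have hwn : (w : G) ∈ normalizer (Y : Set G) := by
      refine Cfsg.Lib.Fusion.le_normalizer_of_conj_mem fun y hy => ?_
      have hyC : y * Φ.t = Φ.t * y := by
        obtain ⟨y', -, rfl⟩ := hY hy
        exact mem_centralizer_singleton_iff.1 y'.2
      by_cases h1 : (w : G) = 1
      · simpa [h1] using hy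
      by_cases h2 : (w : G) = Φ.t
      · rw [h2, ← hyC, mul_inv_cancel_right]; exact hy
      rw [hu (Cfsg.Lib.Invol.orderOf_eq_two_of h1 hww) h2 (mem_centralizer_singleton_iff.1 w.2) (hY hy)]
      exact inv_mem hy
    rw [show c = (w : G) * (x : G) from congrArg Subtype.val hwx]
    exact mul_mem hwn hxn
  have htop : Y ≠ ⊤ := by
    refine ne_of_lt (lt_of_le_of_lt (hY.trans (map_subtype_le _)) (lt_top_iff_ne_top.2 fun h => ?_))
    have hz : Φ.t ∈ center G := mem_center_iff.2 fun x => mem_centralizer_singleton_iff.1 (h.ge (mem_top x))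
    rcases IsSimpleGroup.eq_bot_or_eq_top_of_normal (center G) inferInstance with h' | h'
    · exact Cfsg.Lib.Invol.ne_one Φ.ht (mem_bot.1 (h' ▸ hz))
    · exact hK.min.nonab ⟨⟨fun a b => mem_center_iff.1 (h' ▸ mem_top b) a⟩⟩
  exact (hK.eq_centralizer Φ hnorm (hK.normalizer_ne_top hY1 htop)).le

end Cfsg.Lib.GW
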