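import Cfsg.Agent.Lib.GW.Klein.PreShape
import Cfsg.Agent.Lib.GW.Klein.SelfCentralizing
import Cfsg.Agent.Lib.GW.Klein.HeiChar

/-!
# Gorenstein–Walter, Sylow four groups: the conclusion

A minimal counterexample with Sylow four groups has a four group whose centralizer is larger, so `W ≠ ⊥`;
some frame then centralizes `W`, and `O_q(C)` yields the Heisenberg configuration, which is impossible.
-/

set_option autoImplicit false
set_option linter.style.haveILetI false

namespace Cfsg.Lib.GW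

open Cfsg Subgroup

universe u

/-- Some frame has `W ≠ ⊥`. -/
theorem KMin.exists_frame_W {G : Type u} [Group G] [Finite G] (hK : KMin G) :
    ∃ Φ : KFrame G, Φ.W ≠ ⊥ := by
  classical
  have hsc := hK.not_selfCentralizing
  simp only [KleinSelfCentralizing, not_forall] at hsc
  obtain ⟨V, hV, hle⟩ := hsc
  haveI := hV
  obtain ⟨x, hx, hxV⟩ := SetLike.not_le_iff_exists.1 hle
  obtain ⟨a, b, ha, hb, ha1, hb1, hne⟩ : ∃ a b : G, a ∈ V ∧ b ∈ V ∧ a ≠ 1 ∧ b ≠ 1 ∧ b ≠ a := by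
    letI := Fintype.ofFinite V
    have h4 : Fintype.card V = 4 := by rw [← Nat.card_eq_fintype_card, IsKleinFour.card_four]
    obtain ⟨a, ha⟩ := Fintype.exists_ne_of_one_lt_card (by omega) (1 : V)
    obtain ⟨b, -, hb⟩ := Finset.exists_mem_notMem_of_card_lt_card
      (s := ({1, a} : Finset V)) (t := (Finset.univ : Finset V))
      (by rw [Finset.card_univ, h4]; exact lt_of_le_of_lt Finset.card_le_two (by norm_num))
    simp only [Finset.mem_insert, Finset.mem_singleton, not_or] at hb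
    exact ⟨a, b, a.2, b.2, fun h => ha (Subtype.ext h), fun h => hb.1 (Subtype.ext h),
      fun h => hb.2 (Subtype.ext h)⟩
  have hns : ¬ Group.IsSolvable (⊤ : Subgroup G) := fun h => hK.min.not_isSolvable
    (haveI := h; solvable_of_surjective (f := (topEquiv : (⊤ : Subgroup G) ≃* G).toMonoidHom) topEquiv.surjective)
  have hoa : orderOf a = 2 := Cfsg.Lib.Invol.orderOf_eq_two_of ha1 (Cfsg.Lib.Invol.klein_mul_self ha)
  have hob : orderOf b = 2 := Cfsg.Lib.Invol.orderOf_eq_two_of hb1 (Cfsg.Lib.Invol.klein_mul_self hb)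
  obtain ⟨g, -, h1, h2⟩ := hK.exists_cycle hoa hob hne (Cfsg.Lib.Invol.klein_comm ha hb) ⊤ (mem_top _)
    (mem_top _) hns
  let Φ : KFrame G := ⟨a, b, g, hoa, hob, hne, Cfsg.Lib.Invol.klein_comm ha hb, h1, h2⟩
  have hxa : Commute Φ.t x := mem_centralizer_iff.1 hx a ha
  have hxb : Commute Φ.u x := mem_centralizer_iff.1 hx b hb
  obtain ⟨v, hv, y, hy, rfl⟩ := hK.exists_mul_of_mem_C Φ (Φ.mem_C.2 hxa)
  haveI := Φ.klein
  have hvu : Commute Φ.u v := Cfsg.Lib.Invol.klein_comm Φ.u_mem hv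
  have hyW : y ∈ Φ.W := by
    refine ⟨hy, mem_centralizer_singleton_iff.2 ?_⟩
    have := hvu.inv_right.mul_right hxb
    rw [inv_mul_cancel_left] at this
    exact this.symm.eq
  refine ⟨Φ, fun h => hxV ?_⟩
  rw [h, mem_bot] at hyW
  subst hyW
  rw [mul_one]
  exact Φ.V_le (H := V) ha hb hv

/-- The case of Sylow 2-subgroups of order four. -/
theorem kleinCase : KleinCase.{u} := by
  intro G _ _ hG h8
  by_contra hgw
  have hK : KMin G := ⟨hG, h8, hgw⟩
  obtain ⟨Φ, hW⟩ := hK.exists_frame_W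
  obtain ⟨Ψ, -, -, hΨW, hg⟩ := (hK.bad Φ hW).exists_frame
  have hWΨ : Ψ.W ≠ ⊥ := hΨW ▸ hW
  obtain ⟨q, hq, ⟨p⟩⟩ := hK.exists_pre Ψ hg hWΨ
  haveI := hq
  obtain ⟨h⟩ := hK.nonempty_hei Ψ hg hWΨ p
  letI := Fintype.ofFinite G
  exact hei_false hK Ψ hg h

end Cfsg.Lib.GW
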