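import Cfsg.Agent.Lib.GW.Klein.Overgroup
import Cfsg.Agent.Lib.GW.Free
import Cfsg.Agent.S0664
import Cfsg.Agent.S3071

/-!
# Gorenstein–Walter, Sylow four groups: the centralizer of an involution has no proper overgroup
-/

set_option autoImplicit false
set_option linter.style.haveILetI false

namespace Cfsg.Lib.GW

open Subgroup
open scoped commutatorElement
open Cfsg.Agent.S1312 (Op op_le op_isPGroup le_normalizer_op op_commute le_op normalizer_eq_max)
open Cfsg.Lib.Sig.BenderPair (mem_op_of_fitting op_le_fitting op_le_left centerPart_ne_bot)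

universe u

variable {G : Type u} [Group G] [Finite G]

namespace Over

variable {Φ : KFrame G} {M : Subgroup G} (hK : KMin G) (hO : Over Φ M)

include hK hO in
theorem exists_side : ∃ Ψ : KFrame G, Ψ.t = Φ.t ∧ Over Ψ M ∧
    ∃ r, r.Prime ∧ ∃ z ∈ invSet Ψ M r, z ≠ 1 ∧ Commute Ψ.u z := by
  obtain ⟨r, hr, x, hx, hxt⟩ := exists_moved hK hO
  haveI : Fact r.Prime := ⟨hr⟩
  obtain ⟨z, hz, hz1⟩ := invSet_nontrivial hK hO hx hxt
  by_cases hv : ∃ y ∈ invSet Φ M r, Commute (Φ.t * Φ.u) y ∧ y ≠ 1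
  · obtain ⟨y, hy, hyv, hy1⟩ := hv
    exact ⟨Φ.swap, rfl, hO.swap, r, hr, y, hy, hy1, hyv⟩
  · push Not at hv
    exact ⟨Φ, rfl, hO, r, hr, z, hz, hz1, commute_u_of_no_v Φ (Op r M) (fun w hw => op_odd hK hO hw)
      (fun w hw => hO.conj_u_mem hw) (fun w hw hwt hc => hv w ⟨hw, hwt⟩ hc) hz.1 hz.2⟩

include hK hO in
theorem false_of_one_prime {p : ℕ} [Fact p.Prime]
    (hp : ∀ q, q.Prime → q ≠ p → Op q M = ⊥) : False := by
  haveI := hK.min.isSimple
  haveI : Fact (Nat.Prime 2) := ⟨Nat.prime_two⟩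
  obtain ⟨Ψ, -, hO', r, hr, z, hz, hz1, hzu⟩ := exists_side hK hO
  haveI : Fact r.Prime := ⟨hr⟩
  obtain rfl : r = p := by
    by_contra h
    have := hz.1
    rw [hp r hr h, mem_bot] at this
    exact hz1 this
  have hp2 : r ≠ 2 := by
    rintro rfl
    have := hz.1
    rw [op_two hK hO, mem_bot] at this
    exact hz1 this
  have hFp : (Cfsg.fittingSubgroup ↥M).map M.subtype ≤ Op r M := fitting_le_iff.2 fun q hq => by
    by_cases h : q = r
    · rw [h]
    · rw [hp q hq h]; exact bot_le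
  have hcons : centralizer (Cfsg.pCore r ↥M : Set ↥M) ≤ Cfsg.pCore r ↥M := by
    intro x hx
    have h := hFp (mem_fitting hK hO x.2 fun q hq m hm => ?_)
    · obtain ⟨x', hx', he⟩ := h
      rwa [show x = x' from Subtype.ext he.symm]
    · by_cases h : q = r
      · subst h
        obtain ⟨m', hm', rfl⟩ := hm
        exact (congrArg Subtype.val (mem_centralizer_iff.1 hx m' hm')).symm
      · rw [hp q hq h, mem_bot] at hm
        rw [hm]
        exact Commute.one_right _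
  obtain ⟨S⟩ : Nonempty (Sylow r ↥M) := inferInstance
  set S' : Subgroup G := (S : Subgroup ↥M).map M.subtype with hS'
  set Z := Cfsg.centerThompsonAOf S' with hZdef
  haveI hZn := Cfsg.Agent.S0664.result hp2 (qd_free (hK.min.twoCycDih.subgroup M) hp2) hcons S
  have hZmap : (Cfsg.centerThompsonAOf (S : Subgroup ↥M)).map M.subtype = Z :=
    Cfsg.Lib.Local.GlaubermanZJ.map_centerThompsonAOf' M.subtype (S : Subgroup ↥M) (M.subtype_injective.injOn)
  have hMZ : M ≤ normalizer (Z : Set G) := by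
    intro m hm
    refine Cfsg.Lib.Fusion.le_normalizer_of_conj_mem fun x hx => ?_
    rw [← hZmap] at hx ⊢
    obtain ⟨x', hx', rfl⟩ := hx
    exact ⟨⟨m, hm⟩ * x' * ⟨m, hm⟩⁻¹, hZn.conj_mem x' hx' ⟨m, hm⟩, rfl⟩
  have hS'p : IsPGroup r S' := S.2.map _
  have hzS : z ∈ S' := (map_mono (Cfsg.Lib.Core.pCore_le_sylow S)) hz.1
  have hS'ne : S' ≠ ⊥ := fun h => hz1 (mem_bot.1 (h ▸ hzS))
  have hZne : Z ≠ ⊥ := Cfsg.Lib.Local.GlaubermanZJ.centerThompsonAOf_ne_bot hS'p hS'ne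
  have hZM : Z ≤ M := hZmap ▸ map_subtype_le _
  have hNZ : normalizer (Z : Set G) = M := normalizer_eq_max hO.max hZne hZM hMZ
  obtain ⟨P, hP⟩ := hS'p.exists_le_sylow
  have hPeq : (P : Subgroup G) = S' := by
    by_contra hne
    have hlt : S'.subgroupOf (P : Subgroup G) < ⊤ := lt_top_iff_ne_top.2 fun h =>
      hne (le_antisymm (subgroupOf_eq_top.1 h) hP)
    haveI := P.2.isNilpotent
    obtain ⟨x, hxn, hxnot⟩ := SetLike.exists_of_lt (Group.normalizerCondition_of_isNilpotent _ hlt)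
    have hxn' : (x : G) ∈ normalizer (S' : Set G) := by
      refine Cfsg.Lib.Fusion.le_normalizer_of_conj_mem fun w hw => ?_
      exact mem_subgroupOf.1 ((mem_normalizer_iff.1 hxn ⟨w, hP hw⟩).1 (mem_subgroupOf.2 hw))
    have hxM : (x : G) ∈ M :=
      hNZ ▸ Cfsg.Lib.Local.GlaubermanZJ.normalizer_le_normalizer_centerThompsonAOf S' hxn'
    have h2 : IsPGroup r ↥((P : Subgroup G).subgroupOf M) :=
      P.2.comap_of_injective M.subtype M.subtype_injective
    have hle : (S : Subgroup ↥M) ≤ (P : Subgroup G).subgroupOf M := fun s hs =>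
      mem_subgroupOf.2 (hP (mem_map_of_mem M.subtype hs))
    have hxS : (⟨(x : G), hxM⟩ : ↥M) ∈ (S : Subgroup ↥M) := (S.is_maximal' h2 hle).le (mem_subgroupOf.2 x.2)
    exact hxnot (mem_subgroupOf.2 (mem_map_of_mem M.subtype hxS))
  -- `y = g⁻¹ z g`
  set y := Ψ.g⁻¹ * z * Ψ.g with hy
  have hyt : Commute Ψ.t y := by
    have := fixed_conj (h := Ψ.g⁻¹) hzu
    rwa [inv_inv, Ψ.gu', ← hy] at this
  have hyM : y ∈ M := hO'.mem_of_commute hyt
  obtain ⟨j, hj⟩ := IsPGroup.iff_orderOf.1 (op_isPGroup r M) ⟨z, hz.1⟩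
  rw [← orderOf_coe] at hj
  have hyord : orderOf y = orderOf z := by
    rw [hy, show Ψ.g⁻¹ * z * Ψ.g = Ψ.g⁻¹ * z * (Ψ.g⁻¹)⁻¹ by rw [inv_inv], Cfsg.Lib.Invol.orderOf_conj_eq]
  obtain ⟨T, hT⟩ := (IsPGroup.of_card (n := j) (by rw [Nat.card_zpowers, ← orderOf_coe, hyord, hj]) :
    IsPGroup r (zpowers (⟨y, hyM⟩ : ↥M))).exists_le_sylow
  obtain ⟨m, hm⟩ := MulAction.exists_smul_eq ↥M T S
  have hy1S : (m : G) * y * (m : G)⁻¹ ∈ S' := by
    have : m * ⟨y, hyM⟩ * m⁻¹ ∈ (S : Subgroup ↥M) := by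
      rw [← hm, Sylow.coe_subgroup_smul, Subgroup.mem_smul_pointwise_iff_exists]
      exact ⟨_, hT (mem_zpowers _), rfl⟩
    exact mem_map_of_mem M.subtype this
  obtain ⟨n, hn, hnz⟩ := ((Cfsg.Agent.S3071.result hp2 P (fun Q _ _ => by
      rintro ⟨H, K, hH, -, he⟩
      exact sl_two_free hK.min.twoCycDih hp2 ⟨H, K, hH, he⟩)
    _ (show (m : G) * y * (m : G)⁻¹ ∈ (P : Subgroup G) from hPeq ▸ hy1S) z
    (show z ∈ (P : Subgroup G) from hPeq ▸ hzS)).1 ⟨Ψ.g * (m : G)⁻¹, by rw [hy]; group⟩)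
  rw [hPeq, hNZ] at hn
  set h := n * (m : G) with hh
  have hhM : h ∈ M := mul_mem hn m.2
  have hhy : h * y * h⁻¹ = z := by rw [← hnz, hh]; group
  set h1 := Ψ.t * h * Ψ.t * h⁻¹ with hh1
  have ht1 : Ψ.t⁻¹ = Ψ.t := Cfsg.Lib.Invol.inv_eq_self Ψ.ht
  have htM : Ψ.t ∈ M := hO'.t_mem
  have hh1z : h1 * z * h1⁻¹ = z⁻¹ := by
    have h2 : Ψ.t * h * Ψ.t * y * (Ψ.t * h * Ψ.t)⁻¹ = z⁻¹ := by
      rw [← hz.2, ← hhy, mul_inv_rev, mul_inv_rev, ht1]
      calc Ψ.t * h * Ψ.t * y * (Ψ.t * (h⁻¹ * Ψ.t))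
          = Ψ.t * h * (Ψ.t * y * Ψ.t) * h⁻¹ * Ψ.t := by group
        _ = _ := by rw [fix_of_commute Ψ.tt hyt]; group
    rw [← h2, hh1]
    conv_lhs => rw [← hhy]
    group
  have hh1odd : Odd (orderOf h1) := by
    let tM : ↥M := ⟨Ψ.t, htM⟩
    let hM' : ↥M := ⟨h, hhM⟩
    classical
    letI := Fintype.ofFinite G
    obtain ⟨Q⟩ : Nonempty (Sylow 2 ↥M) := inferInstance
    haveI : IsMulCommutative (Q : Subgroup ↥M) := by
      obtain ⟨R, hR⟩ := (Q.2.map M.subtype).exists_le_sylow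
      haveI := (hK.sylow_klein R).isKleinFour
      exact ⟨⟨fun a b => Subtype.ext (Subtype.ext (Cfsg.Lib.Invol.klein_comm
        (hR (mem_map_of_mem M.subtype a.2)) (hR (mem_map_of_mem M.subtype b.2))))⟩⟩
    have hmem : ⁅tM, hM'⁆ ∈ Cfsg.pResidual 2 ↥M :=
      Cfsg.Lib.Fusion.commutator_le_pResidual_of_abelian Q
        (commutator_mem_commutator (mem_top tM) (mem_top hM'))
    have hres := Nat.coprime_two_right.1
      (Cfsg.Lib.Fusion.hasNormalPComplement_iff_coprime.1 (hK.complement_of_ge Φ.ht hO.le hO.max.1))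
    have he : ((⁅tM, hM'⁆ : ↥M) : G) = h1 := by
      show Ψ.t * h * Ψ.t⁻¹ * h⁻¹ = h1
      rw [hh1, ht1]
    rw [← he, orderOf_coe]
    exact hres.of_dvd_nat (Subgroup.orderOf_dvd_natCard _ hmem)
  have hsq : Commute (h1 * h1) z := by
    show _ = _
    calc h1 * h1 * z = h1 * (h1 * z * h1⁻¹) * h1 := by group
      _ = h1 * z⁻¹ * h1⁻¹ * (h1 * h1) := by rw [hh1z]; group
      _ = z * (h1 * h1) := by
        rw [show h1 * z⁻¹ * h1⁻¹ = (h1 * z * h1⁻¹)⁻¹ by group, hh1z, inv_inv]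
  rw [(commute_of_sq_commute hh1odd hsq).eq, mul_inv_cancel_right] at hh1z
  obtain ⟨k, hk⟩ := exists_pow_sq_eq (op_odd hK hO hz.1)
  rw [mul_eq_one_iff_eq_inv.2 hh1z, one_pow] at hk
  exact hz1 hk.symm

include hK hO in
theorem false_of_anchored (h2 : TwoPrimes M) (hA : Anchored Φ M) {p : ℕ} [Fact p.Prime] {z : G}
    (hz : z ∈ invSet Φ M p) (hz1 : z ≠ 1) (hzu : Commute Φ.u z) : False := by
  classical
  letI := Fintype.ofFinite G
  haveI := hK.min.isSimple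
  haveI : Fact (Nat.Prime 2) := ⟨Nat.prime_two⟩
  set M' := M.map (MulAut.conj Φ.g⁻¹).toMonoidHom with hM'def
  have hmemM' : ∀ {x : G}, Φ.g * x * Φ.g⁻¹ ∈ M → x ∈ M' := fun {x} hx =>
    ⟨_, hx, by
      simp only [MulEquiv.coe_toMonoidHom, MulAut.conj_apply, inv_inv]
      group⟩
  have hvfix : ∀ x, Commute (Φ.t * Φ.u) x → x ∈ M' := fun x hx => hmemM' (hO.mem_of_commute (by
    have := fixed_conj (h := Φ.g) hx
    rwa [Φ.gv] at this))
  -- central eigenvectors in `M'`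
  have meets : ∀ q, q.Prime → Op q M ≠ ⊥ →
      ∃ a ∈ Op q M, a ≠ 1 ∧ a ∈ M' ∧ centralizer ({a} : Set G) ≤ M := by
    intro q hq hqM
    haveI : Fact q.Prime := ⟨hq⟩
    set Z := Op q M ⊓ centralizer (Op q M : Set G) with hZ
    have hZconj : ∀ w ∈ M, w * w = 1 → ∀ c ∈ Z, w * c * w ∈ Z := by
      intro w hw hww c hc
      have hwi : w⁻¹ = w := inv_eq_of_mul_eq_one_right hww
      refine ⟨by have := conj_mem_op hw hc.1; rwa [hwi] at this, mem_centralizer_iff.2 fun d hd => ?_⟩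
      have hd' := mem_centralizer_iff.1 hc.2 _ (show w * d * w ∈ Op q M by
        have := conj_mem_op hw hd; rwa [hwi] at this)
      calc d * (w * c * w) = (w * w) * d * (w * c * w) := by rw [hww, one_mul]
        _ = w * ((w * d * w) * c) * w := by group
        _ = w * (c * (w * d * w)) * w := by rw [hd']
        _ = w * c * w * d * (w * w) := by group
        _ = _ := by rw [hww, mul_one]
    have hcen : ∀ c ∈ Z, ∀ m ∈ Op q M, Commute m c := fun c hc m hm => mem_centralizer_iff.1 hc.2 m hm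
    have htM := hO.t_mem
    have huM := hO.u_mem
    have hvM : Φ.t * Φ.u ∈ M := mul_mem htM huM
    -- an eigenvector for `t`
    have heig : ∀ c ∈ Z, c ≠ 1 → ∃ d ∈ Z, d ≠ 1 ∧
        ((Commute Φ.t d ∧ (Commute (Φ.t * Φ.u) c → Commute (Φ.t * Φ.u) d)) ∨
        (Φ.t * d * Φ.t = d⁻¹ ∧ d = c)) := by
      intro c hc hc1
      by_cases h : c * (Φ.t * c * Φ.t) = 1
      · exact ⟨c, hc, hc1, Or.inr ⟨eq_inv_of_mul_eq_one_right h, rfl⟩⟩
      · have htc : Φ.t * c * Φ.t ∈ Z := hZconj _ htM Φ.tt c hc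
        refine ⟨_, mul_mem hc htc, h, Or.inl ⟨?_, fun hv => hv.mul_right ((?_ : Commute (Φ.t * Φ.u) Φ.t).mul_right hv |>.mul_right ?_)⟩⟩
        · show _ = _
          calc Φ.t * (c * (Φ.t * c * Φ.t)) = (Φ.t * c * Φ.t) * c * Φ.t := by group
            _ = c * (Φ.t * c * Φ.t) * Φ.t := by rw [(hcen _ htc c hc.1).eq]
        · exact (Commute.refl Φ.t).mul_left Φ.hc.symm
        · exact (Commute.refl Φ.t).mul_left Φ.hc.symm
    by_cases hfix : ∃ c ∈ Z, c ≠ 1 ∧ Commute (Φ.t * Φ.u) c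
    · obtain ⟨c, hc, hc1, hcv⟩ := hfix
      obtain ⟨d, hd, hd1, hcase⟩ := heig c hc hc1
      have hdv : Commute (Φ.t * Φ.u) d := by
        rcases hcase with ⟨-, h⟩ | ⟨-, rfl⟩
        · exact h hcv
        · exact hcv
      have hdt : Φ.t * d * Φ.t = d ∨ Φ.t * d * Φ.t = d⁻¹ :=
        hcase.imp (fun h => fix_of_commute Φ.tt h.1) fun h => h.1
      have hdu : Φ.u * d * Φ.u = Φ.t * d * Φ.t := by
        conv_rhs => rw [← fix_of_commute Φ.vv hdv]
        rw [show Φ.t * (Φ.t * Φ.u * d * (Φ.t * Φ.u)) * Φ.t = (Φ.t * Φ.t) * Φ.u * d * (Φ.t * Φ.u * Φ.t) by group,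
          Φ.tt, one_mul, Φ.hc.eq, mul_assoc Φ.u Φ.t Φ.t, Φ.tt, mul_one]
      exact ⟨d, hd.1, hd1, hvfix d hdv,
        centralizer_le_central hK hO h2 hA hd.1 (hcen d hd) hd1 hdt (hdu ▸ hdt)⟩
    push Not at hfix
    have hinv : ∀ c ∈ Z, Φ.t * Φ.u * c * (Φ.t * Φ.u) = c⁻¹ := fun c hc =>
      inverts_of_fixed_trivial Φ.vv (hZconj _ hvM Φ.vv) (fun c hc hcv => by
        by_contra h1
        exact hfix c hc h1 hcv) hc
    obtain ⟨c, hc, hc1⟩ := (bot_or_exists_ne_one Z).resolve_left (centerPart_ne_bot hqM)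
    obtain ⟨d, hd, hd1, hcase⟩ := heig c hc hc1
    -- an element of the `u`-side with centralizer in `M`
    obtain ⟨w, hwt, hwu, hwodd, hwC⟩ : ∃ w : G, Φ.t * w * Φ.t = w⁻¹ ∧ Commute Φ.u w ∧ Odd (orderOf w) ∧
        centralizer ({w} : Set G) ≤ M := by
      rcases hcase with ⟨hdt, -⟩ | ⟨hdt, -⟩
      · refine ⟨z, hz.2, hzu, op_odd hK hO hz.1,
          centralizer_le_side hK hO h2 hA hz.1 hz.2 hzu hz1 (Or.inr ⟨q, hq, d, hd.1, hcen d hd, hd1, hdt, hinv⟩)⟩
      · have hdu : Commute Φ.u d := fixed_u Φ hdt (hinv d hd)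
        exact ⟨d, hdt, hdu, op_odd hK hO hd.1, centralizer_le_central hK hO h2 hA hd.1 (hcen d hd) hd1
          (Or.inr hdt) (Or.inl (fix_of_commute Φ.uu hdu))⟩
    set y := Φ.g⁻¹ * w * Φ.g with hy
    have hyt : Commute Φ.t y := by
      have := fixed_conj (h := Φ.g⁻¹) hwu
      rwa [inv_inv, Φ.gu', ← hy] at this
    have hyv : Φ.t * Φ.u * y * (Φ.t * Φ.u) = y⁻¹ := by
      have := inverted_conj (h := Φ.g⁻¹) hwt
      rwa [inv_inv, Φ.gt', ← hy] at this
    have hyM : y ∈ M := hO.mem_of_commute hyt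
    have hyodd : Odd (orderOf y) := by
      rw [hy, show Φ.g⁻¹ * w * Φ.g = Φ.g⁻¹ * w * (Φ.g⁻¹)⁻¹ by rw [inv_inv], Cfsg.Lib.Invol.orderOf_conj_eq]
      exact hwodd
    have hyd : Commute y d := commute_of_inverted_inverted Φ.vv hyv (hinv d hd) (hinv _ ⟨conj_mem_op hyM hd.1,
      mem_centralizer_iff.2 fun m hm => by
        have := (hcen d hd _ (conj_mem_op (inv_mem hyM) hm)).eq
        calc m * (y * d * y⁻¹) = y * ((y⁻¹ * m * y⁻¹⁻¹) * d) * y⁻¹ := by group
          _ = y * (d * (y⁻¹ * m * y⁻¹⁻¹)) * y⁻¹ := by rw [this]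
          _ = _ := by group⟩) hyodd
    have hdM' : d ∈ M' := hmemM' (hwC (mem_centralizer_singleton_iff.2 (by
      have := hyd.map (MulAut.conj Φ.g).toMonoidHom
      simp only [MulEquiv.coe_toMonoidHom, MulAut.conj_apply, hy] at this
      rw [show Φ.g * (Φ.g⁻¹ * w * Φ.g) * Φ.g⁻¹ = w by group] at this
      exact this.symm.eq)))
    have hdtu : (Φ.t * d * Φ.t = d ∧ Φ.u * d * Φ.u = d⁻¹) ∨ (Φ.t * d * Φ.t = d⁻¹ ∧ Φ.u * d * Φ.u = d) := by
      rcases hcase with ⟨hdt, -⟩ | ⟨hdt, -⟩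
      · exact Or.inl ⟨fix_of_commute Φ.tt hdt, inverted_u Φ hdt (hinv d hd)⟩
      · exact Or.inr ⟨hdt, fix_of_commute Φ.uu (fixed_u Φ hdt (hinv d hd))⟩
    refine ⟨d, hd.1, hd1, hdM', centralizer_le_central hK hO h2 hA hd.1 (hcen d hd) hd1 ?_ ?_⟩
    · exact hdtu.imp And.left And.left
    · rcases hdtu with h | h
      · exact Or.inr h.2
      · exact Or.inl h.2
  have hop' : ∀ q, q.Prime → (Op q M' = ⊥ ↔ Op q M = ⊥) := fun q hq => by
    haveI : Fact q.Prime := ⟨hq⟩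
    rw [hM'def, op_map_conj, Subgroup.map_eq_bot_iff_of_injective _ (MulAut.conj Φ.g⁻¹).injective]
  -- the `A × B` lemma
  have hle : ∀ q, q.Prime → Op q M' ≤ M := by
    intro q hq
    haveI : Fact q.Prime := ⟨hq⟩
    by_cases hqM : Op q M = ⊥
    · rw [(hop' q hq).2 hqM]; exact bot_le
    obtain ⟨a, ha, -, haM', haC⟩ := meets q hq hqM
    obtain ⟨r, hr, hrq, hrM⟩ := h2 q
    haveI : Fact r.Prime := ⟨hr⟩
    obtain ⟨x, hx, -, hxM', hxC⟩ := meets r hr hrM
    have h : ⁅Op q M', zpowers x⁆ = ⊥ := by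
      refine Cfsg.Lib.Coprime.commutator_eq_bot_of_AxB (p := q) (Op q M') (zpowers a) (zpowers x)
        (op_isPGroup q M') ((op_isPGroup q M).to_le (zpowers_le.2 ha)) ?_
        ((zpowers_le.2 haM').trans (le_normalizer_op q M')) ((zpowers_le.2 hxM').trans (le_normalizer_op q M'))
        ?_ ?_
      · obtain ⟨k, hk⟩ := ((op_isPGroup r M).to_le (zpowers_le.2 hx)).exists_card_eq
        rw [hk]
        exact ((Nat.coprime_primes hr hq).2 hrq).pow_left k
      · rw [zpowers_le, zpowers_eq_closure, centralizer_closure]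
        exact mem_centralizer_singleton_iff.2 (op_commute hrq M hx ha)
      · intro c hc
        rw [zpowers_eq_closure, centralizer_closure] at hc ⊢
        have hcM : c ∈ M := haC hc.2
        refine mem_centralizer_singleton_iff.2 ?_
        have hd1 : c * x * c⁻¹ * x⁻¹ ∈ Op r M := mul_mem (conj_mem_op hcM hx) (inv_mem hx)
        have hd2 : c * x * c⁻¹ * x⁻¹ ∈ Op q M' := by
          rw [show c * x * c⁻¹ * x⁻¹ = c * (x * c⁻¹ * x⁻¹) by group]
          exact mul_mem hc.1 (conj_mem_op hxM' (inv_mem hc.1))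
        have := eq_one_of_two_primes hrq (op_isPGroup r M) (op_isPGroup q M') hd1 hd2
        rw [mul_inv_eq_one, mul_inv_eq_iff_eq_mul] at this
        exact this
    intro c hc
    refine hxC (mem_centralizer_singleton_iff.2 ?_)
    exact (mem_centralizer_iff.1 (commutator_eq_bot_iff_le_centralizer.1 h hc) x (mem_zpowers x)).symm
  have hM'max : IsCoatom M' := by
    rw [hM'def]
    exact (OrderIso.isCoatom_iff (MulAut.conj Φ.g⁻¹).mapSubgroup M).2 hO.max
  haveI : Group.IsSolvable M := solvable hK hO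
  have hl' : Cfsg.layer ↥M' = ⊥ := layer_eq_bot_of_solvable
    (solvable_of_surjective (f := (MulAut.conj Φ.g⁻¹).toMonoidHom.subgroupMap M)
      ((MulAut.conj Φ.g⁻¹).toMonoidHom.subgroupMap_surjective M))
  have h2' : TwoPrimes M' := fun p => by
    obtain ⟨q, hq, hqp, hqM⟩ := h2 p
    exact ⟨q, hq, hqp, fun h => hqM ((hop' q hq).1 h)⟩
  obtain ⟨Q, -, hQF, hQN⟩ := leadsTo_fitting hl' (fitting_ne_bot h2') (fitting_le_iff.2 hle)
  have hFM' : (Cfsg.fittingSubgroup ↥M).map M.subtype ≤ M' := fitting_le_iff.2 fun q hq => by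
    haveI : Fact q.Prime := ⟨hq⟩
    by_cases hqM : Op q M = ⊥
    · rw [hqM]; exact bot_le
    obtain ⟨r, hr, hrq, hrM⟩ := h2 q
    haveI : Fact r.Prime := ⟨hr⟩
    exact op_le_left hM'max hQF hQN hrq.symm (fun h => hqM ((hop' q hq).1 h))
      (fun h => hrM ((hop' r hr).1 h))
  have htM' : Φ.t ∈ M' := hmemM' (Φ.gt ▸ hO.u_mem)
  have huM' : Φ.u ∈ M' := hmemM' (Φ.gu ▸ mul_mem hO.t_mem hO.u_mem)
  have heq : M = M' := star hK hO h2 hA hM'max htM' huM' hFM'
  have hgM : Φ.g ∈ M := by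
    have hn : Φ.g⁻¹ ∈ normalizer (M : Set G) :=
      Cfsg.Lib.Fusion.le_normalizer_of_conj_mem fun x hx => by
        have h : Φ.g⁻¹ * x * Φ.g⁻¹⁻¹ ∈ M' := mem_map_of_mem _ hx
        rwa [← heq] at h
    have hne : M ≠ ⊥ := fun h => Cfsg.Lib.Invol.ne_one Φ.ht (mem_bot.1 (h ▸ hO.t_mem))
    rw [normalizer_eq_max hO.max hne le_rfl le_normalizer] at hn
    exact inv_mem_iff.1 hn
  -- `t * u` is then a commutator in `M`
  obtain ⟨R⟩ : Nonempty (Sylow 2 ↥M) := inferInstance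
  haveI : IsMulCommutative (R : Subgroup ↥M) := by
    obtain ⟨P, hP⟩ := (R.2.map M.subtype).exists_le_sylow
    haveI := (hK.sylow_klein P).isKleinFour
    exact ⟨⟨fun a b => Subtype.ext (Subtype.ext (Cfsg.Lib.Invol.klein_comm
      (hP (mem_map_of_mem M.subtype a.2)) (hP (mem_map_of_mem M.subtype b.2))))⟩⟩
  have hmem : ⁅(⟨Φ.g, hgM⟩ : ↥M), (⟨Φ.t, hO.t_mem⟩ : ↥M)⁆ ∈ Cfsg.pResidual 2 ↥M :=
    Cfsg.Lib.Fusion.commutator_le_pResidual_of_abelian R
      (commutator_mem_commutator (mem_top _) (mem_top _))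
  have hres := Nat.coprime_two_right.1
    (Cfsg.Lib.Fusion.hasNormalPComplement_iff_coprime.1 (hK.complement_of_ge Φ.ht hO.le hO.max.1))
  have he : ((⁅(⟨Φ.g, hgM⟩ : ↥M), (⟨Φ.t, hO.t_mem⟩ : ↥M)⁆ : ↥M) : G) = Φ.t * Φ.u := by
    show Φ.g * Φ.t * Φ.g⁻¹ * Φ.t⁻¹ = _
    rw [Φ.gt, Cfsg.Lib.Invol.inv_eq_self Φ.ht, Φ.hc.eq]
  have hodd := hres.of_dvd_nat (Subgroup.orderOf_dvd_natCard _ hmem)
  rw [← orderOf_coe, he, Φ.hv] at hodd
  exact absurd hodd (by decide)

include hK hO in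
theorem not_anchored (h2 : TwoPrimes M) : ¬ Anchored Φ M := by
  intro hA
  obtain ⟨Ψ, hΨ, hO', r, hr, z, hz, hz1, hzu⟩ := exists_side hK hO
  haveI : Fact r.Prime := ⟨hr⟩
  have hA' : Anchored Ψ M := by
    unfold Anchored invSet at hA ⊢
    rw [hΨ]
    exact hA
  exact false_of_anchored hK hO' h2 hA' hz hz1 hzu

include hK hO in
theorem false : False := by
  haveI := hK.min.isSimple
  have one : ∀ {N : Subgroup G}, Over Φ N → ¬ TwoPrimes N → False := by
    intro N hN h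
    obtain ⟨p₀, hp₀⟩ : ∃ p₀, ∀ q, q.Prime → q ≠ p₀ → Op q N = ⊥ := by
      simpa [TwoPrimes] using h
    obtain ⟨r, hr, x, hx, hxt⟩ := exists_moved hK hN
    haveI : Fact r.Prime := ⟨hr⟩
    have hrp : r = p₀ := by
      by_contra hne
      rw [hp₀ r hr hne, mem_bot] at hx
      exact hxt (hx ▸ Commute.one_right _)
    subst hrp
    exact false_of_one_prime hK hN hp₀
  by_cases h2 : TwoPrimes M
  swap
  · exact one hO h2
  obtain ⟨r, hr, x, hx, hxt⟩ := exists_moved hK hO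
  haveI : Fact r.Prime := ⟨hr⟩
  obtain ⟨z, hz, hz1⟩ := invSet_nontrivial hK hO hx hxt
  have hne : closure (invSet Φ M r) ≠ ⊥ := fun h => hz1 (mem_bot.1 (h ▸ subset_closure hz))
  obtain ⟨N, hN, hle⟩ := hK.exists_max_ge_normalizer hne (invSet_solvable hK hO r)
  have hCN := (le_normalizer_invSet hK hO r).trans hle
  have hON : Over Φ N := ⟨hN, le_sup_left.trans hCN, fun h => hxt (by
    have : x ∈ centralizer ({Φ.t} : Set G) := h ▸ hCN (mem_sup_right (op_le_fitting M r hx))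
    exact (mem_centralizer_singleton_iff.1 this).symm)⟩
  have hFN : (Cfsg.fittingSubgroup ↥M).map M.subtype ≤ N := le_sup_right.trans hCN
  have hlead : Cfsg.leadsTo M N := leadsTo_fitting (layer_bot hK hO) (fitting_ne_bot h2) hFN
  by_cases h2N : TwoPrimes N
  swap
  · exact one hON h2N
  have hcl : centralizer (invSet Φ M r) ≤ N :=
    le_trans (le_of_eq (centralizer_closure _).symm) ((centralizer_le_normalizer _).trans hle)
  have hB : (Cfsg.fittingSubgroup ↥N).map N.subtype ≤ M := by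
    refine fitting_le hK hO hN hON.t_mem h2 hlead fun q hq hq2 hqM hinv hinf => ?_
    haveI : Fact q.Prime := ⟨hq⟩
    by_contra hnot
    have hne' : Op q N ≠ ⊥ := fun h => hnot (h ▸ bot_le)
    obtain ⟨b, hb, hb1⟩ := (bot_or_exists_ne_one _).resolve_left hne'
    refine not_anchored hK hON h2N ⟨q, hq, ⟨b, ⟨hb, hinv b hb⟩, hb1⟩, ?_⟩
    have hset : invSet Φ N q = (Op q N : Set G) := Set.ext fun w => ⟨fun h => h.1, fun h => ⟨h, hinv w h⟩⟩
    rw [hset]
    exact (centralizer_le_normalizer _).trans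
      (normalizer_eq_max hN hne' (op_le q N) (le_normalizer_op q N)).le
  have hMN := eq_of_fitting_le hK hO hN h2 hlead (layer_bot hK hON) hB
  exact not_anchored hK hO h2 ⟨r, hr, ⟨z, hz, hz1⟩, hcl.trans hMN.ge⟩

end Over

/-- In a counterexample with Sylow subgroups of order four the centralizer of an involution has no
proper overgroup. -/
theorem KMin.eq_centralizer (hK : KMin G) (Φ : KFrame G) {H : Subgroup G}
    (hle : centralizer ({Φ.t} : Set G) ≤ H) (hH : H ≠ ⊤) : H = centralizer ({Φ.t} : Set G) := by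
  obtain ⟨M, hM, hHM⟩ := (eq_top_or_exists_le_coatom H).resolve_left hH
  by_contra hne
  refine Over.false hK (Φ := Φ) (M := M) ⟨hM, hle.trans hHM, fun h => hne (le_antisymm (hHM.trans h.le) hle)⟩

end Cfsg.Lib.GW
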