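import Cfsg.Agent.Lib.GW.Klein.Frame

/-!
# Gorenstein–Walter, Sylow four groups: a four group acting on a group of odd order
-/

set_option autoImplicit false
set_option linter.style.haveILetI false

namespace Cfsg.Lib.GW

open Subgroup

universe u

variable {G : Type u} [Group G]

/-- An involution without fixed points inverts. -/
theorem inverts_of_fixed_trivial [Finite G] {R : Subgroup G} {t : G} (ht : t * t = 1)
    (hn : ∀ r ∈ R, t * r * t ∈ R) (hfix : ∀ r ∈ R, Commute t r → r = 1) {r : G} (hr : r ∈ R) :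
    t * r * t = r⁻¹ := by
  let f : R → R := fun x => ⟨(x : G)⁻¹ * (t * x * t), mul_mem (inv_mem x.2) (hn x x.2)⟩
  have hf : Function.Injective f := by
    intro a b hab
    have h : (a : G)⁻¹ * (t * a * t) = (b : G)⁻¹ * (t * b * t) := congrArg Subtype.val hab
    have hc : t * ((b : G) * (a : G)⁻¹) * t = (b : G) * (a : G)⁻¹ := by
      calc t * ((b : G) * (a : G)⁻¹) * t = t * b * (t * t) * (a : G)⁻¹ * t := by rw [ht]; group
        _ = (b : G) * ((b : G)⁻¹ * (t * b * t)) * (t * (a : G)⁻¹ * t) := by group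
        _ = (b : G) * ((a : G)⁻¹ * (t * a * t)) * (t * (a : G)⁻¹ * t) := by rw [h]
        _ = (b : G) * (a : G)⁻¹ * (t * a * (t * t) * (a : G)⁻¹ * t) := by group
        _ = (b : G) * (a : G)⁻¹ := by rw [ht, mul_one, mul_inv_cancel_right, ht, mul_one]
    have h1 := hfix _ (mul_mem b.2 (inv_mem a.2)) (by
      show t * _ = _ * t
      conv_rhs => rw [← hc, mul_assoc, ht, mul_one])
    exact Subtype.ext (mul_inv_eq_one.1 h1).symm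
  obtain ⟨x, hx⟩ := (Finite.injective_iff_surjective.1 hf) ⟨r, hr⟩
  have hx' : (x : G)⁻¹ * (t * x * t) = r := congrArg Subtype.val hx
  rw [← hx']
  calc t * ((x : G)⁻¹ * (t * x * t)) * t = t * (x : G)⁻¹ * t * x * (t * t) := by group
    _ = t * (x : G)⁻¹ * t * x := by rw [ht, mul_one]
    _ = _ := by
      rw [mul_inv_rev, inv_inv, mul_inv_rev, mul_inv_rev, inv_eq_of_mul_eq_one_right ht]
      group

theorem pow_conj_inv {a b c : G} (h : a * b * a⁻¹ = c) (k : ℕ) : a * b ^ k * a⁻¹ = c ^ k := by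
  rw [← conj_pow, h]

/-- If no element inverted by `t` is fixed by `t * u`, all of them are fixed by `u`. -/
theorem commute_u_of_no_v (Φ : KFrame G) (A : Subgroup G) (hodd : ∀ z ∈ A, Odd (orderOf z))
    (hu : ∀ z ∈ A, Φ.u * z * Φ.u ∈ A)
    (hv : ∀ z ∈ A, Φ.t * z * Φ.t = z⁻¹ → Commute (Φ.t * Φ.u) z → z = 1)
    {k : G} (hk : k ∈ A) (hkt : Φ.t * k * Φ.t = k⁻¹) : Commute Φ.u k := by
  have htt := Φ.tt
  have huu := Φ.uu
  have hti : Φ.t⁻¹ = Φ.t := inv_eq_of_mul_eq_one_right htt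
  have hui : Φ.u⁻¹ = Φ.u := inv_eq_of_mul_eq_one_right huu
  have hd : Φ.u * k * Φ.u ∈ A := hu k hk
  set d := Φ.u * k * Φ.u with hdd
  have hdt : Φ.t * d * Φ.t = d⁻¹ := by
    calc Φ.t * d * Φ.t = (Φ.t * Φ.u) * k * (Φ.u * Φ.t) := by rw [hdd]; group
      _ = (Φ.u * Φ.t) * k * (Φ.t * Φ.u) := by rw [Φ.hc.eq]
      _ = Φ.u * (Φ.t * k * Φ.t) * Φ.u := by group
      _ = _ := by rw [hkt, hdd, mul_inv_rev, mul_inv_rev, hui, mul_assoc]
  have hdu : Φ.u * d * Φ.u = k := by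
    rw [hdd, show Φ.u * (Φ.u * k * Φ.u) * Φ.u = (Φ.u * Φ.u) * k * (Φ.u * Φ.u) by group, huu, one_mul, mul_one]
  set c := d * k⁻¹ with hc
  obtain ⟨j, hj⟩ := exists_pow_sq_eq (hodd c (mul_mem hd (inv_mem hk)))
  set w := c ^ j with hw
  have hww : w * w = c := by rw [hw, ← (Commute.refl c).mul_pow, hj]
  have hct : Φ.t * c * Φ.t⁻¹ = k⁻¹ * c⁻¹ * k := by
    calc Φ.t * c * Φ.t⁻¹ = Φ.t * d * (Φ.t * Φ.t) * k⁻¹ * Φ.t := by rw [hc, htt, hti]; group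
      _ = (Φ.t * d * Φ.t) * (Φ.t * k⁻¹ * Φ.t) := by group
      _ = _ := by rw [hdt, inv_inverted htt hkt, hc]; group
  have hcu : Φ.u * c * Φ.u⁻¹ = c⁻¹ := by
    calc Φ.u * c * Φ.u⁻¹ = Φ.u * d * (Φ.u * Φ.u) * k⁻¹ * Φ.u := by rw [hc, huu, hui]; group
      _ = (Φ.u * d * Φ.u) * (Φ.u * k⁻¹ * Φ.u) := by group
      _ = k * d⁻¹ := by rw [hdu, hdd, mul_inv_rev, mul_inv_rev, hui, mul_assoc]
      _ = _ := by rw [hc]; group
  have hwt : Φ.t * w * Φ.t = k⁻¹ * w⁻¹ * k := by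
    have h := pow_conj_inv hct j
    rw [hti, ← hw] at h
    rw [h, show k⁻¹ * c⁻¹ * k = k⁻¹ * c⁻¹ * (k⁻¹)⁻¹ by rw [inv_inv], conj_pow, inv_inv, inv_pow]
  have hwu : Φ.u * w * Φ.u = w⁻¹ := by
    have h := pow_conj_inv hcu j
    rwa [hui, ← hw, inv_pow, ← hw] at h
  set m := w * k with hm
  have hmA : m ∈ A := mul_mem (pow_mem (mul_mem hd (inv_mem hk)) j) hk
  have hmt : Φ.t * m * Φ.t = m⁻¹ := by
    calc Φ.t * m * Φ.t = Φ.t * w * (Φ.t * Φ.t) * k * Φ.t := by rw [hm, htt]; group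
      _ = (Φ.t * w * Φ.t) * (Φ.t * k * Φ.t) := by group
      _ = _ := by rw [hwt, hkt, hm]; group
  have hd' : d = w * w * k := by rw [hww, hc, inv_mul_cancel_right]
  have hmu : Φ.u * m * Φ.u = m := by
    calc Φ.u * m * Φ.u = Φ.u * w * (Φ.u * Φ.u) * k * Φ.u := by rw [hm, huu]; group
      _ = (Φ.u * w * Φ.u) * d := by rw [hdd]; group
      _ = _ := by rw [hwu, hd', hm]; group
  obtain ⟨i, hi⟩ := exists_pow_sq_eq (hodd m hmA)
  set h := m ^ i with hh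
  have hhh : h * h = m := by rw [hh, ← (Commute.refl m).mul_pow, hi]
  have hht : Φ.t * h * Φ.t = h⁻¹ := by
    have e := pow_conj_inv (show Φ.t * m * Φ.t⁻¹ = m⁻¹ by rw [hti, hmt]) i
    rwa [hti, ← hh, inv_pow, ← hh] at e
  have hhu : Φ.u * h * Φ.u = h := by
    have e := pow_conj_inv (show Φ.u * m * Φ.u⁻¹ = m by rw [hui, hmu]) i
    rwa [hui, ← hh] at e
  have hhi : Φ.t * h⁻¹ * Φ.t = h := inv_inverted htt hht
  have hk't : Φ.t * (h⁻¹ * k * h⁻¹) * Φ.t = (h⁻¹ * k * h⁻¹)⁻¹ := by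
    calc Φ.t * (h⁻¹ * k * h⁻¹) * Φ.t = Φ.t * h⁻¹ * (Φ.t * Φ.t) * k * (Φ.t * Φ.t) * h⁻¹ * Φ.t := by
          rw [htt]; group
      _ = (Φ.t * h⁻¹ * Φ.t) * (Φ.t * k * Φ.t) * (Φ.t * h⁻¹ * Φ.t) := by group
      _ = _ := by rw [hhi, hkt]; group
  have hk'u : Φ.u * (h⁻¹ * k * h⁻¹) * Φ.u = h⁻¹ * d * h⁻¹ := by
    have e : Φ.u * h⁻¹ * Φ.u = h⁻¹ := by
      conv_rhs => rw [← hhu]
      rw [mul_inv_rev, mul_inv_rev, hui, mul_assoc]
    calc Φ.u * (h⁻¹ * k * h⁻¹) * Φ.u = Φ.u * h⁻¹ * (Φ.u * Φ.u) * k * (Φ.u * Φ.u) * h⁻¹ * Φ.u := by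
          rw [huu]; group
      _ = (Φ.u * h⁻¹ * Φ.u) * d * (Φ.u * h⁻¹ * Φ.u) := by rw [hdd]; group
      _ = _ := by rw [e]
  have hdeq : h⁻¹ * d * h⁻¹ = (h⁻¹ * k * h⁻¹)⁻¹ := by
    have e : h⁻¹ * d * h⁻¹ * (h⁻¹ * k * h⁻¹) = h⁻¹ * (d * (h * h)⁻¹ * k) * h⁻¹ := by group
    refine eq_inv_of_mul_eq_one_left ?_
    rw [e, hhh, hm, hd']
    calc h⁻¹ * (w * w * k * (w * k)⁻¹ * k) * h⁻¹ = h⁻¹ * (w * k) * h⁻¹ := by group
      _ = h⁻¹ * (h * h) * h⁻¹ := by rw [hhh, hm]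
      _ = 1 := by group
  have hfix : Commute (Φ.t * Φ.u) (h⁻¹ * k * h⁻¹) := by
    have e : Φ.t * Φ.u * (h⁻¹ * k * h⁻¹) * (Φ.t * Φ.u) = h⁻¹ * k * h⁻¹ := by
      rw [show Φ.t * Φ.u * (h⁻¹ * k * h⁻¹) * (Φ.t * Φ.u) =
        Φ.t * (Φ.u * (h⁻¹ * k * h⁻¹) * (Φ.t * Φ.u)) by group, Φ.hc.eq,
        show Φ.t * (Φ.u * (h⁻¹ * k * h⁻¹) * (Φ.u * Φ.t)) =
        Φ.t * (Φ.u * (h⁻¹ * k * h⁻¹) * Φ.u) * Φ.t by group, hk'u, hdeq, inv_inverted htt hk't]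
    show _ = _
    conv_rhs => rw [← e, mul_assoc, Φ.vv, mul_one]
  have hA' : h⁻¹ * k * h⁻¹ ∈ A := mul_mem (mul_mem (inv_mem (pow_mem hmA i)) hk) (inv_mem (pow_mem hmA i))
  have h1 := hv _ hA' hk't hfix
  have hkm : k = m := by
    rw [← hhh]
    calc k = h * (h⁻¹ * k * h⁻¹) * h := by group
      _ = h * h := by rw [h1, mul_one]
  rw [hkm]
  show _ = _
  conv_rhs => rw [← hmu, mul_assoc, huu, mul_one]

end Cfsg.Lib.GW
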