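import Cfsg.Agent.Lib.GW.Klein.Component
import Cfsg.Agent.Lib.GW.Klein.Side
import Cfsg.Agent.S1857
import Cfsg.Agent.S1856

/-!
# Gorenstein–Walter, Sylow four groups: a maximal overgroup of the centralizer of an involution
-/

set_option autoImplicit false
set_option linter.style.haveILetI false

namespace Cfsg.Lib.GW

open Subgroup
open scoped commutatorElement
open Cfsg.Agent.S1312 (Op op_le op_isPGroup le_normalizer_op op_commute le_op normalizer_eq_max)
open Cfsg.Lib.Sig.BenderPair (mem_op_of_fitting op_le_fitting dvd_card_fitting_iff inf_eq_bot op_le_left)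

universe u

variable {G : Type u} [Group G] [Finite G]

/-- A maximal subgroup properly containing the centralizer of `t`. -/
structure Over (Φ : KFrame G) (M : Subgroup G) : Prop where
  max : IsCoatom M
  le : centralizer ({Φ.t} : Set G) ≤ M
  ne : M ≠ centralizer ({Φ.t} : Set G)

/-- The elements of `O_r(M)` inverted by `t`. -/
def invSet (Φ : KFrame G) (M : Subgroup G) (r : ℕ) : Set G :=
  {x | x ∈ Op r M ∧ Φ.t * x * Φ.t = x⁻¹}

/-- `|F(M)|` has at least two prime divisors. -/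
def TwoPrimes (M : Subgroup G) : Prop :=
  ∀ p : ℕ, ∃ q : ℕ, q.Prime ∧ q ≠ p ∧ Op q M ≠ ⊥

theorem fitting_le_iff {M H : Subgroup G} :
    (Cfsg.fittingSubgroup ↥M).map M.subtype ≤ H ↔ ∀ q : ℕ, q.Prime → Op q M ≤ H := by
  constructor
  · intro h q hq
    haveI : Fact q.Prime := ⟨hq⟩
    exact (op_le_fitting M q).trans h
  · intro h
    rw [Cfsg.Lib.Core.fittingSubgroup_eq_iSup_pCore, Subgroup.map_iSup]
    exact iSup_le fun q => h q q.2

theorem op_map_conj (g : G) (r : ℕ) [Fact r.Prime] (M : Subgroup G) :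
    Op r (M.map (MulAut.conj g).toMonoidHom) = (Op r M).map (MulAut.conj g).toMonoidHom := by
  have h1 : ∀ (a : G) (H : Subgroup G),
      (Op r H).map (MulAut.conj a).toMonoidHom ≤ Op r (H.map (MulAut.conj a).toMonoidHom) := fun a H =>
    le_op (map_mono (op_le r H))
      ((map_mono (le_normalizer_op r H)).trans (Subgroup.le_normalizer_map _))
      ((op_isPGroup r H).map _)
  refine le_antisymm (fun x hx => ?_) (h1 g M)
  have h2 := h1 g⁻¹ (M.map (MulAut.conj g).toMonoidHom) (mem_map_of_mem _ hx)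
  rw [Cfsg.Lib.Coprime.map_conj_conj, inv_mul_cancel, Cfsg.Lib.Coprime.map_conj_one] at h2
  exact ⟨_, h2, by simp [MulAut.conj_apply, mul_assoc]⟩

theorem conj_odd {H : Subgroup G} {p : ℕ} [Fact p.Prime] (hp : p ≠ 2) (hH : IsPGroup p H) {z : G}
    (hz : z ∈ H) : Odd (orderOf z) := by
  obtain ⟨k, hk⟩ := IsPGroup.iff_orderOf.1 hH ⟨z, hz⟩
  rw [← orderOf_coe] at hk
  rw [hk]
  exact ((Fact.out : p.Prime).odd_of_ne_two hp).pow

theorem eq_one_of_two_primes {p q : ℕ} [hp : Fact p.Prime] [hq : Fact q.Prime] (hpq : p ≠ q) {H K : Subgroup G}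
    (hH : IsPGroup p H) (hK : IsPGroup q K) {x : G} (h1 : x ∈ H) (h2 : x ∈ K) : x = 1 :=
  disjoint_def.1 (IsPGroup.disjoint_of_ne p q hpq _ _ hH hK) h1 h2

theorem conj_mem_op {M : Subgroup G} {r : ℕ} {x a : G} (hx : x ∈ M) (ha : a ∈ Op r M) :
    x * a * x⁻¹ ∈ Op r M :=
  (mem_normalizer_iff.1 (le_normalizer_op r M hx) a).1 ha

namespace KMin

variable (hK : KMin G)
include hK

theorem na : ¬ IsMulCommutative G := hK.min.nonab

theorem kproper : Cfsg.IsKProper G := isKProper_of_below hK.min.below hK.min.twoCycDih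

theorem normalizer_ne_top {Y : Subgroup G} (hY : Y ≠ ⊥) (hY' : Y ≠ ⊤) : normalizer (Y : Set G) ≠ ⊤ := by
  intro h
  haveI := hK.min.isSimple
  haveI := normalizer_eq_top_iff.1 h
  rcases IsSimpleGroup.eq_bot_or_eq_top_of_normal Y inferInstance with h' | h'
  · exact hY h'
  · exact hY' h'

theorem ne_top_of_solvable {Y : Subgroup G} (h : Group.IsSolvable Y) : Y ≠ ⊤ := by
  rintro rfl
  exact hK.min.not_isSolvable
    (haveI := h; solvable_of_surjective (f := (topEquiv : (⊤ : Subgroup G) ≃* G).toMonoidHom) topEquiv.surjective)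

theorem exists_max_ge_normalizer {Y : Subgroup G} (hY : Y ≠ ⊥) (hs : Group.IsSolvable Y) :
    ∃ N : Subgroup G, IsCoatom N ∧ normalizer (Y : Set G) ≤ N :=
  (eq_top_or_exists_le_coatom _).resolve_left (hK.normalizer_ne_top hY (hK.ne_top_of_solvable hs))

end KMin

theorem layer_eq_bot_of_solvable {N : Subgroup G} (h : Group.IsSolvable N) : Cfsg.layer ↥N = ⊥ :=
  Cfsg.Lib.Core.layer_eq_bot_iff.2 fun _ hL =>
    haveI := h
    Cfsg.Lib.Core.component_not_le_solvable hL (H := ⊤) inferInstance le_top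

theorem leadsTo_of_le {M N : Subgroup G} (hl : Cfsg.layer ↥M = ⊥) {Q : Subgroup G} (hQ : Q ≠ ⊥)
    (hQF : Q ≤ (Cfsg.fittingSubgroup ↥M).map M.subtype) (hQN : normalizer (Q : Set G) ≤ N) :
    Cfsg.leadsTo M N :=
  ⟨Q, hQ, hQF, inf_le_right.trans hQN⟩

theorem leadsTo_fitting {M N : Subgroup G} (hl : Cfsg.layer ↥M = ⊥)
    (hF : (Cfsg.fittingSubgroup ↥M).map M.subtype ≠ ⊥)
    (hle : (Cfsg.fittingSubgroup ↥M).map M.subtype ≤ N) : Cfsg.leadsTo M N := by
  refine ⟨_, hF, le_rfl, inf_le_left.trans ?_⟩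
  rwa [Cfsg.Lib.Core.generalizedFitting_eq_fitting_of_layer_eq_bot hl]

theorem fitting_ne_bot {M : Subgroup G} (hM : TwoPrimes M) :
    (Cfsg.fittingSubgroup ↥M).map M.subtype ≠ ⊥ := by
  obtain ⟨q, hq, -, hne⟩ := hM 0
  haveI : Fact q.Prime := ⟨hq⟩
  exact fun h => hne (eq_bot_iff.2 ((op_le_fitting M q).trans h.le))

namespace Over

variable {Φ : KFrame G} {M : Subgroup G} (hK : KMin G) (hO : Over Φ M)

include hO in
theorem t_mem : Φ.t ∈ M := hO.le (mem_centralizer_singleton_iff.2 rfl)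

include hO in
theorem u_mem : Φ.u ∈ M := hO.le (mem_centralizer_singleton_iff.2 Φ.hc.symm.eq)

include hO in
theorem mem_of_commute {x : G} (h : Commute Φ.t x) : x ∈ M :=
  hO.le (mem_centralizer_singleton_iff.2 h.symm.eq)

include hK hO in
theorem solvable : Group.IsSolvable M := hK.solvable_of_ge Φ.ht hO.le hO.max.1

include hK hO in
theorem layer_bot : Cfsg.layer ↥M = ⊥ := layer_eq_bot_of_solvable (solvable hK hO)

include hK hO in
theorem mem_fitting {z : G} (hz : z ∈ M) (h : ∀ r, r.Prime → ∀ m ∈ Op r M, Commute z m) :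
    z ∈ (Cfsg.fittingSubgroup ↥M).map M.subtype :=
  mem_map_of_mem M.subtype
    (Cfsg.Agent.S1312.mem_fitting_of_commute (layer_bot hK hO) ⟨z, hz⟩ fun r hr => fun m hm => (h r hr.out m hm).eq)

include hK hO in
theorem op_two : Op 2 M = ⊥ := by
  haveI : Fact (Nat.Prime 2) := ⟨Nat.prime_two⟩
  haveI := Φ.klein
  by_contra hne
  obtain ⟨w, hw, hw1⟩ := (bot_or_exists_ne_one (Op 2 M)).resolve_left hne
  have hVM : Φ.V ≤ M := Φ.V_le hO.t_mem hO.u_mem
  have hVp : IsPGroup 2 Φ.V := IsPGroup.of_card (n := 2) (by rw [Φ.card_V]; norm_num)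
  have hP : IsPGroup 2 ↥(Op 2 M ⊔ Φ.V) :=
    IsPGroup.to_sup_of_normal_left' (op_isPGroup 2 M) hVp (hVM.trans (le_normalizer_op 2 M))
  obtain ⟨P, hP'⟩ := hP.exists_le_sylow
  have hPV : Φ.V = (P : Subgroup G) := eq_of_le_of_card_ge (le_sup_right.trans hP')
    (by rw [(hK.sylow_klein P).card, Φ.card_V])
  have hwV : w ∈ Φ.V := hPV ▸ hP' (mem_sup_left hw)
  let Q : Sylow 2 M := P.subtype (hPV ▸ hVM)
  have hc := hK.complement_of_ge Φ.ht hO.le hO.max.1
  have hres := Nat.coprime_two_right.1 (Cfsg.Lib.Fusion.hasNormalPComplement_iff_coprime.1 hc)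
  have hcen : M ≤ centralizer ({w} : Set G) := by
    intro m hm
    obtain ⟨v, hv, x, hx, hvx⟩ := Cfsg.Lib.Fusion.exists_mul_of_sylow Q (⟨m, hm⟩ : M)
    have hv' : (v : G) ∈ Φ.V := by
      rw [show (Q : Subgroup M) = (P : Subgroup G).subgroupOf M from Sylow.coe_subtype _ _,
        mem_subgroupOf, ← hPV] at hv
      exact hv
    obtain ⟨w', hw', rfl⟩ := hw
    have hd : Disjoint (Cfsg.pResidual 2 ↥M) (Cfsg.pCore 2 ↥M) := by
      rw [disjoint_def]
      intro a ha hb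
      refine orderOf_eq_one_iff.1 (Nat.eq_one_of_dvd_coprimes ?_ (Subgroup.orderOf_dvd_natCard _ ha)
        (Subgroup.orderOf_dvd_natCard _ hb))
      obtain ⟨k, hk⟩ := (Cfsg.Lib.Core.pCore_isPGroup 2 ↥M).exists_card_eq
      rw [hk]
      exact (Nat.coprime_two_right.2 hres).pow_right k
    have h1 : Commute x w' := commute_of_normal_of_disjoint _ _ inferInstance inferInstance hd x w' hx hw'
    have h2 : Commute (v : G) (w' : G) := Cfsg.Lib.Invol.klein_comm hv' hwV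
    refine mem_centralizer_singleton_iff.2 ?_
    rw [show m = (v : G) * (x : G) from congrArg Subtype.val hvx.symm |>.symm]
    exact (h2.mul_left (congrArg Subtype.val h1.eq : (x : G) * w' = w' * x)).eq
  have hwo : orderOf w = 2 := Cfsg.Lib.Invol.orderOf_eq_two_of hw1 (Cfsg.Lib.Invol.klein_mul_self hwV)
  obtain ⟨a, ha⟩ := isConj_iff.1 (hK.min.oneClass _ w Φ.ht hwo)
  have hcard : Nat.card (centralizer ({w} : Set G)) = Nat.card (centralizer ({Φ.t} : Set G)) := by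
    have : centralizer ({w} : Set G) = (centralizer ({Φ.t} : Set G)).map (MulAut.conj a).toMonoidHom := by
      ext y
      rw [Cfsg.Lib.Core.mem_map_conj, mem_centralizer_singleton_iff, mem_centralizer_singleton_iff, ← ha]
      constructor
      · intro h
        calc a⁻¹ * y * a * Φ.t = a⁻¹ * (y * (a * Φ.t * a⁻¹)) * a := by group
          _ = a⁻¹ * ((a * Φ.t * a⁻¹) * y) * a := by rw [h]
          _ = Φ.t * (a⁻¹ * y * a) := by group
      · intro h
        calc y * (a * Φ.t * a⁻¹) = a * (a⁻¹ * y * a * Φ.t) * a⁻¹ := by group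
          _ = a * (Φ.t * (a⁻¹ * y * a)) * a⁻¹ := by rw [h]
          _ = a * Φ.t * a⁻¹ * y := by group
    rw [this, card_map_of_injective (MulAut.conj a).injective]
  exact hO.ne (eq_of_le_of_card_ge hO.le ((card_le_of_le hcen).trans hcard.le)).symm

include hK hO in
theorem op_odd {r : ℕ} [Fact r.Prime] {z : G} (hz : z ∈ Op r M) : Odd (orderOf z) := by
  by_cases h : r = 2
  · subst h
    rw [op_two hK hO, mem_bot] at hz
    simp [hz]
  · exact conj_odd h (op_isPGroup r M) hz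

include hK hO in
theorem exists_moved : ∃ r, r.Prime ∧ ∃ x ∈ Op r M, ¬ Commute Φ.t x := by
  by_contra h
  push Not at h
  haveI : Fact (Nat.Prime 2) := ⟨Nat.prime_two⟩
  have htF := mem_fitting hK hO hO.t_mem h
  have := mem_op_of_fitting (s := 2) htF ⟨1, by rw [pow_one, pow_two, Φ.tt]⟩
  rw [op_two hK hO, mem_bot] at this
  exact Cfsg.Lib.Invol.ne_one Φ.ht this

include hO in
theorem conj_t_mem {r : ℕ} {x : G} (hx : x ∈ Op r M) : Φ.t * x * Φ.t ∈ Op r M := by
  have := conj_mem_op hO.t_mem hx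
  rwa [Cfsg.Lib.Invol.inv_eq_self Φ.ht] at this

include hO in
theorem conj_u_mem {r : ℕ} {x : G} (hx : x ∈ Op r M) : Φ.u * x * Φ.u ∈ Op r M := by
  have := conj_mem_op hO.u_mem hx
  rwa [Cfsg.Lib.Invol.inv_eq_self Φ.hu] at this

include hK hO in
/-- A moved `O_r(M)` contains a nontrivial element inverted by `t`. -/
theorem invSet_nontrivial {r : ℕ} [Fact r.Prime] {x : G} (hx : x ∈ Op r M) (hxt : ¬ Commute Φ.t x) :
    ∃ z ∈ invSet Φ M r, z ≠ 1 := by
  refine ⟨x⁻¹ * (Φ.t * x * Φ.t), ⟨mul_mem (inv_mem hx) (hO.conj_t_mem hx), ?_⟩, fun h => hxt ?_⟩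
  · calc Φ.t * (x⁻¹ * (Φ.t * x * Φ.t)) * Φ.t = Φ.t * x⁻¹ * Φ.t * x * (Φ.t * Φ.t) := by group
      _ = (Φ.t * x⁻¹ * Φ.t) * x := by rw [Φ.tt, mul_one]
      _ = _ := by
        rw [mul_inv_rev, inv_inv, mul_inv_rev, mul_inv_rev, Cfsg.Lib.Invol.inv_eq_self Φ.ht]
        group
  · rw [inv_mul_eq_one] at h
    show _ = _
    conv_rhs => rw [h, mul_assoc, Φ.tt, mul_one]

include hK hO in
/-- The normalizer of the closure of `invSet` contains `C(t)` and `F(M)`. -/
theorem le_normalizer_invSet (r : ℕ) [Fact r.Prime] :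
    centralizer ({Φ.t} : Set G) ⊔ (Cfsg.fittingSubgroup ↥M).map M.subtype ≤
      normalizer ((closure (invSet Φ M r) : Subgroup G) : Set G) := by
  have key : ∀ f : G, (∀ x ∈ invSet Φ M r, f * x * f⁻¹ ∈ closure (invSet Φ M r)) →
      f ∈ normalizer ((closure (invSet Φ M r) : Subgroup G) : Set G) := fun f hf =>
    Cfsg.Lib.Fusion.le_normalizer_of_conj_mem fun x hx =>
      ((closure_le ((closure (invSet Φ M r)).comap (MulAut.conj f).toMonoidHom)).2 fun y hy => hf y hy) hx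
  refine sup_le (fun f hf => key f fun x hx => subset_closure ⟨conj_mem_op (hO.le hf) hx.1, ?_⟩)
    (fitting_le_iff.2 fun s hs f hf => ?_)
  · have hft : Commute f Φ.t := mem_centralizer_singleton_iff.1 hf
    calc Φ.t * (f * x * f⁻¹) * Φ.t = (Φ.t * f) * x * (f⁻¹ * Φ.t) := by group
      _ = (f * Φ.t) * x * (Φ.t * f⁻¹) := by rw [hft.eq, hft.inv_left.eq]
      _ = f * (Φ.t * x * Φ.t) * f⁻¹ := by group
      _ = _ := by rw [hx.2]; group
  · haveI : Fact s.Prime := ⟨hs⟩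
    refine key f fun x hx => ?_
    by_cases hsr : s = r
    · subst hsr
      obtain ⟨k, hk⟩ := exists_pow_sq_eq (op_odd hK hO hx.1)
      set y := x ^ k with hy
      have hyy : y * y = x := by rw [hy, ← (Commute.refl x).mul_pow, hk]
      have hymem : y ∈ Op s M := pow_mem hx.1 k
      have hyt : Φ.t * y * Φ.t = y⁻¹ := by
        have e := pow_conj_inv (show Φ.t * x * Φ.t⁻¹ = x⁻¹ by
          rw [Cfsg.Lib.Invol.inv_eq_self Φ.ht, hx.2]) k
        rwa [Cfsg.Lib.Invol.inv_eq_self Φ.ht, ← hy, inv_pow, ← hy] at e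
      have hcom : ∀ z ∈ Op s M, z * Φ.t * z⁻¹ * Φ.t ∈ closure (invSet Φ M s) := fun z hz => by
        refine subset_closure ⟨?_, ?_⟩
        · rw [show z * Φ.t * z⁻¹ * Φ.t = z * (Φ.t * z⁻¹ * Φ.t) by group]
          exact mul_mem hz (hO.conj_t_mem (inv_mem hz))
        · rw [mul_inv_rev, mul_inv_rev, mul_inv_rev, inv_inv, Cfsg.Lib.Invol.inv_eq_self Φ.ht]
          rw [show Φ.t * (z * Φ.t * z⁻¹ * Φ.t) * Φ.t = Φ.t * z * Φ.t * z⁻¹ * (Φ.t * Φ.t) by group, Φ.tt,
            mul_one]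
          group
      have he : f * x * f⁻¹ = ((f * y) * Φ.t * (f * y)⁻¹ * Φ.t) * (f * Φ.t * f⁻¹ * Φ.t)⁻¹ := by
        have hx2 : x = y * Φ.t * y⁻¹ * Φ.t := by
          rw [show y * Φ.t * y⁻¹ * Φ.t = y * (Φ.t * y⁻¹ * Φ.t) by group, inv_inverted Φ.tt hyt, hyy]
        rw [hx2]
        conv_rhs => rw [mul_inv_rev (f * Φ.t * f⁻¹) Φ.t, Cfsg.Lib.Invol.inv_eq_self Φ.ht,
          show (f * y) * Φ.t * (f * y)⁻¹ * Φ.t * (Φ.t * (f * Φ.t * f⁻¹)⁻¹) =
            (f * y) * Φ.t * (f * y)⁻¹ * (Φ.t * Φ.t) * (f * Φ.t⁻¹ * f⁻¹) by group, Φ.tt, mul_one,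
          Cfsg.Lib.Invol.inv_eq_self Φ.ht]
        group
      rw [he]
      exact mul_mem (hcom _ (mul_mem hf hymem)) (inv_mem (hcom _ hf))
    · rw [show f * x * f⁻¹ = x by rw [op_commute hsr M hf hx.1, mul_inv_cancel_right]]
      exact subset_closure hx

include hK hO in
theorem invSet_solvable (r : ℕ) [Fact r.Prime] : Group.IsSolvable ↥(closure (invSet Φ M r)) := by
  haveI := ((op_isPGroup r M).to_le ((closure_le _).2 fun x hx => hx.1 :
    closure (invSet Φ M r) ≤ Op r M)).isNilpotent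
  infer_instance

include hK hO in
/-- `F(N) ∩ M` small forces inversion by `t`. -/
theorem op_inverted {N : Subgroup G} {q : ℕ} [Fact q.Prime] (htN : Φ.t ∈ N) (h : Op q N ⊓ M = ⊥) :
    (∀ r ∈ Op q N, Φ.t * r * Φ.t = r⁻¹) ∧ (q = 2 → Op q N = ⊥) := by
  have hfix : ∀ r ∈ Op q N, Commute Φ.t r → r = 1 := fun r hr hc => by
    have hm : r ∈ Op q N ⊓ M := ⟨hr, hO.mem_of_commute hc⟩
    rwa [h, mem_bot] at hm
  have hinv : ∀ r ∈ Op q N, Φ.t * r * Φ.t = r⁻¹ := fun r hr =>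
    inverts_of_fixed_trivial Φ.tt (fun x hx => by
      have := conj_mem_op htN hx
      rwa [Cfsg.Lib.Invol.inv_eq_self Φ.ht] at this) hfix hr
  refine ⟨hinv, ?_⟩
  rintro rfl
  by_contra hne
  obtain ⟨r, hr⟩ := exists_prime_orderOf_dvd_card' (G := ↥(Op 2 N)) 2 (by
    obtain ⟨k, hk⟩ := (op_isPGroup 2 N).exists_card_eq
    rw [hk]
    exact dvd_pow_self 2 fun h0 => hne (card_eq_one.1 (by rw [hk, h0, pow_zero])))
  rw [← orderOf_coe] at hr
  refine Cfsg.Lib.Invol.ne_one hr (hfix _ r.2 ?_)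
  have := hinv _ r.2
  rw [Cfsg.Lib.Invol.inv_eq_self hr] at this
  show _ = _
  conv_rhs => rw [← this, mul_assoc, Φ.tt, mul_one]

include hK hO in
/-- Bender: `F(N) ≤ M` as soon as the parts outside `π(F(M))` are in `M`. -/
theorem fitting_le {N : Subgroup G} (hN : IsCoatom N) (htN : Φ.t ∈ N) (h2 : TwoPrimes M)
    (hlead : Cfsg.leadsTo M N)
    (hB : ∀ q, q.Prime → q ≠ 2 → Op q M = ⊥ → (∀ r ∈ Op q N, Φ.t * r * Φ.t = r⁻¹) →
      Op q N ⊓ M = ⊥ → Op q N ≤ M) :
    (Cfsg.fittingSubgroup ↥N).map N.subtype ≤ M := by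
  haveI := hK.min.isSimple
  obtain ⟨Q, -, hQF, hQN⟩ := hlead
  refine fitting_le_iff.2 fun q hq => ?_
  haveI : Fact q.Prime := ⟨hq⟩
  by_cases hqM : Op q M = ⊥
  · have hinf := inf_eq_bot hQF hQN q hqM
    obtain ⟨hinv, htwo⟩ := op_inverted hK hO htN hinf
    by_cases hq2 : q = 2
    · rw [htwo hq2]; exact bot_le
    · exact hB q hq hq2 hqM hinv hinf
  · obtain ⟨r, hr, hrq, hrM⟩ := h2 q
    haveI : Fact r.Prime := ⟨hr⟩
    exact op_le_left hO.max hQF hQN hrq.symm hqM hrM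

include hK hO in
/-- In that case `N = M`, unless `N` has a component. -/
theorem eq_of_fitting_le {N : Subgroup G} (hN : IsCoatom N) (h2 : TwoPrimes M)
    (hlead : Cfsg.leadsTo M N) (hl : Cfsg.layer ↥N = ⊥)
    (hle : (Cfsg.fittingSubgroup ↥N).map N.subtype ≤ M) : M = N := by
  haveI := hK.min.isSimple
  have hNs : Nontrivial ↥N := by
    rcases subsingleton_or_nontrivial ↥N with h | h
    · exfalso
      have hbot : N = ⊥ := eq_bot_iff.2 fun x hx =>
        congrArg Subtype.val (Subsingleton.elim (⟨x, hx⟩ : ↥N) 1)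
      rcases hN.le_iff.1 (show N ≤ centralizer ({Φ.t} : Set G) from hbot ▸ bot_le) with h' | h'
      · exact hO.max.1 (top_le_iff.1 (h'.ge.trans hO.le))
      · exact Cfsg.Lib.Invol.ne_one Φ.ht (mem_bot.1 ((hbot ▸ h'.le) (mem_centralizer_singleton_iff.2 rfl)))
    · exact h
  have hF : (Cfsg.fittingSubgroup ↥N).map N.subtype ≠ ⊥ := fun h => by
    refine Cfsg.Lib.Core.generalizedFitting_ne_bot (G := ↥N) ?_
    rw [Cfsg.Lib.Core.generalizedFitting_eq_fitting_of_layer_eq_bot hl]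
    exact (map_eq_bot_iff_of_injective _ N.subtype_injective).1 h
  rcases Cfsg.Agent.S1857.result hK.na hK.kproper M N hO.max hN hlead (leadsTo_fitting hl hF hle) with
    h | ⟨p, hp, hMp, -⟩
  · exact h
  · exfalso
    haveI : Fact p.Prime := ⟨hp⟩
    obtain ⟨q, hq, hqp, hqM⟩ := h2 p
    haveI : Fact q.Prime := ⟨hq⟩
    rw [Cfsg.Lib.Core.generalizedFitting_eq_fitting_of_layer_eq_bot (layer_bot hK hO)] at hMp
    refine hqM (eq_bot_iff.2 fun x hx => mem_bot.2 ?_)
    exact eq_one_of_two_primes hqp (op_isPGroup q M) (hMp.map M.subtype) hx (op_le_fitting M q hx)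

end Over

end Cfsg.Lib.GW
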