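import Cfsg.Agent.Lib.GW.Klein.Over

/-!
# Gorenstein–Walter, Sylow four groups: no anchored overgroup with two primes in its Fitting subgroup

Let `M` be a maximal overgroup of `C(t)`. It is anchored if for some `r` the centralizer of the elements
of `O_r(M)` inverted by `t` is in `M`.
-/

set_option autoImplicit false
set_option linter.style.haveILetI false

namespace Cfsg.Lib.GW

open Subgroup
open scoped commutatorElement
open Cfsg.Agent.S1312 (Op op_le op_isPGroup le_normalizer_op op_commute le_op normalizer_eq_max)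
open Cfsg.Lib.Sig.BenderPair (mem_op_of_fitting op_le_fitting op_le_left centerPart_ne_bot)

universe u

variable {G : Type u} [Group G] [Finite G]

/-- Some moved `O_r(M)` has the centralizer of its inverted elements in `M`. -/
def Anchored (Φ : KFrame G) (M : Subgroup G) : Prop :=
  ∃ r : ℕ, r.Prime ∧ (∃ x ∈ invSet Φ M r, x ≠ 1) ∧ centralizer (invSet Φ M r) ≤ M

theorem mem_normalizer_zpowers {w a : G} (hw : w * w = 1) (h : w * a * w = a ∨ w * a * w = a⁻¹) :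
    w ∈ normalizer (zpowers a : Set G) := by
  refine Cfsg.Lib.Fusion.le_normalizer_of_conj_mem fun x hx => ?_
  obtain ⟨k, rfl⟩ := mem_zpowers_iff.1 hx
  rw [← conj_zpow, inv_eq_of_mul_eq_one_right hw]
  rcases h with h | h <;> rw [h]
  · exact zpow_mem (mem_zpowers a) k
  · exact zpow_mem (inv_mem (mem_zpowers a)) k

theorem fix_of_commute {w a : G} (hw : w * w = 1) (h : Commute w a) : w * a * w = a := by
  rw [h.eq, mul_assoc, hw, mul_one]

theorem commute_of_fix {w a : G} (hw : w * w = 1) (h : w * a * w = a) : Commute w a := by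
  show _ = _
  conv_rhs => rw [← h, mul_assoc, hw, mul_one]

/-- An involution fixed by `t` and inverted by `t * u` is inverted by `u`. -/
theorem inverted_u (Φ : KFrame G) {a : G} (ht : Commute Φ.t a) (hv : Φ.t * Φ.u * a * (Φ.t * Φ.u) = a⁻¹) :
    Φ.u * a * Φ.u = a⁻¹ := by
  rw [← hv, show Φ.t * Φ.u * a * (Φ.t * Φ.u) = Φ.t * (Φ.u * a * (Φ.t * Φ.u)) by group, Φ.hc.eq,
    show Φ.t * (Φ.u * a * (Φ.u * Φ.t)) = Φ.t * (Φ.u * a * Φ.u) * Φ.t by group]
  refine (fix_of_commute Φ.tt ?_).symm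
  exact ((Φ.hc).mul_right ht).mul_right Φ.hc

/-- An element inverted by `t` and by `t * u` is fixed by `u`. -/
theorem fixed_u (Φ : KFrame G) {a : G} (ht : Φ.t * a * Φ.t = a⁻¹)
    (hv : Φ.t * Φ.u * a * (Φ.t * Φ.u) = a⁻¹) : Commute Φ.u a := by
  refine commute_of_fix Φ.uu ?_
  have h : Φ.t * (Φ.t * Φ.u * a * (Φ.t * Φ.u)) * Φ.t = Φ.u * a * Φ.u := by
    rw [show Φ.t * (Φ.t * Φ.u * a * (Φ.t * Φ.u)) * Φ.t =
      (Φ.t * Φ.t) * Φ.u * a * (Φ.t * Φ.u * Φ.t) by group, Φ.tt, one_mul, Φ.hc.eq, mul_assoc Φ.u Φ.t Φ.t,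
      Φ.tt, mul_one]
  rw [hv, inv_inverted Φ.tt ht] at h
  exact h.symm

namespace Over

variable {Φ : KFrame G} {M : Subgroup G} (hK : KMin G) (hO : Over Φ M)

include hO in
theorem swap : Over Φ.swap M := ⟨hO.max, hO.le, hO.ne⟩

include hK hO in
/-- A proper subgroup containing the four group and a moved `invSet` has no component. -/
theorem no_layer {N : Subgroup G} (hN : N ≠ ⊤) (htN : Φ.t ∈ N) (huN : Φ.u ∈ N) {r : ℕ} [Fact r.Prime]
    (hsub : ∀ x ∈ invSet Φ M r, x ∈ N) (hex : ∃ x ∈ invSet Φ M r, x ≠ 1) : Cfsg.layer ↥N = ⊥ := by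
  by_contra hL
  obtain ⟨x₀, hx₀, hx₀1⟩ := hex
  have hr2 : r ≠ 2 := by
    rintro rfl
    have := hx₀.1
    rw [op_two hK hO, mem_bot] at this
    exact hx₀1 this
  -- one side is trivial
  have key : ∀ Ψ : KFrame G, Ψ.t = Φ.t → Ψ.u ∈ N → Over Ψ M →
      (∀ z ∈ Op r M, Ψ.t * z * Ψ.t = z⁻¹ → Commute (Ψ.t * Ψ.u) z → z = 1) → False := by
    intro Ψ hΨt hΨu hOΨ hv
    have htN' : Ψ.t ∈ N := hΨt ▸ htN
    have hfix : ∀ z ∈ Op r M, Ψ.t * z * Ψ.t = z⁻¹ → Commute Ψ.u z := fun z hz hzt =>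
      commute_u_of_no_v Ψ (Op r M) (fun w hw => op_odd hK hO hw) (fun w hw => hOΨ.conj_u_mem hw) hv hz hzt
    have hk : x₀ ∈ Op r M := hx₀.1
    have hkt : Ψ.t * x₀ * Ψ.t = x₀⁻¹ := by rw [hΨt]; exact hx₀.2
    have hku : Commute Ψ.u x₀ := hfix x₀ hk hkt
    have hns : ¬ Group.IsSolvable N := fun h => hL (layer_eq_bot_of_solvable h)
    obtain ⟨h, hhN, hht, hhu⟩ := hK.exists_cycle Ψ.ht Ψ.hu Ψ.hne Ψ.hc N htN' hΨu hns
    let Ω : KFrame G := ⟨Ψ.t, Ψ.u, h, Ψ.ht, Ψ.hu, Ψ.hne, Ψ.hc, hht, hhu⟩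
    have hgt : h⁻¹ * Ψ.u * h = Ψ.t := Ω.gu'
    have hgt' : h⁻¹ * (Ψ.t * Ψ.u) * h = Ψ.u := Ω.gv'
    set x := h⁻¹ * x₀ * h with hx
    have hxodd : Odd (orderOf x) := by
      rw [hx, show h⁻¹ * x₀ * h = h⁻¹ * x₀ * (h⁻¹)⁻¹ by rw [inv_inv], Cfsg.Lib.Invol.orderOf_conj_eq]
      exact op_odd hK hO hk
    have hxt : Commute Ψ.t x := by
      have := fixed_conj (h := h⁻¹) hku
      rwa [inv_inv, hgt, ← hx] at this
    have hxu : Ψ.u * x * Ψ.u = x⁻¹ := by
      have hv0 : Ψ.t * Ψ.u * x₀ * (Ψ.t * Ψ.u) = x₀⁻¹ := by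
        rw [show Ψ.t * Ψ.u * x₀ * (Ψ.t * Ψ.u) = Ψ.t * (Ψ.u * x₀ * (Ψ.t * Ψ.u)) by group, Ψ.hc.eq,
          show Ψ.t * (Ψ.u * x₀ * (Ψ.u * Ψ.t)) = Ψ.t * (Ψ.u * x₀ * Ψ.u) * Ψ.t by group,
          fix_of_commute Ψ.uu hku, hkt]
      have := inverted_conj (h := h⁻¹) hv0
      rwa [inv_inv, hgt', ← hx] at this
    have hxM : x ∈ M := hO.mem_of_commute (hΨt ▸ hxt)
    have hconj : Commute Ψ.u (x * x₀ * x⁻¹) := by
      refine hfix _ (conj_mem_op hxM hk) ?_
      calc Ψ.t * (x * x₀ * x⁻¹) * Ψ.t = (Ψ.t * x) * x₀ * (x⁻¹ * Ψ.t) := by group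
        _ = (x * Ψ.t) * x₀ * (Ψ.t * x⁻¹) := by rw [hxt.eq, ← hxt.inv_right.eq]
        _ = x * (Ψ.t * x₀ * Ψ.t) * x⁻¹ := by group
        _ = _ := by rw [hkt]; group
    have hcom : Commute x x₀ := commute_of_inverted_fixed Ψ.uu hxu hku hconj hxodd
    have hcom' : Commute x₀ (h * x₀ * h⁻¹) := by
      have := hcom.map (MulAut.conj h).toMonoidHom
      simp only [MulEquiv.coe_toMonoidHom, MulAut.conj_apply, hx] at this
      rwa [show h * (h⁻¹ * x₀ * h) * h⁻¹ = x₀ by group] at this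
    have hinv : Ψ.u * (h * x₀ * h⁻¹) * Ψ.u = (h * x₀ * h⁻¹)⁻¹ := by
      have := inverted_conj (h := h) hkt
      rwa [hht] at this
    have h1 := hK.torus Ψ N hN htN' hΨu hL (hsub x₀ hx₀) (mul_mem (mul_mem hhN (hsub x₀ hx₀)) (inv_mem hhN))
      (op_odd hK hO hk) (by rw [Cfsg.Lib.Invol.orderOf_conj_eq]; exact op_odd hK hO hk) hx₀1 Ψ.u_mem
      (Cfsg.Lib.Invol.ne_one Ψ.hu) Ψ.t_mem hku hkt hcom' hinv
    exact hx₀1 (by simpa using h1)
  by_cases hvs : ∃ y ∈ invSet Φ M r, Commute (Φ.t * Φ.u) y ∧ y ≠ 1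
  · by_cases hus : ∃ x ∈ invSet Φ M r, Commute Φ.u x ∧ x ≠ 1
    · obtain ⟨x, hx, hxu, hx1⟩ := hus
      obtain ⟨y, hy, hyv, hy1⟩ := hvs
      refine hy1 (hK.one_sided Φ N hN htN huN hL hr2 (A := Op r M ⊓ N) inf_le_right
        ((op_isPGroup r M).to_le inf_le_left) (fun z hz => ⟨hO.conj_t_mem hz.1, ?_⟩)
        (fun z hz => ⟨hO.conj_u_mem hz.1, ?_⟩) ⟨hx.1, hsub x hx⟩ ⟨hy.1, hsub y hy⟩ hxu hx.2 hyv hy.2 hx1)
      · exact mul_mem (mul_mem htN hz.2) htN
      · exact mul_mem (mul_mem huN hz.2) huN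
    · push Not at hus
      refine key Φ.swap rfl (mul_mem htN huN) hO.swap fun z hz hzt hc => hus z ⟨hz, hzt⟩ ?_
      rwa [Φ.swap_v] at hc
  · push Not at hvs
    exact key Φ rfl huN hO fun z hz hzt hc => hvs z ⟨hz, hzt⟩ hc

include hK hO in
/-- The only maximal subgroup containing the four group and `F(M)` is `M`. -/
theorem star (h2 : TwoPrimes M) (hA : Anchored Φ M) {N : Subgroup G} (hN : IsCoatom N) (htN : Φ.t ∈ N)
    (huN : Φ.u ∈ N) (hFN : (Cfsg.fittingSubgroup ↥M).map M.subtype ≤ N) : M = N := by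
  obtain ⟨r, hr, hex, hcen⟩ := hA
  haveI : Fact r.Prime := ⟨hr⟩
  have hsub : ∀ x ∈ invSet Φ M r, x ∈ N := fun x hx => fitting_le_iff.1 hFN r hr hx.1
  have hl := no_layer hK hO hN.1 htN huN hsub hex
  have hlead : Cfsg.leadsTo M N := leadsTo_fitting (layer_bot hK hO) (fitting_ne_bot h2) hFN
  refine eq_of_fitting_le hK hO hN h2 hlead hl (fitting_le hK hO hN htN h2 hlead fun q hq hq2 _ hinv _ => ?_)
  refine le_trans (fun b hb => mem_centralizer_iff.2 fun x hx => ?_) hcen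
  exact commute_of_inverted_inverted Φ.tt hx.2 (hinv b hb) (hinv _ (conj_mem_op (hsub x hx) hb))
    (op_odd hK hO hx.1)

include hK hO in
/-- All moved parts of `F(M)` are anchors. -/
theorem anchor_all (h2 : TwoPrimes M) (hA : Anchored Φ M) {s : ℕ} [Fact s.Prime]
    (hex : ∃ x ∈ invSet Φ M s, x ≠ 1) : centralizer (invSet Φ M s) ≤ M := by
  obtain ⟨x, hx, hx1⟩ := hex
  have hne : closure (invSet Φ M s) ≠ ⊥ := fun h => hx1 (mem_bot.1 (h ▸ subset_closure hx))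
  obtain ⟨N, hN, hle⟩ := hK.exists_max_ge_normalizer hne (invSet_solvable hK hO s)
  have hCN := (le_normalizer_invSet hK hO s).trans hle
  have hMN := star hK hO h2 hA hN (hCN (mem_sup_left (mem_centralizer_singleton_iff.2 rfl)))
    (hCN (mem_sup_left (mem_centralizer_singleton_iff.2 Φ.hc.symm.eq))) (le_sup_right.trans hCN)
  refine le_trans (le_trans ?_ ((centralizer_le_normalizer _).trans hle)) hMN.ge
  rw [centralizer_closure]

include hK hO in
/-- The centralizers of `V`-eigenvectors central in `F(M)` are in `M`. -/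
theorem centralizer_le_central (h2 : TwoPrimes M) (hA : Anchored Φ M) {q : ℕ} [Fact q.Prime] {a : G}
    (ha : a ∈ Op q M) (hac : ∀ m ∈ Op q M, Commute m a) (ha1 : a ≠ 1)
    (hat : Φ.t * a * Φ.t = a ∨ Φ.t * a * Φ.t = a⁻¹) (hau : Φ.u * a * Φ.u = a ∨ Φ.u * a * Φ.u = a⁻¹) :
    centralizer ({a} : Set G) ≤ M := by
  have hne : zpowers a ≠ ⊥ := fun h => ha1 (zpowers_eq_bot.1 h)
  obtain ⟨N, hN, hle⟩ := hK.exists_max_ge_normalizer hne inferInstance
  have hcle : centralizer ({a} : Set G) ≤ N := by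
    refine le_trans ?_ ((centralizer_le_normalizer (zpowers a : Set G)).trans hle)
    rw [zpowers_eq_closure, centralizer_closure]
  have hFN : (Cfsg.fittingSubgroup ↥M).map M.subtype ≤ N := fitting_le_iff.2 fun s hs m hm => by
    haveI : Fact s.Prime := ⟨hs⟩
    refine hcle (mem_centralizer_singleton_iff.2 ?_)
    by_cases hsq : s = q
    · subst hsq; exact (hac m hm).eq
    · exact op_commute hsq M hm ha
  rw [star hK hO h2 hA hN (hle (mem_normalizer_zpowers Φ.tt hat)) (hle (mem_normalizer_zpowers Φ.uu hau))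
    hFN]
  exact hcle

include hK hO in
/-- `C(z) ≤ M` for `z` on the `u`-side of `O_p(M)`, if another part is moved or some central element is
fixed by `t` and inverted by `u`. -/
theorem centralizer_le_side (h2 : TwoPrimes M) (hA : Anchored Φ M) {p : ℕ} [Fact p.Prime] {z : G}
    (hz : z ∈ Op p M) (hzt : Φ.t * z * Φ.t = z⁻¹) (hzu : Commute Φ.u z) (hz1 : z ≠ 1)
    (hside : (∃ s, s.Prime ∧ s ≠ p ∧ ∃ x ∈ invSet Φ M s, x ≠ 1) ∨
      ∃ q, q.Prime ∧ ∃ a ∈ Op q M, (∀ m ∈ Op q M, Commute m a) ∧ a ≠ 1 ∧ Commute Φ.t a ∧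
        (∀ c ∈ Op q M ⊓ centralizer (Op q M : Set G), Φ.t * Φ.u * c * (Φ.t * Φ.u) = c⁻¹)) :
    centralizer ({z} : Set G) ≤ M := by
  haveI := hK.min.isSimple
  have hne : zpowers z ≠ ⊥ := fun h => hz1 (zpowers_eq_bot.1 h)
  obtain ⟨N, hN, hle⟩ := hK.exists_max_ge_normalizer hne inferInstance
  have hcle : centralizer ({z} : Set G) ≤ N := by
    refine le_trans ?_ ((centralizer_le_normalizer (zpowers z : Set G)).trans hle)
    rw [zpowers_eq_closure, centralizer_closure]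
  have htN : Φ.t ∈ N := hle (mem_normalizer_zpowers Φ.tt (Or.inr hzt))
  have huN : Φ.u ∈ N := hle (mem_normalizer_zpowers Φ.uu (Or.inl (fix_of_commute Φ.uu hzu)))
  have hlead : Cfsg.leadsTo M N := leadsTo_of_le (layer_bot hK hO) hne
    ((zpowers_le.2 hz).trans (op_le_fitting M p)) hle
  have hzN : z ∈ N := hle (le_normalizer (mem_zpowers z))
  suffices hmain : Cfsg.layer ↥N = ⊥ ∧ (∀ q, q.Prime → q ≠ 2 → Op q M = ⊥ →
      (∀ r ∈ Op q N, Φ.t * r * Φ.t = r⁻¹) → Op q N ⊓ M = ⊥ → Op q N ≤ M) by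
    rw [eq_of_fitting_le hK hO hN h2 hlead hmain.1 (fitting_le hK hO hN htN h2 hlead hmain.2)]
    exact hcle
  rcases hside with ⟨s, hs, hsp, hex⟩ | ⟨q₀, hq₀, a, ha, hac, ha1, hat, hZinv⟩
  · haveI : Fact s.Prime := ⟨hs⟩
    have hsub : ∀ x ∈ invSet Φ M s, x ∈ N := fun x hx =>
      hcle (mem_centralizer_singleton_iff.2 (op_commute hsp M hx.1 hz))
    refine ⟨no_layer hK hO hN.1 htN huN hsub hex, fun q _ _ _ hinv _ => ?_⟩
    refine le_trans (fun b hb => mem_centralizer_iff.2 fun x hx => ?_) (anchor_all hK hO h2 hA hex)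
    exact commute_of_inverted_inverted Φ.tt hx.2 (hinv b hb) (hinv _ (conj_mem_op (hsub x hx) hb))
      (op_odd hK hO hx.1)
  haveI : Fact q₀.Prime := ⟨hq₀⟩
  have haodd := op_odd hK hO ha
  have hzodd := op_odd hK hO hz
  have hav : Φ.t * Φ.u * a * (Φ.t * Φ.u) = a⁻¹ := hZinv a ⟨ha, mem_centralizer_iff.2 fun m hm => (hac m hm).eq⟩
  have hau : Φ.u * a * Φ.u = a⁻¹ := inverted_u Φ hat hav
  have haz : Commute a z := by
    by_cases h : q₀ = p
    · subst h; exact (hac z hz).symm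
    · exact op_commute h M ha hz
  have haN : a ∈ N := hcle (mem_centralizer_singleton_iff.2 haz.eq)
  have hl : Cfsg.layer ↥N = ⊥ := by
    by_contra hL
    exact hz1 (hK.torus Φ N hN.1 htN huN hL haN hzN haodd hzodd ha1 Φ.t_mem
      (Cfsg.Lib.Invol.ne_one Φ.ht) Φ.u_mem hat hau haz hzt)
  by_cases hs : ∃ s, s.Prime ∧ s ≠ p ∧ ∃ x ∈ invSet Φ M s, x ≠ 1
  · obtain ⟨s, hs, hsp, hex⟩ := hs
    haveI : Fact s.Prime := ⟨hs⟩
    refine ⟨hl, fun q _ _ _ hinv _ => ?_⟩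
    refine le_trans (fun b hb => mem_centralizer_iff.2 fun x hx => ?_) (anchor_all hK hO h2 hA hex)
    exact commute_of_inverted_inverted Φ.tt hx.2 (hinv b hb)
      (hinv _ (conj_mem_op (hcle (mem_centralizer_singleton_iff.2 (op_commute hsp M hx.1 hz))) hb))
      (op_odd hK hO hx.1)
  push Not at hs
  refine ⟨hl, fun q hq hq2 hqM hinv hinf => ?_⟩
  haveI : Fact q.Prime := ⟨hq⟩
  -- `y = g⁻¹ z g` centralizes `a`
  set y := Φ.g⁻¹ * z * Φ.g with hy
  have hyt : Commute Φ.t y := by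
    have := fixed_conj (h := Φ.g⁻¹) hzu
    rwa [inv_inv, Φ.gu', ← hy] at this
  have hyv : Φ.t * Φ.u * y * (Φ.t * Φ.u) = y⁻¹ := by
    have := inverted_conj (h := Φ.g⁻¹) hzt
    rwa [inv_inv, Φ.gt', ← hy] at this
  have hyM : y ∈ M := hO.mem_of_commute hyt
  have hyord : orderOf y = orderOf z := by
    rw [hy, show Φ.g⁻¹ * z * Φ.g = Φ.g⁻¹ * z * (Φ.g⁻¹)⁻¹ by rw [inv_inv], Cfsg.Lib.Invol.orderOf_conj_eq]
  have hyodd : Odd (orderOf y) := hyord ▸ hzodd
  have hZn : ∀ m ∈ M, ∀ c ∈ Op q₀ M ⊓ centralizer (Op q₀ M : Set G),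
      m * c * m⁻¹ ∈ Op q₀ M ⊓ centralizer (Op q₀ M : Set G) := fun m hm c hc =>
    ⟨conj_mem_op hm hc.1, mem_centralizer_iff.2 fun w hw => by
      have hw' := mem_centralizer_iff.1 hc.2 _ (conj_mem_op (inv_mem hm) hw)
      calc w * (m * c * m⁻¹) = m * ((m⁻¹ * w * m⁻¹⁻¹) * c) * m⁻¹ := by group
        _ = m * (c * (m⁻¹ * w * m⁻¹⁻¹)) * m⁻¹ := by rw [hw']
        _ = _ := by group⟩
  have haZ : a ∈ Op q₀ M ⊓ centralizer (Op q₀ M : Set G) :=
    ⟨ha, mem_centralizer_iff.2 fun m hm => (hac m hm).eq⟩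
  have hya : Commute y a :=
    commute_of_inverted_inverted Φ.vv hyv hav (hZinv _ (hZn y hyM a haZ)) hyodd
  set a' := Φ.g * a * Φ.g⁻¹ with ha'
  have ha'z : Commute z a' := by
    have := hya.map (MulAut.conj Φ.g).toMonoidHom
    simp only [MulEquiv.coe_toMonoidHom, MulAut.conj_apply, hy, ← ha'] at this
    rwa [show Φ.g * (Φ.g⁻¹ * z * Φ.g) * Φ.g⁻¹ = z by group] at this
  have ha'N : a' ∈ N := hcle (mem_centralizer_singleton_iff.2 ha'z.symm.eq)
  have ha't : Φ.t * a' * Φ.t = a'⁻¹ := by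
    have := inverted_conj (h := Φ.g) hav
    rwa [Φ.gv, ← ha'] at this
  have ha'odd : Odd (orderOf a') := by rw [ha', Cfsg.Lib.Invol.orderOf_conj_eq]; exact haodd
  have hCa : centralizer ({a} : Set G) ≤ M :=
    centralizer_le_central hK hO h2 hA ha hac ha1 (Or.inl (fix_of_commute Φ.tt hat)) (Or.inr hau)
  -- the elements of `O_q(N)` fixed by `t * u`
  have hfixv : ∀ b ∈ Op q N, Commute (Φ.t * Φ.u) b → b = 1 := by
    intro b hb hbv
    have hbodd : Odd (orderOf b) := conj_odd hq2 (op_isPGroup q N) hb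
    have hba' : Commute a' b :=
      commute_of_inverted_inverted Φ.tt ha't (hinv b hb) (hinv _ (conj_mem_op ha'N hb)) ha'odd
    have hbz : Commute z b :=
      commute_of_inverted_inverted Φ.tt hzt (hinv b hb) (hinv _ (conj_mem_op hzN hb)) hzodd
    set c := Φ.g⁻¹ * b * Φ.g with hc
    have hcM : c ∈ M := hCa (mem_centralizer_singleton_iff.2 (by
      have := hba'.map (MulAut.conj Φ.g⁻¹).toMonoidHom
      simp only [MulEquiv.coe_toMonoidHom, MulAut.conj_apply, inv_inv, ha', ← hc] at this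
      rw [show Φ.g⁻¹ * (Φ.g * a * Φ.g⁻¹) * Φ.g = a by group] at this
      exact this.symm.eq))
    have hct : Φ.t * c * Φ.t = c⁻¹ := by
      have hbu : Φ.u * b * Φ.u = b⁻¹ := by
        rw [← hinv b hb, show Φ.u = Φ.t * (Φ.t * Φ.u) from Φ.t_mul_v.symm]
        rw [show Φ.t * (Φ.t * Φ.u) * b * (Φ.t * (Φ.t * Φ.u)) =
          Φ.t * ((Φ.t * Φ.u) * b * (Φ.t * (Φ.t * Φ.u))) by group, Φ.t_mul_v]
        rw [show (Φ.t * Φ.u) * b * Φ.u = b * (Φ.t * Φ.u) * Φ.u by rw [hbv.eq], mul_assoc b,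
          mul_assoc Φ.t, Φ.uu, mul_one, mul_assoc]
      have := inverted_conj (h := Φ.g⁻¹) hbu
      rwa [inv_inv, Φ.gu', ← hc] at this
    have hcord : orderOf c = orderOf b := by
      rw [hc, show Φ.g⁻¹ * b * Φ.g = Φ.g⁻¹ * b * (Φ.g⁻¹)⁻¹ by rw [inv_inv], Cfsg.Lib.Invol.orderOf_conj_eq]
    have hcodd : Odd (orderOf c) := hcord ▸ hbodd
    have hyc : Commute y c := by
      have := hbz.map (MulAut.conj Φ.g⁻¹).toMonoidHom
      simp only [MulEquiv.coe_toMonoidHom, MulAut.conj_apply, inv_inv] at this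
      exact this
    obtain ⟨k, hk⟩ := IsPGroup.iff_orderOf.1 (op_isPGroup q N) ⟨b, hb⟩
    rw [← orderOf_coe] at hk
    have hqp : q ≠ p := by
      rintro rfl
      rw [hqM, mem_bot] at hz
      exact hz1 hz
    have hcp : ⁅Op p M, zpowers c⁆ = ⊥ := by
      refine Cfsg.Lib.Coprime.commutator_eq_bot_of_AxB (p := p) (Op p M) (zpowers y) (zpowers c)
        (op_isPGroup p M) ?_ ?_ ((zpowers_le.2 hyM).trans (le_normalizer_op p M))
        ((zpowers_le.2 hcM).trans (le_normalizer_op p M)) ?_ ?_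
      · obtain ⟨j, hj⟩ := IsPGroup.iff_orderOf.1 (op_isPGroup p M) ⟨z, hz⟩
        rw [← orderOf_coe] at hj
        exact IsPGroup.of_card (n := j) (by rw [Nat.card_zpowers, hyord, hj])
      · rw [Nat.card_zpowers, hcord, hk]
        exact ((Nat.coprime_primes hq (Fact.out : p.Prime)).2 hqp).pow_left k
      · rw [zpowers_le]
        rw [zpowers_eq_closure, centralizer_closure]
        exact mem_centralizer_singleton_iff.2 hyc.symm.eq
      · intro w hw
        have hwy : Commute w y :=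
          (mem_centralizer_iff.1 hw.2 y (mem_zpowers y)).symm
        rw [zpowers_eq_closure, centralizer_closure]
        refine mem_centralizer_singleton_iff.2 ?_
        have hw'N : Φ.g * w * Φ.g⁻¹ ∈ N := hcle (mem_centralizer_singleton_iff.2 (by
          have := hwy.map (MulAut.conj Φ.g).toMonoidHom
          simp only [MulEquiv.coe_toMonoidHom, MulAut.conj_apply, hy] at this
          rw [show Φ.g * (Φ.g⁻¹ * z * Φ.g) * Φ.g⁻¹ = z by group] at this
          exact this.eq))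
        have hd1 : w * c * w⁻¹ * c⁻¹ ∈ Op p M := by
          rw [show w * c * w⁻¹ * c⁻¹ = w * (c * w⁻¹ * c⁻¹) by group]
          exact mul_mem hw.1 (conj_mem_op hcM (inv_mem hw.1))
        have hd2 : Φ.g * (w * c * w⁻¹ * c⁻¹) * Φ.g⁻¹ ∈ Op q N := by
          rw [show Φ.g * (w * c * w⁻¹ * c⁻¹) * Φ.g⁻¹ =
            ((Φ.g * w * Φ.g⁻¹) * b * (Φ.g * w * Φ.g⁻¹)⁻¹) * b⁻¹ by rw [hc]; group]
          exact mul_mem (conj_mem_op hw'N hb) (inv_mem hb)
        have hd3 : Φ.g * (w * c * w⁻¹ * c⁻¹) * Φ.g⁻¹ = 1 :=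
          eq_one_of_two_primes hqp (op_isPGroup q N)
            ((op_isPGroup p M).map (MulAut.conj Φ.g).toMonoidHom) hd2 ⟨_, hd1, rfl⟩
        rw [conj_eq_one_iff, mul_inv_eq_one, mul_inv_eq_iff_eq_mul] at hd3
        exact hd3
    have hall : ∀ s, s.Prime → ∀ m ∈ Op s M, Commute c m := by
      intro s hs' m hm
      haveI : Fact s.Prime := ⟨hs'⟩
      by_cases hsp : s = p
      · subst hsp
        exact (mem_centralizer_iff.1 (commutator_eq_bot_iff_le_centralizer.1 hcp hm) c (mem_zpowers c))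
      · have hfix : ∀ w ∈ Op s M, Commute Φ.t w := fun w hw => by
          by_contra hmv
          obtain ⟨x, hx, hx1⟩ := invSet_nontrivial hK hO hw hmv
          exact hx1 (hs s hs' hsp x hx)
        exact commute_of_inverted_fixed Φ.tt hct (hfix m hm) (hfix _ (conj_mem_op hcM hm)) hcodd
    have hcF := mem_fitting hK hO hcM hall
    have hc1 : c ∈ Op q M := mem_op_of_fitting hcF ⟨k, by rw [← hk, ← hcord, pow_orderOf_eq_one]⟩
    rw [hqM, mem_bot, hc] at hc1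
    calc b = Φ.g * (Φ.g⁻¹ * b * Φ.g) * Φ.g⁻¹ := by group
      _ = 1 := by rw [hc1, mul_one, mul_inv_cancel]
  intro b hb
  have hinvv : ∀ r ∈ Op q N, Φ.t * Φ.u * r * (Φ.t * Φ.u) = r⁻¹ := fun r hr => by
    refine inverts_of_fixed_trivial Φ.vv (fun x hx => ?_) hfixv hr
    have := conj_mem_op (mul_mem htN huN) hx
    rwa [inv_eq_of_mul_eq_one_right Φ.vv] at this
  exact hCa (mem_centralizer_singleton_iff.2
    (commute_of_inverted_inverted Φ.vv hav (hinvv b hb) (hinvv _ (conj_mem_op haN hb)) haodd).symm.eq)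

end Over

end Cfsg.Lib.GW
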