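import Mathlib
import Cfsg.Agent.S0205

/-!
# Gorenstein–Walter, Sylow four groups: odd groups of determinant one acting on a plane

An odd group of `2 × 2` matrices of determinant one over `ZMod q` without a normal `q`-subgroup is abelian,
fixed point free, and its order divides `q - 1` or `q + 1`.
-/

set_option autoImplicit false
set_option linter.unusedSectionVars false
set_option linter.style.haveILetI false

namespace Cfsg.Lib.GW.Plane

open Matrix Subgroup

variable {q : ℕ} [Fact q.Prime]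

/-- The discriminant of the characteristic polynomial. -/
def disc (A : Matrix (Fin 2) (Fin 2) (ZMod q)) : ZMod q :=
  (A 0 0 - A 1 1) * (A 0 0 - A 1 1) + 4 * (A 0 1 * A 1 0)

/-- The bilinear form polar to `disc`. -/
def pol (A B : Matrix (Fin 2) (Fin 2) (ZMod q)) : ZMod q :=
  (A 0 0 - A 1 1) * (B 0 0 - B 1 1) + 2 * (A 0 1 * B 1 0 + A 1 0 * B 0 1)

theorem two_ne_zero_of (hq2 : q ≠ 2) : (2 : ZMod q) ≠ 0 := fun h => by
  have h' : ((2 : ℕ) : ZMod q) = 0 := by exact_mod_cast h
  rw [ZMod.natCast_eq_zero_iff] at h'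
  exact hq2 ((Nat.prime_dvd_prime_iff_eq Fact.out Nat.prime_two).1 h')

theorem disc_of_trace {A : Matrix (Fin 2) (Fin 2) (ZMod q)} (hd : A.det = 1) (ht : A 0 0 + A 1 1 = 2) :
    disc A = 0 := by
  rw [det_fin_two] at hd
  simp only [disc]
  linear_combination (A 0 0 + A 1 1 + 2) * ht - 4 * hd

theorem pow_q_eq_one {A : Matrix (Fin 2) (Fin 2) (ZMod q)} (hd : A.det = 1) (ht : A 0 0 + A 1 1 = 2) :
    A ^ q = 1 := by
  rw [det_fin_two] at hd
  have hN : (A - 1) * (A - 1) = 0 := by
    ext i j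
    fin_cases i <;> fin_cases j <;>
      simp only [Matrix.mul_apply, Fin.sum_univ_two, Matrix.sub_apply, Matrix.zero_apply, Matrix.one_apply,
        Fin.isValue, Fin.zero_eta, Fin.mk_one, if_true, if_false, zero_ne_one, one_ne_zero]
    · linear_combination (A 0 0) * ht - hd
    · linear_combination (A 0 1) * ht
    · linear_combination (A 1 0) * ht
    · linear_combination (A 1 1) * ht - hd
  have hq : q.Prime := Fact.out
  have h0 : (A - 1) ^ q = 0 := pow_eq_zero_of_le hq.two_le (by rw [pow_two, hN])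
  have h := add_pow_char_of_commute q (Commute.one_left (A - 1))
  rwa [add_sub_cancel, one_pow, h0, add_zero] at h

/-- Matrices commuting with one another have parallel trace zero parts. -/
theorem parallel {A B : Matrix (Fin 2) (Fin 2) (ZMod q)} (h : Commute A B) :
    disc A * (B 0 0 - B 1 1) = pol A B * (A 0 0 - A 1 1) ∧ disc A * B 0 1 = pol A B * A 0 1 ∧
      disc A * B 1 0 = pol A B * A 1 0 := by
  have h00 := congrFun (congrFun h.eq 0) 0
  have h01 := congrFun (congrFun h.eq 0) 1
  have h10 := congrFun (congrFun h.eq 1) 0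
  simp only [Matrix.mul_apply, Fin.sum_univ_two] at h00 h01 h10
  refine ⟨?_, ?_, ?_⟩ <;> simp only [disc, pol]
  · linear_combination (2 * A 0 1) * h10 - (2 * A 1 0) * h01
  · linear_combination (A 0 0 - A 1 1) * h01 - (2 * A 0 1) * h00
  · linear_combination -(A 0 0 - A 1 1) * h10 + (2 * A 1 0) * h00

variable {Q : Type*} [Group Q] [Finite Q]

/-- A faithful representation of determinant one of an odd group, with trivial `q`-core. -/
structure Data (q : ℕ) (Q : Type*) [Group Q] where
  τ : Q →* Matrix (Fin 2) (Fin 2) (ZMod q)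
  det_eq : ∀ x, (τ x).det = 1
  inj : Function.Injective τ
  odd : Odd (Nat.card Q)
  core : ∀ M : Subgroup Q, M.Normal → IsPGroup q M → M = ⊥
  ne_two : q ≠ 2

namespace Data

variable (D : Data q Q)
include D

theorem pow_q_of_disc {z : Q} (hz : disc (D.τ z) = 0) : z ^ q = 1 := by
  have h2 : D.τ ((z * z) ^ q) = 1 := by
    rw [map_pow]
    refine pow_q_eq_one (D.det_eq _) ?_
    rw [map_mul]
    have hd := D.det_eq z
    rw [det_fin_two] at hd
    simp only [disc] at hz
    simp only [Matrix.mul_apply, Fin.sum_univ_two]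
    linear_combination hz + 2 * hd
  have h3 : (z * z) ^ q = 1 := D.inj (h2.trans (map_one _).symm)
  rw [← pow_two, pow_right_comm] at h3
  have hodd : Odd (orderOf (z ^ q)) := D.odd.of_dvd_nat (orderOf_dvd_natCard _)
  exact orderOf_eq_one_iff.1 (Nat.eq_one_of_dvd_coprimes (Nat.coprime_two_left.2 hodd)
    (orderOf_dvd_of_pow_eq_one h3) (dvd_refl _))

theorem exists_abelian [Nontrivial Q] : ∃ M : Subgroup Q, M.Normal ∧ M ≠ ⊥ ∧ IsMulCommutative M := by
  classical
  haveI : Group.IsSolvable Q := Cfsg.Agent.S0205.result D.odd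
  obtain ⟨n, hn⟩ := (inferInstance : Group.IsSolvable Q).solvable
  have hex : ∃ n, derivedSeries Q n = ⊥ := ⟨n, hn⟩
  obtain ⟨k, hk⟩ : ∃ k, Nat.find hex = k + 1 := by
    refine Nat.exists_eq_succ_of_ne_zero fun h0 => ?_
    have := Nat.find_spec hex
    rw [h0, derivedSeries_zero] at this
    exact top_ne_bot this
  refine ⟨derivedSeries Q k, derivedSeries_normal Q k, fun h => by have := Nat.find_min' hex h; omega,
    ⟨⟨fun a b => ?_⟩⟩⟩
  have h1 : ⁅derivedSeries Q k, derivedSeries Q k⁆ = ⊥ := by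
    rw [← derivedSeries_succ, ← hk]
    exact Nat.find_spec hex
  exact Subtype.ext (mem_centralizer_iff.1 (commutator_eq_bot_iff_le_centralizer.1 h1 b.2) _ a.2)

theorem commutative : ∀ x y : Q, Commute x y := by
  rcases subsingleton_or_nontrivial Q with h | h
  · exact fun x y => Subsingleton.elim _ _
  obtain ⟨M, hMn, hMne, hMc⟩ := D.exists_abelian
  obtain ⟨z, hzM, hz1⟩ := (bot_or_exists_ne_one M).resolve_left hMne
  have hcomm : ∀ a ∈ M, ∀ b ∈ M, Commute a b := fun a ha b hb =>
    congrArg Subtype.val (hMc.is_comm.comm ⟨a, ha⟩ ⟨b, hb⟩)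
  have hzq : z ^ q ≠ 1 := by
    intro hzq
    let M1 : Subgroup Q :=
      { carrier := {x | x ∈ M ∧ x ^ q = 1}
        one_mem' := ⟨one_mem _, one_pow _⟩
        mul_mem' := fun {a b} ha hb => ⟨mul_mem ha.1 hb.1, by
          rw [(hcomm a ha.1 b hb.1).mul_pow, ha.2, hb.2, one_mul]⟩
        inv_mem' := fun {a} ha => ⟨inv_mem ha.1, by rw [inv_pow, ha.2, inv_one]⟩ }
    have hn : M1.Normal := ⟨fun a ha g => ⟨hMn.conj_mem a ha.1 g, by rw [conj_pow, ha.2]; group⟩⟩
    have := D.core M1 hn (fun a => ⟨1, Subtype.ext (by rw [pow_one]; exact a.2.2)⟩)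
    exact hz1 (by rw [← Subgroup.mem_bot, ← this]; exact ⟨hzM, hzq⟩)
  have hD : disc (D.τ z) ≠ 0 := fun h => hzq (D.pow_q_of_disc h)
  have hc : ∀ y, Commute y z := by
    intro y
    have hw : y * z * y⁻¹ ∈ M := hMn.conj_mem z hzM y
    set A := D.τ z with hA
    set B := D.τ (y * z * y⁻¹) with hB
    obtain ⟨e1, e2, e3⟩ := parallel (A := A) (B := B) ((hcomm z hzM _ hw).map D.τ)
    have ht : B 0 0 + B 1 1 = A 0 0 + A 1 1 := by
      have h : Matrix.trace B = Matrix.trace A := by
        rw [hB, map_mul, map_mul, Matrix.trace_mul_cycle, ← map_mul, inv_mul_cancel, map_one, one_mul]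
      simpa [Matrix.trace, Fin.sum_univ_two] using h
    have hdd : disc B = disc A := by
      have hd1 := D.det_eq z
      have hd2 := D.det_eq (y * z * y⁻¹)
      rw [← hA, det_fin_two] at hd1
      rw [← hB, det_fin_two] at hd2
      simp only [disc]
      linear_combination (B 0 0 + B 1 1 + (A 0 0 + A 1 1)) * ht - 4 * hd2 + 4 * hd1
    have hpp : pol A B * pol A B = disc A * disc A := by
      refine mul_left_cancel₀ hD ?_
      conv_rhs => arg 2; arg 2; rw [← hdd]
      simp only [disc] at e1 e2 e3 ⊢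
      linear_combination -(((A 0 0 - A 1 1) * (A 0 0 - A 1 1) + 4 * (A 0 1 * A 1 0)) * (B 0 0 - B 1 1)
          + pol A B * (A 0 0 - A 1 1)) * e1
        - (4 * (((A 0 0 - A 1 1) * (A 0 0 - A 1 1) + 4 * (A 0 1 * A 1 0)) * B 1 0)) * e2
        - (4 * (pol A B * A 0 1)) * e3
    have h2 := two_ne_zero_of D.ne_two
    rcases mul_self_eq_mul_self_iff.1 hpp with hp | hp <;> rw [hp] at e1 e2 e3
    · have h01 : B 0 1 = A 0 1 := mul_left_cancel₀ hD e2
      have h10 : B 1 0 = A 1 0 := mul_left_cancel₀ hD e3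
      have hdg := mul_left_cancel₀ hD e1
      have h00 : B 0 0 = A 0 0 := mul_left_cancel₀ h2 (by linear_combination ht + hdg)
      have h11 : B 1 1 = A 1 1 := mul_left_cancel₀ h2 (by linear_combination ht - hdg)
      have hBA : B = A := by
        ext i j
        fin_cases i <;> fin_cases j <;> assumption
      exact mul_inv_eq_iff_eq_mul.1 (D.inj hBA)
    · exfalso
      rw [neg_mul, ← mul_neg] at e1 e2 e3
      have h01 : B 0 1 = -A 0 1 := mul_left_cancel₀ hD e2
      have h10 : B 1 0 = -A 1 0 := mul_left_cancel₀ hD e3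
      have hdg := mul_left_cancel₀ hD e1
      have h00 : B 0 0 = A 1 1 := mul_left_cancel₀ h2 (by linear_combination ht + hdg)
      have h11 : B 1 1 = A 0 0 := mul_left_cancel₀ h2 (by linear_combination ht - hdg)
      have hd := D.det_eq z
      rw [← hA, det_fin_two] at hd
      have hAB : D.τ (z * (y * z * y⁻¹)) = 1 := by
        rw [map_mul, ← hA, ← hB]
        ext i j
        fin_cases i <;> fin_cases j <;>
          simp [Matrix.mul_apply, Fin.sum_univ_two, h00, h01, h10, h11]
        · linear_combination hd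
        · ring
        · ring
        · linear_combination hd
      have hinv : y * z * y⁻¹ = z⁻¹ :=
        eq_inv_of_mul_eq_one_right (D.inj (hAB.trans (map_one _).symm))
      have hyy : Commute (y * y) z := by
        refine mul_inv_eq_iff_eq_mul.1 ?_
        rw [_root_.mul_inv_rev, show y * y * z * (y⁻¹ * y⁻¹) = y * (y * z * y⁻¹) * y⁻¹ by group, hinv,
          show y * z⁻¹ * y⁻¹ = (y * z * y⁻¹)⁻¹ by group, hinv, inv_inv]
      obtain ⟨j, hj⟩ := D.odd.of_dvd_nat (orderOf_dvd_natCard y)
      have hy : Commute y z := by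
        have : y = (y * y) ^ (j + 1) := by
          rw [← pow_two, ← pow_mul, show 2 * (j + 1) = orderOf y + 1 by omega, pow_succ, pow_orderOf_eq_one,
            one_mul]
        rw [this]
        exact hyy.pow_left _
      rw [hy.eq, mul_inv_cancel_right] at hinv
      have hz2 : z ^ 2 = 1 := by rw [pow_two]; exact mul_eq_one_iff_eq_inv.2 hinv
      exact hz1 (orderOf_eq_one_iff.1 (Nat.eq_one_of_dvd_coprimes
        (Nat.coprime_two_left.2 (D.odd.of_dvd_nat (orderOf_dvd_natCard z)))
        (orderOf_dvd_of_pow_eq_one hz2) (dvd_refl _)))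
  intro x y
  obtain ⟨a1, a2, a3⟩ := parallel ((hc x).symm.map D.τ)
  obtain ⟨b1, b2, b3⟩ := parallel ((hc y).symm.map D.τ)
  refine D.inj ?_
  rw [map_mul, map_mul]
  set A := D.τ z
  set B := D.τ x
  set C := D.τ y
  have c1 : B 0 1 * C 1 0 = B 1 0 * C 0 1 := by
    refine mul_left_cancel₀ (mul_ne_zero hD hD) ?_
    linear_combination (disc A * C 1 0) * a2 + (pol A B * A 0 1) * b3 - (disc A * C 0 1) * a3
      - (pol A B * A 1 0) * b2
  have c2 : (B 0 0 - B 1 1) * C 0 1 = B 0 1 * (C 0 0 - C 1 1) := by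
    refine mul_left_cancel₀ (mul_ne_zero hD hD) ?_
    linear_combination (disc A * C 0 1) * a1 + (pol A B * (A 0 0 - A 1 1)) * b2
      - (disc A * (C 0 0 - C 1 1)) * a2 - (pol A B * A 0 1) * b1
  have c3 : (B 0 0 - B 1 1) * C 1 0 = B 1 0 * (C 0 0 - C 1 1) := by
    refine mul_left_cancel₀ (mul_ne_zero hD hD) ?_
    linear_combination (disc A * C 1 0) * a1 + (pol A B * (A 0 0 - A 1 1)) * b3
      - (disc A * (C 0 0 - C 1 1)) * a3 - (pol A B * A 1 0) * b1
  ext i j
  fin_cases i <;> fin_cases j <;> simp [Matrix.mul_apply, Fin.sum_univ_two]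
  · linear_combination c1
  · linear_combination c2
  · linear_combination -c3
  · linear_combination -c1

theorem eq_one_of_pow_q {x : Q} (hx : x ^ q = 1) : x = 1 := by
  let M1 : Subgroup Q :=
    { carrier := {x | x ^ q = 1}
      one_mem' := one_pow _
      mul_mem' := fun {a b} (ha : a ^ q = 1) (hb : b ^ q = 1) =>
        show (a * b) ^ q = 1 by rw [(D.commutative a b).mul_pow, ha, hb, one_mul]
      inv_mem' := fun {a} (ha : a ^ q = 1) => show a⁻¹ ^ q = 1 by rw [inv_pow, ha, inv_one] }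
  have hn : M1.Normal := ⟨fun a ha g => by rwa [(D.commutative g a).eq, mul_inv_cancel_right]⟩
  have := D.core M1 hn (fun a => ⟨1, Subtype.ext (by rw [pow_one]; exact a.2)⟩)
  rw [← Subgroup.mem_bot, ← this]
  exact hx

theorem disc_ne_zero {x : Q} (hx : x ≠ 1) : disc (D.τ x) ≠ 0 := fun h =>
  hx (D.eq_one_of_pow_q (D.pow_q_of_disc h))

/-- Fixed point freeness. -/
theorem fpf {x : Q} (hx : x ≠ 1) {v : Fin 2 → ZMod q} (hv : D.τ x *ᵥ v = v) : v = 0 := by
  by_contra hne
  refine D.disc_ne_zero hx (disc_of_trace (D.det_eq x) ?_)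
  have h : (D.τ x - 1).det = 0 :=
    Matrix.exists_mulVec_eq_zero_iff.1 ⟨v, hne, by rw [Matrix.sub_mulVec, hv, Matrix.one_mulVec, sub_self]⟩
  have hd := D.det_eq x
  rw [det_fin_two] at h hd
  simp at h
  linear_combination hd - h

/-- A common eigenvector. -/
theorem lower_zero {x : Q} (hx : x ≠ 1) (h0 : D.τ x 1 0 = 0) (y : Q) : D.τ y 1 0 = 0 := by
  obtain ⟨-, -, e3⟩ := parallel ((D.commutative x y).map D.τ)
  rw [h0, mul_zero] at e3
  exact (mul_eq_zero.1 e3).resolve_left (D.disc_ne_zero hx)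

theorem coprime_q : q.Coprime (Nat.card Q) := by
  refine (Fact.out : q.Prime).coprime_iff_not_dvd.2 fun h => ?_
  obtain ⟨x, hx⟩ := exists_prime_orderOf_dvd_card' (G := Q) q h
  have := D.eq_one_of_pow_q (x := x) (by rw [← hx, pow_orderOf_eq_one])
  rw [this, orderOf_one] at hx
  exact (Fact.out : q.Prime).ne_one hx.symm

theorem card_dvd_sub_one {x : Q} (hx : x ≠ 1) {v : Fin 2 → ZMod q} (hv : v ≠ 0)
    (hq : D.τ x 1 0 * (v 0 * v 0) - (D.τ x 0 0 - D.τ x 1 1) * (v 0 * v 1) - D.τ x 0 1 * (v 1 * v 1) = 0) :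
    Nat.card Q ∣ q - 1 := by
  classical
  have key : ∀ y, ∃ c : ZMod q, D.τ y *ᵥ v = c • v := by
    intro y
    obtain ⟨e1, e2, e3⟩ := parallel ((D.commutative x y).map D.τ)
    have hpar : (D.τ y *ᵥ v) 0 * v 1 = (D.τ y *ᵥ v) 1 * v 0 := by
      refine mul_left_cancel₀ (D.disc_ne_zero hx) ?_
      simp only [Matrix.mulVec, dotProduct, Fin.sum_univ_two]
      linear_combination (v 0 * v 1) * e1 + (v 1 * v 1) * e2 - (v 0 * v 0) * e3
        - (pol (D.τ x) (D.τ y)) * hq
    by_cases h1 : v 1 = 0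
    · have h0 : v 0 ≠ 0 := fun h0 => hv (funext fun i => by fin_cases i <;> assumption)
      refine ⟨(D.τ y *ᵥ v) 0 / v 0, funext fun i => ?_⟩
      fin_cases i
      · simp [h0]
      · rw [h1, mul_zero] at hpar
        simp [h1, (mul_eq_zero.1 hpar.symm).resolve_right h0]
    · refine ⟨(D.τ y *ᵥ v) 1 / v 1, funext fun i => ?_⟩
      fin_cases i
      · simp only [Fin.zero_eta, Fin.isValue, Pi.smul_apply, smul_eq_mul]
        field_simp
        linear_combination hpar
      · simp [h1]
  choose χ hχ using key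
  have huniq : ∀ {a b : ZMod q}, a • v = b • v → a = b := fun {a b} h => smul_left_injective (ZMod q) hv h
  let f : Q →* ZMod q :=
    { toFun := χ
      map_one' := huniq (by rw [← hχ, map_one, Matrix.one_mulVec, one_smul])
      map_mul' := fun a b => huniq (by
        rw [← hχ, map_mul, ← Matrix.mulVec_mulVec, hχ b, Matrix.mulVec_smul, hχ a, smul_smul, mul_comm]) }
  have hinj : Function.Injective f.toHomUnits := by
    refine (injective_iff_map_eq_one _).2 fun a ha => ?_
    by_contra hne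
    have h1 : χ a = 1 := congrArg Units.val ha
    exact hv (D.fpf hne (by rw [hχ, h1, one_smul]))
  have := Subgroup.card_dvd_of_injective _ hinj
  rwa [Nat.card_eq_fintype_card (α := (ZMod q)ˣ), ZMod.card_units] at this

/-- The order divides `q - 1` or `q + 1`. -/
theorem card_dvd : Nat.card Q ∣ q - 1 ∨ Nat.card Q ∣ q + 1 := by
  classical
  have h2 := two_ne_zero_of D.ne_two
  by_cases hs : ∃ x : Q, x ≠ 1 ∧ IsSquare (disc (D.τ x))
  · left
    obtain ⟨x, hx, s, hs⟩ := hs
    by_cases h0 : D.τ x 1 0 = 0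
    · exact D.card_dvd_sub_one hx (v := ![1, 0]) (fun h => one_ne_zero (congrFun h 0)) (by simp [h0])
    · refine D.card_dvd_sub_one hx (v := ![D.τ x 0 0 - D.τ x 1 1 + s, 2 * D.τ x 1 0])
        (fun h => mul_ne_zero h2 h0 (congrFun h 1)) ?_
      simp only [disc] at hs
      simp
      linear_combination -(D.τ x 1 0) * hs
  right
  push Not at hs
  have hcop : Nat.Coprime (Nat.card Q) (q - 1) := by
    refine Nat.coprime_of_dvd fun r hr hrQ hrq => ?_
    haveI : Fact r.Prime := ⟨hr⟩
    obtain ⟨x, hxo⟩ := exists_prime_orderOf_dvd_card' (G := Q) r hrQ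
    have hx : x ≠ 1 := fun e => hr.ne_one (by rw [← hxo, e, orderOf_one])
    have hxq : x ^ q = x := by
      obtain ⟨c, hc⟩ := hrq
      have hq1 := (Fact.out : q.Prime).one_le
      rw [show q = r * c + 1 by omega, pow_succ, pow_mul, ← hxo, pow_orderOf_eq_one, one_pow, one_mul]
    refine hs x hx ?_
    rw [ZMod.euler_criterion q (D.disc_ne_zero hx)]
    set A := D.τ x with hA
    set W : Matrix (Fin 2) (Fin 2) (ZMod q) := (2 : ZMod q) • A - (A 0 0 + A 1 1) • 1 with hW
    have hWW : W * W = disc A • (1 : Matrix (Fin 2) (Fin 2) (ZMod q)) := by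
      ext i j
      fin_cases i <;> fin_cases j <;> simp [hW, disc, Matrix.mul_apply, Fin.sum_univ_two] <;> ring
    obtain ⟨k, hk⟩ := (Fact.out : q.Prime).odd_of_ne_two D.ne_two
    have hWq : W ^ q = disc A ^ k • W := by
      refine (congrArg (W ^ ·) hk).trans ?_
      show W ^ (2 * k + 1) = _
      rw [pow_succ, pow_mul, pow_two, hWW, smul_pow, one_pow, smul_mul_assoc, one_mul]
    have hW0 : W ≠ 0 := fun h => D.disc_ne_zero hx (by
      have := congrFun (congrFun hWW 0) 0
      rw [h] at this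
      simpa using this.symm)
    have hWq' : W ^ q = W := by
      have h : W + (A 0 0 + A 1 1) • (1 : Matrix (Fin 2) (Fin 2) (ZMod q)) = (2 : ZMod q) • A := by
        rw [hW, sub_add_cancel]
      have hc : Commute W ((A 0 0 + A 1 1) • (1 : Matrix (Fin 2) (Fin 2) (ZMod q))) :=
        (Commute.one_right W).smul_right _
      have e := add_pow_char_of_commute q hc
      rw [h, smul_pow, smul_pow, one_pow, ZMod.pow_card, ZMod.pow_card, ← map_pow, hxq, ← h] at e
      exact (add_right_cancel e).symm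
    have hk' : q / 2 = k := by omega
    rw [hk']
    exact smul_left_injective (ZMod q) hW0 (show disc A ^ k • W = (1 : ZMod q) • W by
      rw [← hWq, hWq', one_smul])
  -- freeness on the nonzero vectors
  let X := {v : Fin 2 → ZMod q // v ≠ 0}
  letI : MulAction Q X :=
    { smul := fun y v => ⟨D.τ y *ᵥ v.1, fun h => v.2 (by
        have h' := congrArg (fun w => D.τ y⁻¹ *ᵥ w) h
        simpa only [Matrix.mulVec_mulVec, ← map_mul, inv_mul_cancel, map_one, Matrix.one_mulVec, Matrix.mulVec_zero] using h')⟩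
      one_smul := fun v => Subtype.ext (by
        show D.τ 1 *ᵥ v.1 = v.1
        rw [map_one, Matrix.one_mulVec])
      mul_smul := fun a b v => Subtype.ext (by
        show D.τ (a * b) *ᵥ v.1 = D.τ a *ᵥ (D.τ b *ᵥ v.1)
        rw [map_mul, Matrix.mulVec_mulVec]) }
  have hfree : ∀ v : X, MulAction.stabilizer Q v = ⊥ := fun v => by
    refine (eq_bot_iff_forall _).2 fun y hy => ?_
    by_contra hne
    exact v.2 (D.fpf hne (congrArg Subtype.val hy))
  have hcard : Nat.card X = q ^ 2 - 1 := by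
    rw [Nat.card_eq_fintype_card, Fintype.card_subtype_compl, Fintype.card_subtype_eq]
    simp
  have hdvd : Nat.card Q ∣ q ^ 2 - 1 := by
    rw [← hcard, Nat.card_congr (MulAction.selfEquivOrbitsQuotientProd hfree), Nat.card_prod]
    exact Dvd.intro_left _ rfl
  rw [show q ^ 2 - 1 = (q + 1) * (q - 1) by rw [← Nat.sq_sub_sq, one_pow]] at hdvd
  exact hcop.dvd_of_dvd_mul_right hdvd

end Data

end Cfsg.Lib.GW.Plane
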