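import Cfsg.Agent.Lib.GW.Klein.Shape
import Cfsg.Agent.Lib.GW.Klein.Good
import Cfsg.Agent.Lib.PGroup.NormalSq

/-!
# Gorenstein–Walter, Sylow four groups: the shape of `O_q(C)`

The center of `P = O_q(C)` misses `W`; the elements of order `q` centralizing `P` modulo `⟨ω⟩` form
`R = ⟨e, d⟩` of order `q³` with `d ∈ W`, `e` inverted and `e d e⁻¹ d⁻¹ = ω`.
-/

set_option autoImplicit false
set_option linter.style.haveILetI false
set_option linter.unusedSectionVars false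
set_option linter.unusedVariables false

namespace Cfsg.Lib.GW

open Cfsg Subgroup
open Cfsg.Agent.S1312 (Op op_le op_isPGroup le_normalizer_op op_commute)

universe u

section Elements

variable {G : Type*} [Group G]

theorem mem_normalizer_zpowers_of_commute {a d : G} (h : Commute a d) : a ∈ normalizer (zpowers d : Set G) :=
  centralizer_le_normalizer _ (mem_centralizer_iff.2 fun x hx => by
    obtain ⟨i, rfl⟩ := mem_zpowers_iff.1 hx
    exact (h.zpow_right i).eq.symm)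

theorem pow_swap {a b c : G} (h : b * a = c * (a * b)) (hca : Commute c a) (hcb : Commute c b) (n : ℕ) :
    b ^ n * a = c ^ n * (a * b ^ n) := by
  induction n with
  | zero => simp
  | succ n ih =>
    calc b ^ (n + 1) * a = b * (b ^ n * a) := by rw [pow_succ', mul_assoc]
      _ = (b * c ^ n) * (a * b ^ n) := by rw [ih]; group
      _ = c ^ n * (b * a) * b ^ n := by rw [← (hcb.pow_left n).eq]; group
      _ = _ := by rw [h, pow_succ, pow_succ']; group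

theorem mul_pow_class_two {a b c : G} (h : b * a = c * (a * b)) (hca : Commute c a) (hcb : Commute c b) (n : ℕ) :
    (a * b) ^ n = c ^ n.choose 2 * (a ^ n * b ^ n) := by
  induction n with
  | zero => simp
  | succ n ih =>
    have e1 : n + n.choose 2 = (n + 1).choose 2 := by
      rw [Nat.choose_succ_succ, Nat.choose_one_right]
    calc (a * b) ^ (n + 1) = c ^ n.choose 2 * (a ^ n * (b ^ n * a) * b) := by rw [pow_succ, ih]; group
      _ = c ^ n.choose 2 * ((a ^ n * c ^ n) * (a * b ^ n) * b) := by rw [pow_swap h hca hcb]; group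
      _ = c ^ n.choose 2 * (c ^ n * a ^ n * (a * b ^ n) * b) := by rw [(hca.pow_pow n n).eq]
      _ = _ := by rw [← e1, pow_add, pow_succ, pow_succ, (Commute.refl c).pow_pow n (n.choose 2) |>.eq]; group

end Elements

namespace KMin

variable {G : Type u} [Group G] [Finite G] (hK : KMin G) (Φ : KFrame G) (hg : ∀ w ∈ Φ.W, Commute Φ.g w)
  (hW : Φ.W ≠ ⊥)
include hK hg hW

/-- The powers of an inverted element central in `U` form a normal subgroup of `C`. -/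
theorem conj_zpowers_mem {ω : G} (hω : ω ∈ Φ.U) (hωu : Φ.u * ω * Φ.u = ω⁻¹)
    (hc : ∀ y ∈ Φ.U, Commute y ω) {c : G} (hcC : c ∈ Φ.C) {x : G} (hx : x ∈ zpowers ω) :
    c * x * c⁻¹ ∈ zpowers ω := by
  haveI := Φ.klein
  obtain ⟨i, rfl⟩ := mem_zpowers_iff.1 hx
  rw [← conj_zpow]
  refine zpow_mem ?_ i
  obtain ⟨v, hv, y, hy, rfl⟩ := hK.exists_mul_of_mem_C Φ hcC
  rw [show v * y * ω * (v * y)⁻¹ = v * (y * ω * y⁻¹) * v⁻¹ by group, (hc y hy).eq, mul_inv_cancel_right]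
  rcases eq_or_ne v 1 with rfl | hv1
  · simp
  have htz := fix_of_commute Φ.tt (Φ.commute_t hω)
  rcases Φ.V_cases hv hv1 with rfl | rfl | rfl
  · rw [Cfsg.Lib.Invol.inv_eq_self Φ.ht, htz]; exact mem_zpowers ω
  · rw [Cfsg.Lib.Invol.inv_eq_self Φ.hu, hωu]; exact inv_mem (mem_zpowers ω)
  · rw [_root_.mul_inv_rev, Cfsg.Lib.Invol.inv_eq_self Φ.ht, Cfsg.Lib.Invol.inv_eq_self Φ.hu,
      show Φ.t * Φ.u * ω * (Φ.u * Φ.t) = Φ.t * (Φ.u * ω * Φ.u) * Φ.t by group, hωu,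
      fix_of_commute Φ.tt (Φ.commute_t (inv_mem hω))]
    exact inv_mem (mem_zpowers ω)

/-- No normal subgroup of `C` is `⟨d⟩ ⟨ω⟩` modulo fixed elements, with `ω` inverted and centralized by `U`. -/
theorem line_of_central {q : ℕ} [Fact q.Prime] {R : Subgroup G} (hR : R ≤ Φ.U)
    (hn : Φ.C ≤ normalizer (R : Set G)) {d ω : G} (hdR : d ∈ R) (hdW : d ∈ Φ.W) (hdo : orderOf d = q)
    (hωR : ω ∈ R) (hωo : orderOf ω = q) (hωu : Φ.u * ω * Φ.u = ω⁻¹)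
    (hωc : ∀ x ∈ Φ.U, Φ.u * x * Φ.u = x⁻¹ → Commute x ω)
    (hdec : ∀ r ∈ R, ∃ w ∈ Φ.W, ∃ i : ℤ, r = w * ω ^ i) : False := by
  haveI := Φ.klein
  have hωU := hR hωR
  have hcU : ∀ y ∈ Φ.U, Commute y ω := fun y hy => mem_centralizer_singleton_iff.1
    (hK.U_le_of_inverted Φ hg hW (H := centralizer ({ω} : Set G))
      (fun x hx hxu => mem_centralizer_singleton_iff.2 (hωc x hx hxu).eq) hy)
  have hdω : Commute d ω := hcU d (hR hdR)
  let R' : Subgroup G :=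
    { carrier := {x | ∃ i j : ℤ, x = d ^ i * ω ^ j}
      one_mem' := ⟨0, 0, by simp⟩
      mul_mem' := by
        rintro _ _ ⟨i, j, rfl⟩ ⟨k, l, rfl⟩
        refine ⟨i + k, j + l, ?_⟩
        rw [zpow_add, zpow_add, mul_assoc (d ^ i), ← mul_assoc (ω ^ j), (hdω.symm.zpow_zpow j k).eq]
        group
      inv_mem' := by
        rintro _ ⟨i, j, rfl⟩
        exact ⟨-i, -j, by rw [_root_.mul_inv_rev, zpow_neg, zpow_neg, ((hdω.zpow_zpow i j).inv_inv).eq]⟩ }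
  have hgen : ∀ c : G, c * d * c⁻¹ ∈ R' → c * ω * c⁻¹ ∈ R' → ∀ x ∈ R', c * x * c⁻¹ ∈ R' := by
    rintro c hcd hcω _ ⟨i, j, rfl⟩
    rw [← conj_mul, ← conj_zpow, ← conj_zpow]
    exact mul_mem (zpow_mem hcd i) (zpow_mem hcω j)
  have hd' : d ∈ R' := ⟨1, 0, by simp⟩
  have hω' : ω ∈ R' := ⟨0, 1, by simp⟩
  have hU : Φ.U ≤ normalizer (R' : Set G) := by
    refine hK.U_le_of_inverted Φ hg hW fun x hx hxu =>
      Cfsg.Lib.Fusion.le_normalizer_of_conj_mem ?_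
    obtain ⟨w, hw, i, hwi⟩ := hdec _ ((mem_normalizer_iff.1 (hn (Φ.U_le_C hx)) d).1 hdR)
    have hwU := Φ.W_le_U hw
    have hxω := hcU x hx
    have hxd : x * d * x⁻¹ ∈ R' := by
      have hinv : x⁻¹ * d * x = w * (ω ^ i)⁻¹ := by
        have h := congrArg (fun y => Φ.u * y * Φ.u) hwi
        change Φ.u * _ * Φ.u = Φ.u * _ * Φ.u at h
        rw [show Φ.u * (x * d * x⁻¹) * Φ.u = x⁻¹ * d * x by
          have h2 : Φ.u * x⁻¹ * Φ.u = x := inv_inverted Φ.uu hxu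
          calc Φ.u * (x * d * x⁻¹) * Φ.u = Φ.u * x * (Φ.u * Φ.u) * d * (Φ.u * Φ.u) * x⁻¹ * Φ.u := by
                rw [Φ.uu]; group
            _ = (Φ.u * x * Φ.u) * (Φ.u * d * Φ.u) * (Φ.u * x⁻¹ * Φ.u) := by group
            _ = _ := by rw [hxu, fix_of_commute Φ.uu (Φ.commute_u hdW), h2]] at h
        rw [h]
        calc Φ.u * (w * ω ^ i) * Φ.u = (Φ.u * w) * (ω ^ i * Φ.u) := by group
          _ = w * (Φ.u * ω ^ i * Φ.u) := by rw [(Φ.commute_u hw).eq]; group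
          _ = w * (Φ.u * ω * Φ.u⁻¹) ^ i := by rw [conj_zpow, Cfsg.Lib.Invol.inv_eq_self Φ.hu]
          _ = _ := by rw [Cfsg.Lib.Invol.inv_eq_self Φ.hu, hωu, inv_zpow]
      have hci : Commute x (ω ^ i) := hxω.zpow_right i
      have hwω : Commute w (ω ^ i) := (hcU w hwU).zpow_right i
      have hxw : x * w * x⁻¹ = d * ω ^ i := by
        calc x * w * x⁻¹ = x * (w * (ω ^ i)⁻¹) * (ω ^ i * x⁻¹) := by group
          _ = x * (x⁻¹ * d * x) * (x⁻¹ * ω ^ i) := by rw [hinv, hci.inv_left.eq]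
          _ = _ := by group
      have hδ : x * (d * w⁻¹) * x⁻¹ = (d * w⁻¹)⁻¹ := by
        calc x * (d * w⁻¹) * x⁻¹ = (x * d * x⁻¹) * (x * w * x⁻¹)⁻¹ := by group
          _ = w * ω ^ i * (d * ω ^ i)⁻¹ := by rw [hwi, hxw]
          _ = _ := by group
      have hδc : Commute x (d * w⁻¹) := by
        refine commute_of_sq_commute (Φ.odd_of_mem hx) (mul_inv_eq_iff_eq_mul.1 ?_)
        calc x * x * (d * w⁻¹) * (x * x)⁻¹ = x * (x * (d * w⁻¹) * x⁻¹) * x⁻¹ := by group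
          _ = x * (d * w⁻¹)⁻¹ * x⁻¹ := by rw [hδ]
          _ = (x * (d * w⁻¹) * x⁻¹)⁻¹ := by group
          _ = _ := by rw [hδ, inv_inv]
      rw [hδc.eq, mul_inv_cancel_right] at hδ
      have hδ1 : d * w⁻¹ = 1 := by
        obtain ⟨k, hk⟩ := exists_pow_sq_eq (Φ.odd_of_mem (mul_mem (hR hdR) (inv_mem hwU)))
        rw [← hk, mul_eq_one_iff_eq_inv.2 hδ, one_pow]
      rw [hwi]
      exact mul_mem (mul_inv_eq_one.1 hδ1 ▸ hd') (zpow_mem hω' i)
    have hx' : x * ω * x⁻¹ ∈ R' := by rw [hxω.eq, mul_inv_cancel_right]; exact hω'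
    exact hgen x hxd hx'
  have hn' : Φ.C ≤ normalizer (R' : Set G) := by
    intro c hc
    obtain ⟨v, hv, x, hx, rfl⟩ := hK.exists_mul_of_mem_C Φ hc
    refine mul_mem ?_ (hU hx)
    refine Cfsg.Lib.Fusion.le_normalizer_of_conj_mem (hgen v ?_ ?_)
    · rw [(Φ.commute_V_W hdW hv).eq, mul_inv_cancel_right]; exact hd'
    · have hωR' : zpowers ω ≤ R' := zpowers_le.2 hω'
      exact hωR' (hK.conj_zpowers_mem Φ hg hW hωU hωu hcU (Φ.V_le_C hv) (mem_zpowers ω))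
  exact hK.line_of Φ hg hdW hdo hωU hωo hωu hdω (fun x => Iff.rfl) hn'

/-- The center of `O_q(C)` misses `W`. -/
theorem center_inf_W {q : ℕ} [Fact q.Prime] (hq2 : q ≠ 2) {z : G} (hz : z ∈ Op q Φ.C)
    (hzc : ∀ p ∈ Op q Φ.C, Commute p z) (hzW : z ∈ Φ.W) : z = 1 := by
  by_contra hz1
  have hq : q.Prime := Fact.out
  set P := Op q Φ.C with hP
  have hPU : P ≤ Φ.U := fun a ha =>
    (hK.mem_U Φ).2 ⟨Φ.mem_C.1 (op_le q Φ.C ha), conj_odd hq2 (op_isPGroup q Φ.C) ha⟩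
  have hPn : Φ.C ≤ normalizer (P : Set G) := le_normalizer_op q Φ.C
  obtain ⟨k, hk⟩ := IsPGroup.iff_orderOf.1 (op_isPGroup q Φ.C) ⟨z, hz⟩
  rw [← orderOf_coe] at hk
  have hk0 : k ≠ 0 := fun e => hz1 (orderOf_eq_one_iff.1 (by rw [hk, e, pow_zero]))
  set d := z ^ (orderOf z / q) with hd
  have hdo : orderOf d = q :=
    orderOf_pow_orderOf_div (orderOf_pos z).ne' (hk ▸ dvd_pow_self q hk0)
  have hdP : d ∈ P := pow_mem hz _
  have hdW : d ∈ Φ.W := pow_mem hzW _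
  have hdc : ∀ p ∈ P, Commute p d := fun p hp => (hzc p hp).pow_right _
  let R0 : Subgroup G :=
    { carrier := {a | a ∈ P ∧ (∀ p ∈ P, Commute p a) ∧ a ^ q = 1}
      one_mem' := ⟨one_mem _, fun p _ => Commute.one_right p, one_pow _⟩
      mul_mem' := fun {a b} ha hb => ⟨mul_mem ha.1 hb.1, fun p hp => (ha.2.1 p hp).mul_right (hb.2.1 p hp), by
        rw [(hb.2.1 a ha.1).mul_pow, ha.2.2, hb.2.2, one_mul]⟩
      inv_mem' := fun {a} ha => ⟨inv_mem ha.1, fun p hp => (ha.2.1 p hp).inv_right, by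
        rw [inv_pow, ha.2.2, inv_one]⟩ }
  have hR0U : R0 ≤ Φ.U := fun a ha => hPU ha.1
  have hR0n : Φ.C ≤ normalizer (R0 : Set G) := fun c hc =>
    Cfsg.Lib.Fusion.le_normalizer_of_conj_mem (fun a ha => ⟨(mem_normalizer_iff.1 (hPn hc) a).1 ha.1,
      fun p hp => by
        have h := fixed_conj (h := c) (ha.2.1 (c⁻¹ * p * c) (by
          simpa using (mem_normalizer_iff.1 (hPn (inv_mem hc)) p).1 hp))
        rwa [show c * (c⁻¹ * p * c) * c⁻¹ = p by group] at h,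
      by rw [conj_pow, ha.2.2]; group⟩)
  have hdR : d ∈ R0 := ⟨hdP, hdc, by rw [← hdo, pow_orderOf_eq_one]⟩
  have hu0 : ∀ a ∈ R0, Φ.u * a * Φ.u ∈ R0 := fun a ha => by
    have := (mem_normalizer_iff.1 (hR0n Φ.u_mem_C) a).1 ha
    rwa [Cfsg.Lib.Invol.inv_eq_self Φ.hu] at this
  have hsplit : ∀ a ∈ R0, ∃ b ∈ R0, ∃ w ∈ Φ.W, w ∈ R0 ∧ Φ.u * b * Φ.u = b⁻¹ ∧ a = b * w := by
    intro a ha
    obtain ⟨b, hb, w, hw, hbu, hwu, rfl⟩ := exists_inverted_mul_fixed Φ.uu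
      (fun x hx => Φ.odd_of_mem (hR0U hx)) ha (hu0 a ha)
    exact ⟨b, hb, w, ⟨hR0U hw, mem_centralizer_singleton_iff.2 hwu.eq.symm⟩, hw, hbu, rfl⟩
  obtain ⟨ω, hωR, hω1, hωu⟩ : ∃ ω ∈ R0, ω ≠ 1 ∧ Φ.u * ω * Φ.u = ω⁻¹ := by
    by_contra h
    push Not at h
    have hle : R0 ≤ Φ.W := fun a ha => by
      obtain ⟨b, hb, w, hw, -, hbu, rfl⟩ := hsplit a ha
      rcases eq_or_ne b 1 with rfl | hb1
      · rwa [one_mul]
      · exact absurd hbu (h b hb hb1)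
    rw [hK.eq_bot_of_le_W Φ hg hle hR0n, mem_bot] at hdR
    rw [hdR, orderOf_one] at hdo
    exact hq.ne_one hdo.symm
  have hωo : orderOf ω = q := orderOf_eq_prime hωR.2.2 hω1
  have hωU := hR0U hωR
  have htor : ∀ e ∈ R0, e ∈ Φ.W → e ≠ 1 → ∀ a ∈ Φ.U, Φ.u * a * Φ.u = a⁻¹ → Commute a e →
      Commute a ω ∧ (orderOf a = q → a ∈ zpowers ω) := by
    intro e heR heW he1 a ha hau hae
    obtain ⟨h1, h2⟩ := hK.torus_centralizer Φ hg (q := q) (D := zpowers e) (zpowers_le.2 ⟨heR.1, heW⟩)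
      (zpowers_ne_bot.2 he1) (fun b hb => mem_normalizer_zpowers_of_commute (heR.2.1 b hb.1)) ha hau
      (mem_normalizer_zpowers_of_commute hae) hωU hωu (mem_normalizer_zpowers_of_commute (heR.2.1 ω hωR.1))
    exact ⟨h1, fun ho => (h2 (ho.trans hωo.symm)).le (mem_zpowers a)⟩
  have hd1 : d ≠ 1 := fun e => hq.ne_one (by rw [← hdo, e, orderOf_one])
  have hdec : ∀ a ∈ R0, ∃ w ∈ Φ.W, w ∈ R0 ∧ ∃ i : ℤ, a = w * ω ^ i := by
    intro a ha
    obtain ⟨b, hb, w, hw, hwR, hbu, rfl⟩ := hsplit a ha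
    have hbm : b ∈ zpowers ω := by
      rcases eq_or_ne b 1 with rfl | hb1
      · exact one_mem _
      exact (htor d hdR hdW hd1 b (hR0U hb) hbu (hdc b hb.1)).2 (orderOf_eq_prime hb.2.2 hb1)
    obtain ⟨i, hi⟩ := mem_zpowers_iff.1 hbm
    exact ⟨w, hw, hwR, i, by rw [hi, (hwR.2.1 b hb.1).eq]⟩
  by_cases hall : ∀ x ∈ Φ.U, Φ.u * x * Φ.u = x⁻¹ → Commute x ω
  · exact hK.line_of_central Φ hg hW hR0U hR0n hdR hdW hdo hωR hωo hωu hall
      fun a ha => let ⟨w, hw, _, h⟩ := hdec a ha; ⟨w, hw, h⟩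
  push Not at hall
  obtain ⟨x, hx, hxu, hxω⟩ := hall
  by_cases hD : ∀ w ∈ R0, w ∈ Φ.W → w ∈ zpowers d
  · refine hK.line_of Φ hg hdW hdo hωU hωo hωu (hdc ω hωR.1).symm (R := R0) (fun a => ⟨fun ha => ?_, ?_⟩) hR0n
    · obtain ⟨w, hw, hwR, i, rfl⟩ := hdec a ha
      obtain ⟨j, rfl⟩ := mem_zpowers_iff.1 (hD w hwR hw)
      exact ⟨j, i, rfl⟩
    · rintro ⟨i, j, rfl⟩
      exact mul_mem (zpow_mem hdR i) (zpow_mem hωR j)
  push Not at hD
  obtain ⟨d2, hd2R, hd2W, hd2⟩ := hD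
  have hxR : ∀ a ∈ R0, x * a * x⁻¹ ∈ R0 := fun a ha => (mem_normalizer_iff.1 (hR0n (Φ.U_le_C hx)) a).1 ha
  obtain ⟨w, hw, hwR, i, hi⟩ := hdec _ (hxR d hdR)
  obtain ⟨w2, hw2, hw2R, j, hj⟩ := hdec _ (hxR d2 hd2R)
  obtain ⟨e, heR, heW, he1, hexW⟩ : ∃ e ∈ R0, e ∈ Φ.W ∧ e ≠ 1 ∧ x * e * x⁻¹ ∈ Φ.W := by
    by_cases hi1 : ω ^ i = 1
    · exact ⟨d, hdR, hdW, hd1, by rw [hi, hi1, mul_one]; exact hw⟩
    have hio : orderOf (ω ^ i) = q := orderOf_eq_prime (by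
      rw [← zpow_natCast, ← zpow_mul, mul_comm, zpow_mul, zpow_natCast, hωR.2.2, one_zpow]) hi1
    have heq : zpowers (ω ^ i) = zpowers ω := eq_of_le_of_card_ge (zpowers_le.2 (zpow_mem (mem_zpowers ω) i))
      (by rw [Nat.card_zpowers, Nat.card_zpowers, hio, hωo])
    obtain ⟨k, hk⟩ := mem_zpowers_iff.1 (heq.ge (zpow_mem (mem_zpowers ω) j))
    refine ⟨d2 * (d ^ k)⁻¹, mul_mem hd2R (inv_mem (zpow_mem hdR k)), mul_mem hd2W (inv_mem (zpow_mem hdW k)),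
      fun h => hd2 ⟨k, (mul_inv_eq_one.1 h).symm⟩, ?_⟩
    have h1 : x * d ^ k * x⁻¹ = w ^ k * ω ^ j := by
      rw [← conj_zpow, hi, (show Commute w (ω ^ i) from (hwR.2.1 _ (zpow_mem hωR.1 i)).symm).mul_zpow, hk]
    rw [show x * (d2 * (d ^ k)⁻¹) * x⁻¹ = (x * d2 * x⁻¹) * (x * d ^ k * x⁻¹)⁻¹ by group, hj, h1,
      show w2 * ω ^ j * (w ^ k * ω ^ j)⁻¹ = w2 * (w ^ k)⁻¹ by group]
    exact mul_mem hw2 (inv_mem (zpow_mem hw k))
  exact hxω (htor e heR heW he1 x hx hxu (commute_of_inverted_fixed Φ.uu hxu (Φ.commute_u heW)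
    (Φ.commute_u hexW) (Φ.odd_of_mem hx))).1

/-- The data `R = ⟨e, d⟩`. -/
theorem exists_pre : ∃ q : ℕ, ∃ _ : Fact q.Prime, Nonempty (Φ.Pre q) := by
  classical
  obtain ⟨q, hq, hq2, hAne⟩ := hK.exists_op_inf_W Φ hg hW
  haveI : Fact q.Prime := ⟨hq⟩
  refine ⟨q, ⟨hq⟩, ?_⟩
  set P := Op q Φ.C with hPdef
  set A := P ⊓ Φ.W with hAdef
  have hui := Cfsg.Lib.Invol.inv_eq_self Φ.hu
  have hPp : IsPGroup q P := op_isPGroup q Φ.C
  have hPU : P ≤ Φ.U := fun a ha =>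
    (hK.mem_U Φ).2 ⟨Φ.mem_C.1 (op_le q Φ.C ha), conj_odd hq2 hPp ha⟩
  have hPn : Φ.C ≤ normalizer (P : Set G) := le_normalizer_op q Φ.C
  have hconj : ∀ {K : Subgroup G}, Φ.C ≤ normalizer (K : Set G) → ∀ a ∈ K, Φ.u * a * Φ.u ∈ K := fun hn a ha => by
    have := (mem_normalizer_iff.1 (hn Φ.u_mem_C) a).1 ha
    rwa [hui] at this
  -- the center
  let Zp : Subgroup G := P ⊓ centralizer (P : Set G)
  have hZpmem : ∀ a ∈ Zp, ∀ p ∈ P, Commute p a := fun a ha p hp => mem_centralizer_iff.1 ha.2 p hp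
  have hZpn : Φ.C ≤ normalizer (Zp : Set G) := fun c hc =>
    Cfsg.Lib.Fusion.le_normalizer_of_conj_mem fun a ha =>
      ⟨(mem_normalizer_iff.1 (hPn hc) a).1 ha.1, mem_centralizer_iff.2 fun p hp => by
        have h := fixed_conj (h := c) (hZpmem a ha (c⁻¹ * p * c) (by
          simpa using (mem_normalizer_iff.1 (hPn (inv_mem hc)) p).1 hp))
        rw [show c * (c⁻¹ * p * c) * c⁻¹ = p by group] at h
        exact h.eq⟩
  have hZpinv : ∀ a ∈ Zp, Φ.u * a * Φ.u = a⁻¹ := fun a ha => inverts_of_fixed_trivial Φ.uu (hconj hZpn)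
    (fun b hb hbu => hK.center_inf_W Φ hg hW hq2 hb.1 (hZpmem b hb)
      ⟨hPU hb.1, mem_centralizer_singleton_iff.2 hbu.symm.eq⟩) ha
  have hZpc : ∀ a ∈ Zp, ∀ y ∈ Φ.U, Commute y a := fun a ha y hy =>
    hK.commute_of_inverted Φ hg hW hZpn hZpinv hy ha
  have hPnt : Nontrivial ↥P := P.nontrivial_iff_ne_bot.2 fun h => hAne (by rw [hAdef, h, bot_inf_eq])
  obtain ⟨ω, hωZ, hωo⟩ : ∃ ω ∈ Zp, orderOf ω = q := by
    obtain ⟨z, -, hzc, hzo⟩ := Cfsg.Lib.PGroup.exists_mem_center_orderOf_eq hPp (N := (⊤ : Subgroup ↥P))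
      top_ne_bot
    exact ⟨z, ⟨z.2, mem_centralizer_iff.2 fun p hp => congrArg Subtype.val (mem_center_iff.1 hzc ⟨p, hp⟩)⟩,
      (orderOf_coe z).trans hzo⟩
  have hωP : ω ∈ P := hωZ.1
  have hωU := hPU hωP
  have hωu := hZpinv ω hωZ
  have hωc := hZpc ω hωZ
  have hω1 : ω ≠ 1 := fun e => hq.ne_one (by rw [← hωo, e, orderOf_one])
  have hωq : ω ^ q = 1 := by rw [← hωo, pow_orderOf_eq_one]
  have hωn : ∀ c ∈ Φ.C, ∀ x ∈ zpowers ω, c * x * c⁻¹ ∈ zpowers ω := fun c hc x hx =>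
    hK.conj_zpowers_mem Φ hg hW hωU hωu hωc hc hx
  have hωcP : ∀ x ∈ zpowers ω, ∀ y ∈ Φ.U, Commute y x := fun x hx y hy => by
    obtain ⟨i, rfl⟩ := mem_zpowers_iff.1 hx
    exact (hωc y hy).zpow_right i
  have hωW : ∀ x ∈ zpowers ω, x ∈ Φ.W → x = 1 := fun x hx hxW => by
    have hxZ : x ∈ Zp := (zpowers_le.2 hωZ) hx
    exact eq_one_of_fixed_inverted Φ.uu (Φ.commute_u hxW) (hZpinv x hxZ) (Φ.odd_of_mem (Φ.W_le_U hxW))
  -- the torus
  have key : ∀ d ∈ A, d ≠ 1 → (∀ a ∈ A, Commute a d) → ∀ z ∈ Φ.U, Φ.u * z * Φ.u = z⁻¹ → z ^ q = 1 →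
      Commute z d → z ∈ zpowers ω := by
    intro d hd hd1 hdc z hz hzu hzq hzd
    rcases eq_or_ne z 1 with rfl | hz1
    · exact one_mem _
    obtain ⟨-, h2⟩ := hK.torus_centralizer Φ hg (q := q) (D := zpowers d) (zpowers_le.2 hd)
      (zpowers_ne_bot.2 hd1) (fun b hb => mem_normalizer_zpowers_of_commute (hdc b hb)) hz hzu
      (mem_normalizer_zpowers_of_commute hzd) hωU hωu (mem_normalizer_zpowers_of_commute (hωc d (hPU hd.1)).symm)
    exact (h2 ((orderOf_eq_prime hzq hz1).trans hωo.symm)).le (mem_zpowers z)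
  obtain ⟨d0, hd0A, hd01, hd0c, hd0o⟩ : ∃ d ∈ A, d ≠ 1 ∧ (∀ a ∈ A, Commute a d) ∧ orderOf d = q := by
    haveI : Nontrivial ↥A := A.nontrivial_iff_ne_bot.2 hAne
    obtain ⟨z, -, hzc, hzo⟩ := Cfsg.Lib.PGroup.exists_mem_center_orderOf_eq (hPp.to_le inf_le_left)
      (N := (⊤ : Subgroup ↥A)) top_ne_bot
    refine ⟨z, z.2, fun e => hq.ne_one ?_, fun a ha => congrArg Subtype.val (mem_center_iff.1 hzc ⟨a, ha⟩),
      (orderOf_coe z).trans hzo⟩
    rw [← hzo, ← orderOf_coe, e, orderOf_one]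
  have hZpω : ∀ a ∈ Zp, a ^ q = 1 → a ∈ zpowers ω := fun a ha haq =>
    key d0 hd0A hd01 hd0c a (hPU ha.1) (hZpinv a ha) haq (hZpmem a ha d0 hd0A.1).symm
  -- the subgroup `R`
  let R : Subgroup G :=
    { carrier := {r | r ∈ P ∧ r ^ q = 1 ∧ ∀ p ∈ P, p * r * p⁻¹ * r⁻¹ ∈ zpowers ω}
      one_mem' := ⟨one_mem _, one_pow _, fun p _ => by simp⟩
      mul_mem' := fun {a b} ha hb => ⟨mul_mem ha.1 hb.1, by
          set c := b * a * b⁻¹ * a⁻¹ with hc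
          have hcω : c ∈ zpowers ω := ha.2.2 b hb.1
          have hcq : c ^ q.choose 2 = 1 := by
            obtain ⟨i, hi⟩ := mem_zpowers_iff.1 hcω
            obtain ⟨m, hm⟩ := hq.dvd_choose_self two_ne_zero (by have := hq.two_le; omega)
            rw [hm, pow_mul, ← hi, ← zpow_natCast (ω ^ i), ← zpow_mul, mul_comm, zpow_mul, zpow_natCast, hωq,
              one_zpow, one_pow]
          rw [mul_pow_class_two (c := c) (by rw [hc]; group) (hωcP c hcω a (hPU ha.1)).symm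
            (hωcP c hcω b (hPU hb.1)).symm, hcq, ha.2.1, hb.2.1, one_mul, one_mul],
        fun p hp => by
          rw [show p * (a * b) * p⁻¹ * (a * b)⁻¹ =
              (p * a * p⁻¹ * a⁻¹) * (a * (p * b * p⁻¹ * b⁻¹) * a⁻¹) by group,
            (hωcP _ (hb.2.2 p hp) a (hPU ha.1)).eq, mul_inv_cancel_right]
          exact mul_mem (ha.2.2 p hp) (hb.2.2 p hp)⟩
      inv_mem' := fun {a} ha => ⟨inv_mem ha.1, by rw [inv_pow, ha.2.1, inv_one], fun p hp => by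
        rw [show p * a⁻¹ * p⁻¹ * a⁻¹⁻¹ = a⁻¹ * (p * a * p⁻¹ * a⁻¹)⁻¹ * a⁻¹⁻¹ by group,
          (hωcP _ (inv_mem (ha.2.2 p hp)) a⁻¹ (inv_mem (hPU ha.1))).eq, mul_inv_cancel_right]
        exact inv_mem (ha.2.2 p hp)⟩ }
  have hRU : R ≤ Φ.U := fun r hr => hPU hr.1
  have hRn : Φ.C ≤ normalizer (R : Set G) := fun c hc =>
    Cfsg.Lib.Fusion.le_normalizer_of_conj_mem fun r hr => ⟨(mem_normalizer_iff.1 (hPn hc) r).1 hr.1,
      by rw [conj_pow, hr.2.1]; group, fun p hp => by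
        have := hωn c hc _ (hr.2.2 (c⁻¹ * p * c) (by simpa using (mem_normalizer_iff.1 (hPn (inv_mem hc)) p).1 hp))
        rwa [show c * (c⁻¹ * p * c * r * (c⁻¹ * p * c)⁻¹ * r⁻¹) * c⁻¹ =
          p * (c * r * c⁻¹) * p⁻¹ * (c * r * c⁻¹)⁻¹ by group] at this⟩
  have hωR : ω ∈ R := ⟨hωP, hωq, fun p hp => by
    rw [(hωc p (hPU hp)).eq, mul_inv_cancel_right, mul_inv_cancel]; exact one_mem _⟩
  obtain ⟨r0, hr0, hr0ω⟩ : ∃ r ∈ R, r ∉ zpowers ω := by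
    have hnc : ¬ IsCyclic ↥P := fun hcy => by
      have h := zpowers_eq_of_cyclic (J := ↥P) (x := ⟨d0, hd0A.1⟩) (y := ⟨ω, hωP⟩)
        (by rw [Subgroup.orderOf_mk, Subgroup.orderOf_mk, hd0o, hωo])
      obtain ⟨i, hi⟩ := mem_zpowers_iff.1 (h.le (mem_zpowers _))
      exact hd01 (hωW d0 ⟨i, congrArg Subtype.val hi⟩ hd0A.2)
    obtain ⟨E, hEn, hEe, hEc⟩ : ∃ E : Subgroup ↥P, E.Normal ∧ Cfsg.IsElementaryAbelian q E ∧
        Nat.card E = q ^ 2 := by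
      by_contra hno
      obtain ⟨a, -, ha⟩ := Cfsg.Lib.PGroup.NormalSq.cyclic_or_three_mod_four hPp hno
      rcases ha with ha | ⟨h2, -⟩
      · exact hnc ((isCyclic_iff_exists_zpowers_eq_top).2 ⟨a, ha⟩)
      · exact hq2 h2
    set ωP : ↥P := ⟨ω, hωP⟩ with hωPdef
    haveI : (zpowers ωP).Normal := ⟨fun x hx g => by
      obtain ⟨i, rfl⟩ := mem_zpowers_iff.1 hx
      have : g * ωP ^ i * g⁻¹ = ωP ^ i := Subtype.ext (by
        push_cast
        rw [((hωc g (hPU g.2)).zpow_right i).eq, mul_inv_cancel_right])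
      rw [this]
      exact zpow_mem (mem_zpowers _) i⟩
    set π := QuotientGroup.mk' (zpowers ωP) with hπ
    haveI := hEn
    haveI : (E.map π).Normal := hEn.map π (QuotientGroup.mk'_surjective _)
    have hne : E.map π ≠ ⊥ := by
      intro h
      rw [Subgroup.map_eq_bot_iff, hπ, QuotientGroup.ker_mk'] at h
      have := Subgroup.card_le_of_le h
      rw [hEc, Nat.card_zpowers, Subgroup.orderOf_mk, hωo] at this
      have := hq.two_le
      nlinarith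
    obtain ⟨z, hz, hzc, hzo⟩ := Cfsg.Lib.PGroup.exists_mem_center_orderOf_eq
      (hPp.to_quotient (zpowers ωP)) hne
    obtain ⟨r, hr, rfl⟩ := hz
    refine ⟨r, ⟨r.2, ?_, fun p hp => ?_⟩, fun hmem => ?_⟩
    · have := congrArg Subtype.val (hEe.2 r hr)
      simpa using this
    · have h1 : (⟨p, hp⟩ : ↥P) * r * (⟨p, hp⟩ : ↥P)⁻¹ * r⁻¹ ∈ zpowers ωP := by
        rw [← QuotientGroup.eq_one_iff]
        show π _ = 1
        rw [map_mul, map_mul, map_mul, map_inv, map_inv, mem_center_iff.1 hzc (π ⟨p, hp⟩),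
          mul_inv_cancel_right, mul_inv_cancel]
      obtain ⟨i, hi⟩ := mem_zpowers_iff.1 h1
      exact ⟨i, by simpa using congrArg Subtype.val hi⟩
    · obtain ⟨i, hi⟩ := mem_zpowers_iff.1 hmem
      have : π r = 1 := (QuotientGroup.eq_one_iff r).2 ⟨i, Subtype.ext (by push_cast; exact hi)⟩
      rw [this, orderOf_one] at hzo
      exact hq.ne_one hzo.symm
  have hRpinv : ∀ r ∈ R, Φ.u * r * Φ.u ∈ R := hconj hRn
  have hsplit : ∀ r ∈ R, ∃ k ∈ R, ∃ w ∈ R, w ∈ Φ.W ∧ Φ.u * k * Φ.u = k⁻¹ ∧ r = k * w := by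
    intro r hr
    obtain ⟨k, hk, w, hw, hku, hwu, rfl⟩ := exists_inverted_mul_fixed Φ.uu
      (fun x hx => Φ.odd_of_mem (hRU hx)) hr (hRpinv r hr)
    exact ⟨k, hk, w, hw, ⟨hRU hw, mem_centralizer_singleton_iff.2 hwu.eq.symm⟩, hku, rfl⟩
  obtain ⟨d, hdR, hdW, hd1⟩ : ∃ d ∈ R, d ∈ Φ.W ∧ d ≠ 1 := by
    by_contra h
    push Not at h
    have hinv : ∀ r ∈ R, Φ.u * r * Φ.u = r⁻¹ := fun r hr => inverts_of_fixed_trivial Φ.uu hRpinv
      (fun b hb hbu => h b hb ⟨hRU hb, mem_centralizer_singleton_iff.2 hbu.symm.eq⟩) hr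
    exact hr0ω (hZpω r0 ⟨hr0.1, mem_centralizer_iff.2 fun p hp =>
      (hK.commute_of_inverted Φ hg hW hRn hinv (hPU hp) hr0).eq⟩ hr0.2.1)
  have hdo : orderOf d = q := orderOf_eq_prime hdR.2.1 hd1
  have hAc : ∀ d ∈ R, d ∈ Φ.W → ∀ a ∈ A, Commute a d := fun d hd hdW a ha =>
    mul_inv_eq_iff_eq_mul.1 (mul_inv_eq_one.1 (hωW _ (hd.2.2 a ha.1)
      (mul_mem (mul_mem (mul_mem ha.2 hdW) (inv_mem ha.2)) (inv_mem hdW))))
  have keyd : ∀ z ∈ Φ.U, Φ.u * z * Φ.u = z⁻¹ → z ^ q = 1 → Commute z d → z ∈ zpowers ω :=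
    key d ⟨hdR.1, hdW⟩ hd1 (hAc d hdR hdW)
  obtain ⟨e, heR, heu, heω⟩ : ∃ e ∈ R, Φ.u * e * Φ.u = e⁻¹ ∧ e ∉ zpowers ω := by
    by_contra h
    push Not at h
    refine hK.line_of_central Φ hg hW hRU hRn hdR hdW hdo hωR hωo hωu (fun x hx _ => hωc x hx)
      fun r hr => ?_
    obtain ⟨k, hk, w, -, hw, hku, rfl⟩ := hsplit r hr
    obtain ⟨i, hi⟩ := mem_zpowers_iff.1 (h k hk hku)
    exact ⟨w, hw, i, by rw [hi, (hωcP k (h k hk hku) w (Φ.W_le_U hw)).eq]⟩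
  have heo : orderOf e = q := orderOf_eq_prime heR.2.1 fun h => heω (h ▸ one_mem _)
  set c := e * d * e⁻¹ * d⁻¹ with hc
  have hcω : c ∈ zpowers ω := hdR.2.2 e heR.1
  have hc1 : c ≠ 1 := fun h => heω (keyd e (hRU heR) heu heR.2.1
    (mul_inv_eq_iff_eq_mul.1 (mul_inv_eq_one.1 h)))
  have hco : orderOf c = q := by
    obtain ⟨i, hi⟩ := mem_zpowers_iff.1 hcω
    refine orderOf_eq_prime ?_ hc1
    rw [← hi, ← zpow_natCast, ← zpow_mul, mul_comm, zpow_mul, zpow_natCast, hωq, one_zpow]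
  have hcgen : zpowers c = zpowers ω := eq_of_le_of_card_ge (zpowers_le.2 hcω)
    (by rw [Nat.card_zpowers, Nat.card_zpowers, hco, hωo])
  have hcc : ∀ y ∈ Φ.U, Commute y c := hωcP c hcω
  have hcu : Φ.u * c * Φ.u = c⁻¹ := hZpinv c ((zpowers_le.2 hωZ) hcω)
  have hed : ∀ i : ℕ, e * d ^ i * e⁻¹ = c ^ i * d ^ i := fun i => by
    rw [← conj_pow, show e * d * e⁻¹ = c * d by rw [hc]; group, (hcc d (hRU hdR)).symm.mul_pow]
  have hde : ∀ i : ℕ, e ^ i * d * (e ^ i)⁻¹ = c ^ i * d := fun i => by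
    induction i with
    | zero => simp
    | succ i ih =>
      calc e ^ (i + 1) * d * (e ^ (i + 1))⁻¹ = e * (e ^ i * d * (e ^ i)⁻¹) * e⁻¹ := by rw [pow_succ']; group
        _ = (e * c ^ i) * d * e⁻¹ := by rw [ih]; group
        _ = c ^ i * (e * d * e⁻¹) := by rw [((hcc e (hRU heR)).pow_right i).eq]; group
        _ = _ := by rw [show e * d * e⁻¹ = c * d by rw [hc]; group, pow_succ]; group
  have hpowc : ∀ x ∈ zpowers ω, ∃ i : ℕ, x = c ^ i := fun x hx => by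
    rw [← hcgen] at hx
    obtain ⟨i, hi⟩ := (isOfFinOrder_of_finite c).mem_powers_iff_mem_zpowers.2 hx
    exact ⟨i, hi.symm⟩
  have hDd : ∀ w ∈ R, w ∈ Φ.W → ∃ i : ℕ, w = d ^ i := by
    intro w hw hwW
    obtain ⟨j, hj⟩ := hpowc _ (hw.2.2 e heR.1)
    refine ⟨j, (inv_mul_eq_one.1 ?_).symm⟩
    by_contra hne
    refine heω (key ((d ^ j)⁻¹ * w) (Subgroup.mem_inf.2 ⟨mul_mem (inv_mem (pow_mem hdR.1 j)) hw.1,
      mul_mem (inv_mem (pow_mem hdW j)) hwW⟩) hne (fun a ha =>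
        ((hAc d hdR hdW a ha).pow_right j).inv_right.mul_right (hAc w hw hwW a ha)) e (hRU heR) heu heR.2.1 ?_)
    refine mul_inv_eq_iff_eq_mul.1 ?_
    calc e * ((d ^ j)⁻¹ * w) * e⁻¹ = (e * d ^ j * e⁻¹)⁻¹ * (e * w * e⁻¹ * w⁻¹) * w := by group
      _ = _ := by rw [hed, hj]; group
  have hReq : ∀ r ∈ R, ∃ i j l : ℕ, r = e ^ i * d ^ j * c ^ l := by
    intro r hr
    obtain ⟨k, hk, w, hwR, hw, hku, rfl⟩ := hsplit r hr
    obtain ⟨j, rfl⟩ := hDd w hwR hw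
    obtain ⟨i, hi⟩ := hpowc _ (hdR.2.2 k hk.1)
    -- inverted elements of `R` commute
    have hconjinv : ∀ x ∈ zpowers ω, Φ.u * (x * e) * Φ.u = (x * e)⁻¹ := fun x hx => by
      rw [show Φ.u * (x * e) * Φ.u = Φ.u * x * (Φ.u * Φ.u) * e * Φ.u by rw [Φ.uu]; group,
        show Φ.u * x * (Φ.u * Φ.u) * e * Φ.u = (Φ.u * x * Φ.u) * (Φ.u * e * Φ.u) by group,
        hZpinv x ((zpowers_le.2 hωZ) hx), heu, _root_.mul_inv_rev,
        ((hωcP x hx e (hRU heR)).inv_inv).eq]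
    have hke : Commute k e := commute_of_inverted_inverted Φ.uu hku heu (by
      have := hconjinv _ (heR.2.2 k hk.1)
      rwa [inv_mul_cancel_right] at this) (Φ.odd_of_mem (hRU hk))
    have hkei : Commute k (e ^ i)⁻¹ := (hke.pow_right i).inv_right
    set f := (e ^ i)⁻¹ * k with hf
    have hfR : f ∈ R := mul_mem (inv_mem (pow_mem heR i)) hk
    have hfu : Φ.u * f * Φ.u = f⁻¹ := by
      have he' : Φ.u * (e ^ i)⁻¹ * Φ.u = e ^ i := by
        conv_lhs => arg 2; rw [← hui]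
        rw [← conj_inv, ← conj_pow, hui, heu, inv_pow, inv_inv]
      rw [hf, show Φ.u * ((e ^ i)⁻¹ * k) * Φ.u = Φ.u * (e ^ i)⁻¹ * (Φ.u * Φ.u) * k * Φ.u by rw [Φ.uu]; group,
        show Φ.u * (e ^ i)⁻¹ * (Φ.u * Φ.u) * k * Φ.u = (Φ.u * (e ^ i)⁻¹ * Φ.u) * (Φ.u * k * Φ.u) by group,
        he', hku, ← hkei.eq]
      group
    have hfd : Commute f d := by
      refine mul_inv_eq_iff_eq_mul.1 ?_
      calc f * d * f⁻¹ = (e ^ i)⁻¹ * (k * d * k⁻¹ * d⁻¹ * d) * (e ^ i) := by rw [hf]; group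
        _ = (e ^ i)⁻¹ * (c ^ i * d) * e ^ i := by rw [hi]
        _ = (e ^ i)⁻¹ * (e ^ i * d * (e ^ i)⁻¹) * e ^ i := by rw [hde]
        _ = d := by group
    obtain ⟨l, hl⟩ := hpowc f (keyd f (hRU hfR) hfu hfR.2.1 hfd)
    refine ⟨i, j, l, ?_⟩
    rw [show k = e ^ i * f by rw [hf, mul_inv_cancel_left], hl, mul_assoc, mul_assoc,
      (((hcc d (hRU hdR)).pow_right l).pow_left j).eq]
  -- centralizers of `R`
  have hcent : ∀ y ∈ Φ.U, Commute y e → Commute y d → ∀ r ∈ R, Commute y r := fun y hy he hd r hr => by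
    obtain ⟨i, j, l, rfl⟩ := hReq r hr
    exact ((he.pow_right i).mul_right (hd.pow_right j)).mul_right ((hcc y hy).pow_right l)
  have hCA : ∀ a ∈ A, Commute a e → Commute a d → a = 1 := by
    intro a ha hae had
    by_contra ha1
    let A1 : Subgroup G := A ⊓ centralizer (R : Set G)
    have hAN : A ≤ normalizer (A1 : Set G) := fun b hb =>
      Cfsg.Lib.Fusion.le_normalizer_of_conj_mem fun x hx =>
        Subgroup.mem_inf.2 ⟨mul_mem (mul_mem hb hx.1) (inv_mem hb), mem_centralizer_iff.2 fun r hr => by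
          have hbC : b⁻¹ ∈ Φ.C := inv_mem (Φ.U_le_C (hPU hb.1))
          have h := fixed_conj (h := b) (x := b⁻¹ * r * b) (t := x) (mem_centralizer_iff.1 hx.2 _ (by
            simpa using (mem_normalizer_iff.1 (hRn hbC) r).1 hr) : Commute (b⁻¹ * r * b) x).symm
          rw [show b * (b⁻¹ * r * b) * b⁻¹ = r by group] at h
          exact h.symm.eq⟩
    haveI : (A1.subgroupOf A).Normal := (normal_subgroupOf_iff_le_normalizer inf_le_left).2 hAN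
    have hne : A1.subgroupOf A ≠ ⊥ := fun h => by
      have hmem : (⟨a, ha⟩ : ↥A) ∈ A1.subgroupOf A := mem_subgroupOf.2
        (Subgroup.mem_inf.2 ⟨ha, mem_centralizer_iff.2 fun r hr => (hcent a (hPU ha.1) hae had r hr).eq.symm⟩)
      rw [h, mem_bot] at hmem
      exact ha1 (congrArg Subtype.val hmem)
    obtain ⟨z, hz, hzc, hzo⟩ := Cfsg.Lib.PGroup.exists_mem_center_orderOf_eq
      (hPp.to_le inf_le_left : IsPGroup q ↥A) hne
    refine heω (key z z.2 (fun h => hq.ne_one (by rw [← hzo, ← orderOf_coe, h, orderOf_one]))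
      (fun b hb => congrArg Subtype.val (mem_center_iff.1 hzc ⟨b, hb⟩)) e (hRU heR) heu heR.2.1
      (mem_centralizer_iff.1 (mem_subgroupOf.1 hz).2 e heR))
  let P1 : Subgroup G := P ⊓ centralizer (R : Set G)
  have hP1n : Φ.C ≤ normalizer (P1 : Set G) := fun k hk =>
    Cfsg.Lib.Fusion.le_normalizer_of_conj_mem fun x hx =>
      ⟨(mem_normalizer_iff.1 (hPn hk) x).1 hx.1, mem_centralizer_iff.2 fun r hr => by
        have h := mem_centralizer_iff.1 hx.2 (k⁻¹ * r * k) (by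
          simpa using (mem_normalizer_iff.1 (hRn (inv_mem hk)) r).1 hr)
        calc r * (k * x * k⁻¹) = k * ((k⁻¹ * r * k) * x) * k⁻¹ := by group
          _ = _ := by rw [h]; group⟩
  have hP1inv : ∀ x ∈ P1, Φ.u * x * Φ.u = x⁻¹ := fun x hx => inverts_of_fixed_trivial Φ.uu (hconj hP1n)
    (fun b hb hbu => hCA b ⟨hb.1, hPU hb.1, mem_centralizer_singleton_iff.2 hbu.symm.eq⟩
      (mem_centralizer_iff.1 hb.2 e heR).symm (mem_centralizer_iff.1 hb.2 d hdR).symm) hx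
  have hPdec : ∀ p ∈ P, ∃ r ∈ R, r⁻¹ * p ∈ P1 := by
    intro p hp
    obtain ⟨a, ha⟩ := hpowc _ (hdR.2.2 p hp)
    obtain ⟨b, hb⟩ := hpowc _ (inv_mem (heR.2.2 p hp))
    have hr : d ^ b * e ^ a ∈ R := mul_mem (pow_mem hdR b) (pow_mem heR a)
    refine ⟨d ^ b * e ^ a, hr, Subgroup.mem_inf.2 ⟨mul_mem (inv_mem hr.1) hp, mem_centralizer_iff.2 fun r hr' => ?_⟩⟩
    have hy : (d ^ b * e ^ a)⁻¹ * p ∈ Φ.U := hPU (mul_mem (inv_mem hr.1) hp)
    have hcp : ∀ n : ℕ, ∀ y ∈ Φ.U, y * c ^ n * y⁻¹ = c ^ n := fun n y hy => by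
      rw [((hcc y hy).pow_right n).eq, mul_inv_cancel_right]
    have hmd : d ^ b * e ^ a ∈ Φ.U := hRU hr
    have hpd : p * d * p⁻¹ = c ^ a * d := by rw [← ha, inv_mul_cancel_right]
    have hpe : p * e * p⁻¹ = (c ^ b)⁻¹ * e := by rw [← hb, inv_inv, inv_mul_cancel_right]
    have hrd : d ^ b * e ^ a * d * (d ^ b * e ^ a)⁻¹ = c ^ a * d := by
      calc d ^ b * e ^ a * d * (d ^ b * e ^ a)⁻¹ = d ^ b * (e ^ a * d * (e ^ a)⁻¹) * (d ^ b)⁻¹ := by group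
        _ = (d ^ b * c ^ a * (d ^ b)⁻¹) * d := by rw [hde]; group
        _ = _ := by rw [hcp a _ (hRU (pow_mem hdR b))]
    have hre : d ^ b * e ^ a * e * (d ^ b * e ^ a)⁻¹ = (c ^ b)⁻¹ * e := by
      calc d ^ b * e ^ a * e * (d ^ b * e ^ a)⁻¹ = d ^ b * e * (d ^ b)⁻¹ := by group
        _ = (e * d ^ b * e⁻¹ * (d ^ b)⁻¹)⁻¹ * e := by group
        _ = _ := by rw [hed, mul_inv_cancel_right]
    refine (hcent _ hy ?_ ?_ r hr').eq.symm
    · refine mul_inv_eq_iff_eq_mul.1 ?_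
      calc (d ^ b * e ^ a)⁻¹ * p * e * ((d ^ b * e ^ a)⁻¹ * p)⁻¹
          = (d ^ b * e ^ a)⁻¹ * (p * e * p⁻¹) * (d ^ b * e ^ a) := by group
        _ = _ := by rw [hpe, ← hre]; group
    · refine mul_inv_eq_iff_eq_mul.1 ?_
      calc (d ^ b * e ^ a)⁻¹ * p * d * ((d ^ b * e ^ a)⁻¹ * p)⁻¹
          = (d ^ b * e ^ a)⁻¹ * (p * d * p⁻¹) * (d ^ b * e ^ a) := by group
        _ = _ := by rw [hpd, ← hrd]; group
  have hother : ∀ s, s.Prime → s ≠ q → s ≠ 2 → ∀ m ∈ Op s Φ.C, m ∈ Φ.W → m = 1 := by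
    intro s hs hsq hs2 m hm hmW
    haveI : Fact s.Prime := ⟨hs⟩
    by_contra hm1
    set As := Op s Φ.C ⊓ Φ.W
    haveI : Nontrivial ↥As := As.nontrivial_iff_ne_bot.2 fun h => hm1 (mem_bot.1 (h ▸ ⟨hm, hmW⟩ : m ∈ (⊥ : Subgroup G)))
    obtain ⟨z, -, hzc, hzo⟩ := Cfsg.Lib.PGroup.exists_mem_center_orderOf_eq
      ((op_isPGroup s Φ.C).to_le inf_le_left : IsPGroup s As) (N := (⊤ : Subgroup ↥As)) top_ne_bot
    have hz1 : (z : G) ≠ 1 := fun h => hs.ne_one (by rw [← hzo, ← orderOf_coe, h, orderOf_one])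
    obtain ⟨-, h2⟩ := hK.torus_centralizer Φ hg (q := s) (D := zpowers (z : G)) (zpowers_le.2 z.2)
      (zpowers_ne_bot.2 hz1)
      (fun b hb => mem_normalizer_zpowers_of_commute (congrArg Subtype.val (mem_center_iff.1 hzc ⟨b, hb⟩)))
      (hRU heR) heu (mem_normalizer_zpowers_of_commute (op_commute hsq Φ.C z.2.1 heR.1).symm) hωU hωu
      (mem_normalizer_zpowers_of_commute (op_commute hsq Φ.C z.2.1 hωP).symm)
    exact heω ((h2 (heo.trans hωo.symm)).le (mem_zpowers e))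
  have hno : ∀ w ∈ Φ.W, Commute w e → Commute w d → w = 1 := by
    intro w hw hwe hwd
    have hwU := Φ.W_le_U hw
    have hall : ∀ s, Fact s.Prime → ∀ m ∈ Op s Φ.C, Commute w m := by
      intro s hs m hm
      haveI := hs
      by_cases h2 : s = 2
      · subst h2; exact hK.commute_op_two Φ hwU hm
      by_cases hsq : s = q
      · subst hsq
        obtain ⟨r, hr, hr1⟩ := hPdec m hm
        have h1 : Commute w ((r⁻¹ * m)) := hK.commute_of_inverted Φ hg hW hP1n hP1inv hwU hr1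
        rw [show m = r * (r⁻¹ * m) by group]
        exact (hcent w hwU hwe hwd r hr).mul_right h1
      refine hK.commute_of_inverted Φ hg hW (le_normalizer_op s Φ.C) (fun z hz => ?_) hwU hm
      refine inverts_of_fixed_trivial Φ.uu (hconj (le_normalizer_op s Φ.C)) (fun a ha hau => ?_) hz
      exact hother s hs.out hsq h2 a ha ((hK.mem_W Φ).2
        ⟨Φ.mem_C.1 (op_le s Φ.C ha), hau, conj_odd h2 (op_isPGroup s Φ.C) ha⟩)
    by_contra hw1
    obtain ⟨r, hr, hrd⟩ := Nat.exists_prime_and_dvd (fun h1 => hw1 (orderOf_eq_one_iff.1 h1) : orderOf w ≠ 1)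
    haveI : Fact r.Prime := ⟨hr⟩
    set w1 := w ^ (orderOf w / r)
    have ho : orderOf w1 = r := orderOf_pow_orderOf_div (orderOf_pos w).ne' hrd
    have hw1W : w1 ∈ Φ.W := pow_mem hw _
    have hF := mem_map_of_mem Φ.C.subtype (Cfsg.Agent.S1312.mem_fitting_of_commute
      (layer_eq_bot_of_solvable (hK.solvable_C Φ)) ⟨w1, Φ.U_le_C (Φ.W_le_U hw1W)⟩
      fun s hs m hm => ((hall s hs m hm).pow_left _).eq)
    have hop := Cfsg.Lib.Sig.BenderPair.mem_op_of_fitting (s := r) hF ⟨1, by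
      show w1 ^ r ^ 1 = 1
      rw [pow_one, ← ho, pow_orderOf_eq_one]⟩
    have hr2 : r ≠ 2 := fun e => Nat.not_even_iff_odd.2 (Φ.odd_of_mem (Φ.W_le_U hw1W)) (by rw [ho, e]; decide)
    refine hr.ne_one (ho.symm.trans (orderOf_eq_one_iff.2 ?_))
    by_cases hrq : r = q
    · subst hrq
      exact hCA w1 ⟨hop, hw1W⟩ (hwe.pow_left _) (hwd.pow_left _)
    · exact hother r hr hrq hr2 w1 hop hw1W
  exact ⟨{
    R := R
    e := e
    d := d
    ω := c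
    prime := hq
    ne_two := hq2
    he := heo
    hd := hdo
    hω := hco
    e_inv := heu
    ω_inv := hcu
    comm := hc.symm
    R_le := hRU
    e_mem := heR
    d_mem := hdR
    d_mem_W := hdW
    R_normal := hRn
    R_comm := fun r hr s hs => hcgen ▸ hs.2.2 r hr.1
    R_eq := hReq
    ω_central := hcc
    inv_omega := fun z hz hzu hzq hzd => hcgen ▸ keyd z hz hzu hzq hzd
    no_fixed := hno }⟩

end KMin

end Cfsg.Lib.GW
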