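import Cfsg.Agent.Lib.GW.Klein.Key
import Cfsg.Agent.Lib.GW.Klein.Arith
import Cfsg.Agent.Lib.GW.LinearQuotient
import Cfsg.Agent.Lib.Block.KleinStructure

/-!
# Gorenstein–Walter, Sylow four groups: the principal block
-/

set_option autoImplicit false
set_option linter.unusedSectionVars false
set_option linter.style.haveILetI false

namespace Cfsg.Lib.GW

open Cfsg Subgroup
open Cfsg.Lib.Block
open scoped ComplexConjugate

universe u

section Average

variable {G : Type u} [Group G] [Finite G]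

/-- If a character has average zero on a four group, it has average zero on its translates by elements
of the centralizer. -/
theorem sum_translate_eq_zero {χ : G → ℂ} (hχ : IsCharacter G χ) {a b : G} (ha : a * a = 1) (hb : b * b = 1)
    (hab : Commute a b) (h0 : χ 1 + χ a + χ b + χ (a * b) = 0) (w : G) :
    χ w + χ (a * w) + χ (b * w) + χ (a * b * w) = 0 := by
  obtain ⟨n, ρ, rfl⟩ := hχ
  set e : (Fin n → ℂ) →ₗ[ℂ] (Fin n → ℂ) := (1 / 4 : ℂ) • (ρ 1 + ρ a + ρ b + ρ (a * b)) with he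
  have hbab : b * (a * b) = a := by rw [hab.eq, ← mul_assoc, hb, one_mul]
  have haab : a * (a * b) = b := by rw [← mul_assoc, ha, one_mul]
  have hba : b * a = a * b := hab.eq.symm
  have haba : a * b * a = b := by rw [mul_assoc, hba, haab]
  have habb : a * b * b = a := by rw [mul_assoc, hb, mul_one]
  have habab : a * b * (a * b) = 1 := by rw [← mul_assoc, haba, hb]
  have hee : e * e = e := by
    simp only [he, smul_mul_assoc, mul_smul_comm, smul_smul, mul_add, add_mul, ← map_mul, one_mul, mul_one,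
      ha, hb, hba, haab, hbab, haba, habb, habab]
    module
  have hproj : LinearMap.IsProj (LinearMap.range e) e :=
    ⟨fun x => LinearMap.mem_range_self e x, fun x hx => by
      obtain ⟨y, rfl⟩ := LinearMap.mem_range.1 hx
      rw [← Module.End.mul_apply, hee]⟩
  have htr : LinearMap.trace ℂ (Fin n → ℂ) e = 0 := by
    simp only [he, map_smul, map_add]
    change (1 / 4 : ℂ) • (ρ.character 1 + ρ.character a + ρ.character b + ρ.character (a * b)) = 0
    rw [h0, smul_zero]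
  rw [hproj.trace, Nat.cast_eq_zero, Submodule.finrank_eq_zero, LinearMap.range_eq_bot] at htr
  have h := congrArg (LinearMap.trace ℂ (Fin n → ℂ)) (congrArg (fun f => f * ρ w) htr)
  simp only [he, zero_mul, map_zero, smul_mul_assoc, add_mul, ← map_mul, one_mul, map_smul, map_add] at h
  change (1 / 4 : ℂ) • (ρ.character w + ρ.character (a * w) + ρ.character (b * w) +
    ρ.character (a * b * w)) = 0 at h
  exact (smul_eq_zero.1 h).resolve_left (by norm_num)

end Average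

namespace KMin

variable {G : Type u} [Group G] [Fintype G] (hK : KMin G) (Φ : KFrame G)
include hK

theorem exists_kleinCond : ∃ P : Sylow 2 G, KleinCond P ∧ (P : Subgroup G) = Φ.V := by
  haveI : Fact (Nat.Prime 2) := ⟨Nat.prime_two⟩
  obtain ⟨P, hP⟩ := hK.exists_sylow_eq Φ.card_V
  exact ⟨P, hK.sylow_klein P, hP⟩

theorem isPRegular_of_mem {y : G} (hy : y ∈ Φ.U) : IsPRegular 2 y := fun h =>
  Nat.not_even_iff_odd.2 (Φ.odd_of_mem hy) (even_iff_two_dvd.2 h)

theorem principal_apply {M : Ideal AlgInt} (hM : IsPModular 2 M) {χ : IrrCharacter G}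
    (hχ : χ ∈ principalBlock M G) {y : G} (hy : y ∈ Φ.U) :
    (χ : G → ℂ) (Φ.t * y) = (χ : G → ℂ) Φ.t := by
  obtain ⟨P, hP, -⟩ := hK.exists_kleinCond Φ
  exact klein_apply_section hM hP Φ.ht hχ (Φ.commute_t hy) (hK.isPRegular_of_mem Φ hy)

theorem row_const {χ : IrrCharacter G} (h : ∀ y ∈ Φ.U, (χ : G → ℂ) (Φ.t * y) = (χ : G → ℂ) Φ.t) :
    Φ.row (fun _ => 1) χ = (χ : G → ℂ) Φ.t := by
  have hU : (Nat.card Φ.U : ℂ) ≠ 0 := Nat.cast_ne_zero.2 Nat.card_pos.ne'
  rw [KFrame.row, Finset.sum_congr rfl (g := fun _ => (χ : G → ℂ) Φ.t) fun y hy => by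
    rw [h y (Φ.mem_Uset.1 hy), map_one, mul_one], Finset.sum_const, nsmul_eq_mul, Φ.card_Uset,
    inv_mul_cancel_left₀ hU]

/-- The row of the trivial function is supported on the principal block. -/
theorem row_one {M : Ideal AlgInt} (hM : IsPModular 2 M) (χ : IrrCharacter G) :
    (χ ∈ principalBlock M G → Φ.row (fun _ => 1) χ = (χ : G → ℂ) Φ.t) ∧
      (χ ∉ principalBlock M G → Φ.row (fun _ => 1) χ = 0) := by
  classical
  refine ⟨fun h => hK.row_const Φ fun y hy => hK.principal_apply Φ hM h hy, fun h => ?_⟩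
  obtain ⟨P, hP, -⟩ := hK.exists_kleinCond Φ
  obtain ⟨hsg, hcard⟩ := klein_signs hM hP Φ.ht
  choose n hn using fun η : IrrCharacter G =>
    Φ.exists_int_row (θ := fun _ => (1 : ℂ)) Char.isCharacter_one η
  have hgram : ∑ η : IrrCharacter G, n η * n η = 4 := by
    have hg := Φ.gram hK (θ := fun _ => (1 : ℂ)) (θ' := fun _ => (1 : ℂ)) (fun _ _ _ _ => rfl)
    simp only [hn, map_intCast, map_one, mul_one, Finset.sum_const, Φ.card_Uset, nsmul_eq_mul,
      inv_mul_cancel₀ (Nat.cast_ne_zero.2 Nat.card_pos.ne' : (Nat.card Φ.U : ℂ) ≠ 0)] at hg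
    exact_mod_cast hg
  have hB : ∀ η ∈ (principalBlock M G).toFinset, n η * n η = 1 := fun η hη => by
    have e := (hn η).symm.trans (hK.row_const Φ fun y hy => hK.principal_apply Φ hM (Set.mem_toFinset.1 hη) hy)
    rcases hsg η (Set.mem_toFinset.1 hη) with h' | h' <;> rw [h'] at e <;> norm_cast at e <;> rw [e] <;> rfl
  rw [← Finset.sum_add_sum_compl (principalBlock M G).toFinset, Finset.sum_congr rfl hB, Finset.sum_const,
    ← Set.ncard_eq_toFinset_card', ← Nat.card_coe_set_eq, hcard] at hgram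
  norm_num at hgram
  have h0 := (Finset.sum_eq_zero_iff_of_nonneg (fun η _ => mul_self_nonneg (n η))).1 hgram χ
    (Finset.mem_compl.2 fun hm => h (Set.mem_toFinset.1 hm))
  rw [hn, mul_self_eq_zero.1 h0, Int.cast_zero]

/-- No character of degree three is negative on the involutions. -/
theorem not_three {M : Ideal AlgInt} (hM : IsPModular 2 M) (hW : Φ.W ≠ ⊥) {χ : IrrCharacter G}
    (hχ : χ ∈ principalBlock M G) (h1 : (χ : G → ℂ) 1 = 3) (hneg : (χ : G → ℂ) Φ.t = -1) : False := by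
  haveI := hK.min.isSimple
  obtain ⟨w, hw, hw1⟩ := (bot_or_exists_ne_one Φ.W).resolve_left hW
  have hc := χ.2.isClassFunction
  have hu : (χ : G → ℂ) Φ.u = (χ : G → ℂ) Φ.t := by rw [← Φ.gt, hc]
  have hv : (χ : G → ℂ) (Φ.t * Φ.u) = (χ : G → ℂ) Φ.t := by rw [← hc (Φ.t * Φ.u) Φ.g, Φ.gv]
  have h0 := sum_translate_eq_zero χ.2.isCharacter Φ.tt Φ.uu Φ.hc (by rw [h1, hu, hv, hneg]; norm_num) w
  have etw : (χ : G → ℂ) (Φ.t * w) = -1 := by rw [hK.principal_apply Φ hM hχ (Φ.W_le_U hw), hneg]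
  have euw : (χ : G → ℂ) (Φ.u * w) = -1 := by
    have hw' := hK.g_inv_conj_mem_W Φ hw
    rw [show Φ.u * w = Φ.g * (Φ.t * (Φ.g⁻¹ * w * Φ.g)) * Φ.g⁻¹ by rw [← Φ.gt]; group, hc,
      hK.principal_apply Φ hM hχ (Φ.W_le_U hw'), hneg]
  have evw : (χ : G → ℂ) (Φ.t * Φ.u * w) = -1 := by
    have hw' := hK.g_conj_mem_W Φ hw
    rw [show Φ.t * Φ.u * w = Φ.g⁻¹ * (Φ.t * (Φ.g * w * Φ.g⁻¹)) * Φ.g⁻¹⁻¹ by rw [← Φ.gt']; group, hc,
      hK.principal_apply Φ hM hχ (Φ.W_le_U hw'), hneg]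
  rw [etw, euw, evw] at h0
  have hker : w ∈ Char.charKer χ.2.isCharacter := (Char.mem_charKer _).2 (by rw [h1]; linear_combination h0)
  haveI := Char.charKer_normal χ.2.isCharacter
  rcases IsSimpleGroup.eq_bot_or_eq_top_of_normal (Char.charKer χ.2.isCharacter) inferInstance with e | e
  · exact hw1 (mem_bot.1 (e ▸ hker))
  · have := (Char.mem_charKer _).1 (e ▸ mem_top Φ.t : Φ.t ∈ Char.charKer χ.2.isCharacter)
    rw [hneg, h1] at this
    norm_num at this

/-- The signed degrees of the principal block. -/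
theorem principal_data :
    ∃ a b c : ℤ, (a % 4 = 1 ∧ a ≠ 1) ∧ (b % 4 = 1 ∧ b ≠ 1) ∧ (c % 4 = 1 ∧ c ≠ 1) ∧ 1 + a + b + c = 0 ∧
      (Φ.W ≠ ⊥ → Klein.Signed a ∧ Klein.Signed b ∧ Klein.Signed c) ∧
      Φ.weight (fun _ => 1) = ((1 + 1 / (a : ℚ) + 1 / (b : ℚ) + 1 / (c : ℚ) : ℚ) : ℂ) := by
  classical
  haveI : Fact (Nat.Prime 2) := ⟨Nat.prime_two⟩
  haveI := hK.min.isSimple
  obtain ⟨M, hM⟩ := exists_isPModular Nat.prime_two
  obtain ⟨P, hP, -⟩ := hK.exists_kleinCond Φ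
  obtain ⟨x, y, z, hx0, hy0, hz0, hxy, hxz, hyz, sx, sz, sy, hset⟩ := klein_exists_three hM hP Φ.ht
  obtain ⟨hsg, -⟩ := klein_signs hM hP Φ.ht
  have hna : ¬∀ a b : G, a * b = b * a := fun h => hK.min.nonab ⟨⟨h⟩⟩
  have hd : ∀ χ ∈ principalBlock M G, ∃ d : ℤ, (χ : G → ℂ) Φ.t * (χ : G → ℂ) 1 = d ∧
      (χ : G → ℂ) Φ.t / (χ : G → ℂ) 1 = ((1 / (d : ℚ) : ℚ) : ℂ) ∧ d % 4 = 1 ∧
      (χ ≠ trivChar G → d ≠ 1) ∧ (d = -3 → (χ : G → ℂ) Φ.t = -1 ∧ (χ : G → ℂ) 1 = 3) := by
    intro χ hχ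
    have hpos := charDegree_pos χ
    have hdeg := apply_one_eq_charDegree χ
    rcases hsg χ hχ with e | e
    · refine ⟨(charDegree (χ : G → ℂ) : ℤ), by rw [e, hdeg]; simp, by rw [e, hdeg]; simp, ?_, fun hne h => ?_,
        fun h => by omega⟩
      · have := klein_degree_congr hM hP Φ.ht χ (ε := 1) (by rw [e]; norm_num)
        omega
      · exact hne (Twist.eq_trivChar_of_degree_one hna χ (by exact_mod_cast h))
    · refine ⟨-(charDegree (χ : G → ℂ) : ℤ), by rw [e, hdeg]; simp, by rw [e, hdeg]; simp [neg_div], ?_,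
        fun _ h => by omega, fun h => ⟨e, by rw [hdeg, show charDegree (χ : G → ℂ) = 3 by omega]; norm_num⟩⟩
      have := klein_degree_congr hM hP Φ.ht χ (ε := -1) (by rw [e]; norm_num)
      omega
  have mem : ∀ χ, χ = x ∨ χ = y ∨ χ = z → χ ∈ principalBlock M G := fun χ h => by
    rw [hset]; simp only [Set.mem_insert_iff, Set.mem_singleton_iff]; exact Or.inr h
  obtain ⟨a, ha1, ha2, ha3, ha4, ha5⟩ := hd x (mem x (Or.inl rfl))
  obtain ⟨b, hb1, hb2, hb3, hb4, hb5⟩ := hd y (mem y (Or.inr (Or.inl rfl)))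
  obtain ⟨c, hc1, hc2, hc3, hc4, hc5⟩ := hd z (mem z (Or.inr (Or.inr rfl)))
  have hsum : ∀ f : IrrCharacter G → ℂ, ∑ χ ∈ (principalBlock M G).toFinset, f χ =
      f (trivChar G) + (f x + (f y + f z)) := fun f => by
    rw [show (principalBlock M G).toFinset = {trivChar G, x, y, z} by ext χ; simp [hset],
      Finset.sum_insert (by simp [Ne.symm hx0, Ne.symm hy0, Ne.symm hz0]),
      Finset.sum_insert (by simp [hxy, hxz]), Finset.sum_pair hyz]
  refine ⟨a, b, c, ⟨ha3, ha4 hx0⟩, ⟨hb3, hb4 hy0⟩, ⟨hc3, hc4 hz0⟩, ?_,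
    fun hW => ⟨⟨ha3, ha4 hx0, fun h => ?_⟩, ⟨hb3, hb4 hy0, fun h => ?_⟩, ⟨hc3, hc4 hz0, fun h => ?_⟩⟩, ?_⟩
  · have hrel := klein_relation hM hP Φ.ht (y := (1 : G)) (by simp [IsPRegular])
    rw [hsum, ha1, hb1, hc1, show ((trivChar G : IrrCharacter G) : G → ℂ) Φ.t = 1 from rfl,
      show ((trivChar G : IrrCharacter G) : G → ℂ) 1 = 1 from rfl] at hrel
    have : ((1 + a + b + c : ℤ) : ℂ) = 0 := by push_cast; linear_combination hrel
    exact_mod_cast this
  · exact hK.not_three Φ hM hW (mem x (Or.inl rfl)) (ha5 h).2 (ha5 h).1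
  · exact hK.not_three Φ hM hW (mem y (Or.inr (Or.inl rfl))) (hb5 h).2 (hb5 h).1
  · exact hK.not_three Φ hM hW (mem z (Or.inr (Or.inr rfl))) (hc5 h).2 (hc5 h).1
  · rw [KFrame.weight, ← Finset.sum_subset (s₁ := (principalBlock M G).toFinset) (Finset.subset_univ _)
      (fun χ _ hχ => by rw [(hK.row_one Φ hM χ).2 (fun h => hχ (Set.mem_toFinset.2 h)), zero_mul]),
      Finset.sum_congr rfl (g := fun χ : IrrCharacter G => (χ : G → ℂ) Φ.t / (χ : G → ℂ) 1) fun χ hχ => by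
        rw [(hK.row_one Φ hM χ).1 (Set.mem_toFinset.1 hχ)]
        rcases hsg χ (Set.mem_toFinset.1 hχ) with e | e <;> rw [e] <;> ring,
      hsum, ha2, hb2, hc2, show ((trivChar G : IrrCharacter G) : G → ℂ) Φ.t = 1 from rfl,
      show ((trivChar G : IrrCharacter G) : G → ℂ) 1 = 1 from rfl]
    push_cast
    ring

end KMin

end Cfsg.Lib.GW
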