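import Cfsg.Agent.Lib.GW.Klein.Core
import Cfsg.Agent.Lib.GW.Klein.Columns
import Cfsg.Agent.Lib.Char.Basic

/-!
# Gorenstein–Walter, Sylow four groups: rows of the section of an involution

For a class function `θ` of `C = C(t)` on `U` the numbers `|U|⁻¹ ∑ χ(t y) conj (θ y)` are the
coefficients of a class function supported on the conjugates of `t U`.
-/

set_option autoImplicit false
set_option linter.unusedSectionVars false
set_option linter.style.haveILetI false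

namespace Cfsg.Lib.GW

open Subgroup
open scoped ComplexConjugate

universe u

section Integral

variable {G : Type u} [Group G] [Fintype G]

open Classical in
/-- The two eigenspaces of an involution centralizing a subgroup. -/
theorem exists_eigen_mult {χ : G → ℂ} (hχ : IsCharacter G χ) (H : Subgroup G) {z : G} (hz : z * z = 1)
    (hz1 : z ≠ 1) (hc : ∀ h ∈ H, Commute z h) {ψ : G → ℂ}
    (hψ : IsCharacter ↥H (fun h : ↥H => ψ h)) :
    ∃ a b : ℕ,
      ∑ h ∈ Finset.univ.filter (fun h : G => h ∈ H), χ h * conj (ψ h) = (Nat.card H : ℂ) * (a + b) ∧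
      ∑ h ∈ Finset.univ.filter (fun h : G => h ∈ H), χ (z * h) * conj (ψ h) = (Nat.card H : ℂ) * (a - b) := by
  have hcases : ∀ e ∈ zpowers z, e = 1 ∨ e = z := by
    intro e he
    obtain ⟨k, rfl⟩ := mem_zpowers_iff.1 he
    rcases Int.even_or_odd' k with ⟨j, rfl | rfl⟩
    · exact Or.inl (by rw [zpow_mul, show z ^ (2 : ℤ) = 1 by rw [zpow_ofNat, pow_two, hz], one_zpow])
    · exact Or.inr (by rw [zpow_add, zpow_mul, show z ^ (2 : ℤ) = 1 by rw [zpow_ofNat, pow_two, hz],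
        one_zpow, one_mul, zpow_one])
  have hcc : ∀ h ∈ H, ∀ e ∈ zpowers z, Commute e h := fun h hh e he => by
    rcases hcases e he with rfl | rfl
    · exact Commute.one_left _
    · exact hc h hh
  let ι : ↥H × ↥(zpowers z) →* G :=
    { toFun := fun p => (p.2 : G) * p.1
      map_one' := by simp
      map_mul' := fun p q => by
        show (p.2 : G) * q.2 * (p.1 * q.1) = p.2 * p.1 * (q.2 * q.1)
        exact (hcc _ p.1.2 _ q.2.2).mul_mul_mul_comm (p.2 : G) (q.1 : G) }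
  let ε : ↥H × ↥(zpowers z) →* ℂˣ :=
    { toFun := fun p => if (p.2 : G) = 1 then 1 else -1
      map_one' := by simp
      map_mul' := fun p q => by
        show (if (p.2 : G) * q.2 = 1 then (1 : ℂˣ) else -1) = _
        rcases hcases _ p.2.2 with hp | hp <;> rcases hcases _ q.2.2 with hq | hq <;>
          simp [hp, hq, hz, hz1] }
  letI : Fintype ↥H := Fintype.ofFinite _
  letI : Fintype ↥(zpowers z) := Fintype.ofFinite _
  have hzcard : Nat.card ↥(zpowers z) = 2 := by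
    rw [Nat.card_zpowers, orderOf_eq_prime (by rw [pow_two, hz]) hz1]
  have huniv : (Finset.univ : Finset ↥(zpowers z)) = {1, ⟨z, mem_zpowers z⟩} := by
    ext e
    simp only [Finset.mem_univ, Finset.mem_insert, Finset.mem_singleton, true_iff]
    exact (hcases e e.2).imp Subtype.ext Subtype.ext
  obtain ⟨a, ha⟩ := (hχ.comp ι).exists_nat_classInner
    (hψ.comp (MonoidHom.fst ↥H ↥(zpowers z)))
  obtain ⟨b, hb⟩ := (hχ.comp ι).exists_nat_classInner
    ((hψ.comp (MonoidHom.fst ↥H ↥(zpowers z))).mul (Char.isIrrCharacter_linear ε).isCharacter)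
  have hcard : (Nat.card (↥H × ↥(zpowers z)) : ℂ) = 2 * (Nat.card H : ℂ) := by
    rw [Nat.card_prod, hzcard, Nat.cast_mul]; push_cast; ring
  have hH : (Nat.card H : ℂ) ≠ 0 := Nat.cast_ne_zero.2 Nat.card_pos.ne'
  have hne : (1 : ↥(zpowers z)) ≠ ⟨z, mem_zpowers z⟩ := fun h => hz1 (congrArg Subtype.val h).symm
  simp only [classInner, hcard, Fintype.sum_prod_type, huniv, Finset.sum_pair hne, Function.comp_apply,
    Pi.mul_apply, MonoidHom.coe_fst, MonoidHom.coe_mk, OneHom.coe_mk, ι, ε, OneMemClass.coe_one, one_mul,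
    if_true, if_neg hz1, Units.val_one, Units.val_neg, map_mul, map_neg, map_one, mul_one, mul_neg,
    Finset.sum_add_distrib, Finset.sum_neg_distrib] at ha hb
  field_simp at ha hb
  refine ⟨a, b, ?_, ?_⟩ <;>
    rw [Finset.sum_subtype (p := (· ∈ H)) (Finset.univ.filter fun h : G => h ∈ H) (fun h => by simp)]
  · linear_combination (ha + hb) / 2
  · linear_combination (ha - hb) / 2

end Integral

namespace KFrame

variable {G : Type u} [Group G] [Fintype G] (Φ : KFrame G)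

open Classical in
/-- The elements of `U`. -/
noncomputable def Uset : Finset G := Finset.univ.filter fun y => y ∈ Φ.U

open Classical in
/-- The section of `t`. -/
noncomputable def tSet : Finset G := Φ.Uset.image fun y => Φ.t * y

/-- The coefficient of `χ` at `θ` on the section of `t`. -/
noncomputable def row (θ : G → ℂ) (χ : IrrCharacter G) : ℂ :=
  (Nat.card Φ.U : ℂ)⁻¹ * ∑ y ∈ Φ.Uset, (χ : G → ℂ) (Φ.t * y) * conj (θ y)

theorem mem_Uset {y : G} : y ∈ Φ.Uset ↔ y ∈ Φ.U := by simp [Uset]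

theorem card_Uset : Φ.Uset.card = Nat.card Φ.U := by
  classical
  rw [Uset, Nat.card_eq_fintype_card, Fintype.card_subtype]

theorem sum_tSet (f : G → ℂ) : ∑ c ∈ Φ.tSet, f c = ∑ y ∈ Φ.Uset, f (Φ.t * y) := by
  classical
  rw [tSet, Finset.sum_image fun a _ b _ h => mul_left_cancel h]

/-- Invariance under `C`. -/
def Invariant (θ : G → ℂ) : Prop := ∀ k ∈ Φ.C, ∀ y ∈ Φ.U, θ (k * y * k⁻¹) = θ y

theorem conj_mem_U {k y : G} (hk : k ∈ Φ.C) (hy : y ∈ Φ.U) : k * y * k⁻¹ ∈ Φ.U :=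
  (mem_normalizer_iff.1 (Φ.C_le_normalizer_U hk) y).1 hy

theorem conj_t {k : G} (hk : k ∈ Φ.C) (y : G) : k * (Φ.t * y) * k⁻¹ = Φ.t * (k * y * k⁻¹) := by
  rw [show k * (Φ.t * y) * k⁻¹ = k * Φ.t * y * k⁻¹ by group, (Φ.mem_C.1 hk).symm.eq]
  group

theorem pow_card (y : G) (hy : y ∈ Φ.U) : (Φ.t * y) ^ Nat.card Φ.U = Φ.t := by
  obtain ⟨j, hj⟩ := Φ.odd_card_U
  have h1 : y ^ Nat.card Φ.U = 1 := orderOf_dvd_iff_pow_eq_one.1 (Subgroup.orderOf_dvd_natCard _ hy)
  rw [(Φ.commute_t hy).mul_pow, h1, mul_one, hj, pow_succ, pow_mul, pow_two, Φ.tt, one_pow, one_mul]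

theorem commute_of_section {y y' x : G} (hy : y ∈ Φ.U) (hy' : y' ∈ Φ.U)
    (h : x * (Φ.t * y) * x⁻¹ = Φ.t * y') : Commute Φ.t x := by
  have := congrArg (· ^ Nat.card Φ.U) h
  simp only [conj_pow, Φ.pow_card y hy, Φ.pow_card y' hy'] at this
  exact (mul_inv_eq_iff_eq_mul.1 this).symm

theorem special_tSet : Klein.Special Φ.C Φ.tSet := by
  classical
  refine ⟨fun c hc => ?_, fun k hk c hc => ?_, fun c hc x hx => ?_⟩
  · obtain ⟨y, hy, rfl⟩ := Finset.mem_image.1 hc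
    exact mul_mem Φ.t_mem_C (Φ.U_le_C (Φ.mem_Uset.1 hy))
  · obtain ⟨y, hy, rfl⟩ := Finset.mem_image.1 hc
    exact Finset.mem_image.2 ⟨k * y * k⁻¹, Φ.mem_Uset.2 (Φ.conj_mem_U hk (Φ.mem_Uset.1 hy)), (Φ.conj_t hk y).symm⟩
  · obtain ⟨y, hy, rfl⟩ := Finset.mem_image.1 hc
    obtain ⟨y', hy', he⟩ := Finset.mem_image.1 hx
    exact Φ.mem_C.2 (Φ.commute_of_section (Φ.mem_Uset.1 hy) (Φ.mem_Uset.1 hy') he.symm)

variable {θ θ' : G → ℂ}

theorem row_eq_coef (hK : KMin G) (χ : IrrCharacter G) :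
    Φ.row θ χ = Klein.coef Φ.C Φ.tSet (fun c => 4 * θ (Φ.t * c)) χ := by
  have h4 : (Nat.card Φ.C : ℂ) = 4 * (Nat.card Φ.U : ℂ) := by exact_mod_cast hK.card_C Φ
  have hU : (Nat.card Φ.U : ℂ) ≠ 0 := Nat.cast_ne_zero.2 Nat.card_pos.ne'
  rw [Klein.coef, sum_tSet, row, h4]
  simp only [← mul_assoc Φ.t Φ.t, Φ.tt, one_mul, map_mul, Complex.conj_ofNat]
  rw [Finset.mul_sum, Finset.mul_sum]
  refine Finset.sum_congr rfl fun y _ => ?_
  field_simp

theorem alpha_invariant (hθ : Φ.Invariant θ) :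
    ∀ k ∈ Φ.C, ∀ c ∈ Φ.tSet, (fun c => 4 * θ (Φ.t * c)) (k * c * k⁻¹) = 4 * θ (Φ.t * c) := by
  classical
  intro k hk c hc
  obtain ⟨y, hy, rfl⟩ := Finset.mem_image.1 hc
  simp only [Φ.conj_t hk, ← mul_assoc Φ.t Φ.t, Φ.tt, one_mul]
  rw [hθ k hk y (Φ.mem_Uset.1 hy)]

/-- The isometry, up to the factor four. -/
theorem gram (hK : KMin G) (hθ' : Φ.Invariant θ') :
    ∑ χ : IrrCharacter G, Φ.row θ χ * conj (Φ.row θ' χ) =
      4 * ((Nat.card Φ.U : ℂ)⁻¹ * ∑ y ∈ Φ.Uset, θ' y * conj (θ y)) := by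
  simp only [Φ.row_eq_coef hK]
  rw [Klein.gram Φ.special_tSet (Φ.alpha_invariant hθ'), sum_tSet]
  have h4 : (Nat.card Φ.C : ℂ) = 4 * (Nat.card Φ.U : ℂ) := by exact_mod_cast hK.card_C Φ
  have hU : (Nat.card Φ.U : ℂ) ≠ 0 := Nat.cast_ne_zero.2 Nat.card_pos.ne'
  simp only [← mul_assoc Φ.t Φ.t, Φ.tt, one_mul, map_mul, Complex.conj_ofNat, h4]
  rw [Finset.mul_sum, Finset.mul_sum, Finset.mul_sum]
  refine Finset.sum_congr rfl fun y _ => ?_
  field_simp

theorem one_notMem_tSet : (1 : G) ∉ Φ.tSet := by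
  classical
  intro h
  obtain ⟨y, hy, he⟩ := Finset.mem_image.1 h
  have := Φ.pow_card y (Φ.mem_Uset.1 hy)
  rw [he, one_pow] at this
  exact Cfsg.Lib.Invol.ne_one Φ.ht this.symm

/-- The rows are orthogonal to the degrees. -/
theorem row_degree (hK : KMin G) (θ : G → ℂ) : ∑ χ : IrrCharacter G, Φ.row θ χ * (χ : G → ℂ) 1 = 0 := by
  simp only [Φ.row_eq_coef hK]
  exact Klein.sum_degree _ Φ.one_notMem_tSet

/-- The rows of characters of `U` are integers. -/
theorem exists_int_row (hθ : IsCharacter ↥Φ.U (fun y : ↥Φ.U => θ y)) (χ : IrrCharacter G) :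
    ∃ n : ℤ, Φ.row θ χ = n := by
  classical
  obtain ⟨a, b, -, h2⟩ := exists_eigen_mult χ.2.isCharacter Φ.U Φ.tt (Cfsg.Lib.Invol.ne_one Φ.ht)
    (fun h hh => Φ.commute_t hh) (ψ := θ) hθ
  refine ⟨(a : ℤ) - b, ?_⟩
  have hU : (Nat.card Φ.U : ℂ) ≠ 0 := Nat.cast_ne_zero.2 Nat.card_pos.ne'
  rw [row, Uset, h2, ← mul_assoc, inv_mul_cancel₀ hU, one_mul]
  push_cast
  ring

end KFrame

end Cfsg.Lib.GW
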