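import Cfsg.Agent.Lib.GW.Klein.Generate
import Cfsg.Agent.Lib.GW.Klein.Hei
import Cfsg.Agent.Lib.GW.Klein.Plane
import Cfsg.Agent.Lib.Fusion.Parts

/-!
# Gorenstein–Walter, Sylow four groups: from `R = ⟨e, d⟩` to the Heisenberg configuration

`U` acts on `R / ⟨ω⟩` by matrices of determinant one; with the kernel `F` the quotient `U / F` is an odd
group without normal `q`-subgroup, hence abelian and fixed point free.
-/

set_option autoImplicit false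
set_option linter.style.haveILetI false
set_option linter.unusedSectionVars false

namespace Cfsg.Lib.GW

open Cfsg Subgroup

universe u

/-- The data from which the Heisenberg configuration is built. -/
structure KFrame.Pre {G : Type u} [Group G] [Finite G] (Φ : KFrame G) (q : ℕ) where
  R : Subgroup G
  e : G
  d : G
  ω : G
  prime : q.Prime
  ne_two : q ≠ 2
  he : orderOf e = q
  hd : orderOf d = q
  hω : orderOf ω = q
  e_inv : Φ.u * e * Φ.u = e⁻¹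
  ω_inv : Φ.u * ω * Φ.u = ω⁻¹
  comm : e * d * e⁻¹ * d⁻¹ = ω
  R_le : R ≤ Φ.U
  e_mem : e ∈ R
  d_mem : d ∈ R
  d_mem_W : d ∈ Φ.W
  R_normal : Φ.C ≤ normalizer (R : Set G)
  R_comm : ∀ r ∈ R, ∀ s ∈ R, r * s * r⁻¹ * s⁻¹ ∈ zpowers ω
  R_eq : ∀ r ∈ R, ∃ i j l : ℕ, r = e ^ i * d ^ j * ω ^ l
  ω_central : ∀ y ∈ Φ.U, Commute y ω
  inv_omega : ∀ z ∈ Φ.U, Φ.u * z * Φ.u = z⁻¹ → z ^ q = 1 → Commute z d → z ∈ zpowers ω
  no_fixed : ∀ w ∈ Φ.W, Commute w e → Commute w d → w = 1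

namespace KFrame.Pre

variable {G : Type u} [Group G] [Finite G] {Φ : KFrame G} {q : ℕ} [Fact q.Prime] (p : Φ.Pre q)
include p

theorem ω_mem : p.ω ∈ p.R := by
  rw [← p.comm]
  exact mul_mem (mul_mem (mul_mem p.e_mem p.d_mem) (inv_mem p.e_mem)) (inv_mem p.d_mem)

theorem ω_memU : p.ω ∈ Φ.U := p.R_le p.ω_mem

theorem zpowers_le_R : zpowers p.ω ≤ p.R := zpowers_le.2 p.ω_mem

theorem central {c y : G} (hc : c ∈ zpowers p.ω) (hy : y ∈ Φ.U) : y * c * y⁻¹ = c := by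
  obtain ⟨i, rfl⟩ := mem_zpowers_iff.1 hc
  rw [((p.ω_central y hy).zpow_right i).eq, mul_inv_cancel_right]

theorem eq_one_of_mem_W {c : G} (hc : c ∈ zpowers p.ω) (hW : c ∈ Φ.W) : c = 1 := by
  obtain ⟨i, rfl⟩ := mem_zpowers_iff.1 hc
  refine eq_one_of_fixed_inverted Φ.uu (Φ.commute_u hW) ?_ (Φ.odd_of_mem (Φ.W_le_U hW))
  rw [show Φ.u * p.ω ^ i * Φ.u = (Φ.u * p.ω * Φ.u⁻¹) ^ i by
    rw [conj_zpow, Cfsg.Lib.Invol.inv_eq_self Φ.hu], Cfsg.Lib.Invol.inv_eq_self Φ.hu, p.ω_inv, inv_zpow]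

/-- The kernel of the action on `R / ⟨ω⟩`. -/
def F : Subgroup G where
  carrier := {y | y ∈ Φ.U ∧ ∀ r ∈ p.R, y * r * y⁻¹ * r⁻¹ ∈ zpowers p.ω}
  one_mem' := ⟨one_mem _, fun r _ => by simp⟩
  mul_mem' := fun {a b} ha hb => ⟨mul_mem ha.1 hb.1, fun r hr => by
    rw [show a * b * r * (a * b)⁻¹ * r⁻¹ = a * (b * r * b⁻¹ * r⁻¹) * a⁻¹ * (a * r * a⁻¹ * r⁻¹) by group,
      p.central (hb.2 r hr) ha.1]
    exact mul_mem (hb.2 r hr) (ha.2 r hr)⟩
  inv_mem' := fun {a} ha => ⟨inv_mem ha.1, fun r hr => by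
    rw [show a⁻¹ * r * a⁻¹⁻¹ * r⁻¹ = a⁻¹ * (a * r * a⁻¹ * r⁻¹)⁻¹ * a⁻¹⁻¹ by group,
      p.central (inv_mem (ha.2 r hr)) (inv_mem ha.1)]
    exact inv_mem (ha.2 r hr)⟩

theorem R_le_F : p.R ≤ p.F := fun r hr => ⟨p.R_le hr, p.R_comm r hr⟩

theorem F_le : p.F ≤ Φ.U := fun _ hy => hy.1

open Classical in
/-- The exponent of a power of `ω`. -/
noncomputable def ell (c : G) : ZMod q := if h : ∃ a : ℕ, c = p.ω ^ a then (h.choose : ZMod q) else 0

theorem ell_pow (a : ℕ) : p.ell (p.ω ^ a) = a := by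
  have h : ∃ b : ℕ, p.ω ^ a = p.ω ^ b := ⟨a, rfl⟩
  rw [ell, dif_pos h, ZMod.natCast_eq_natCast_iff]
  have := pow_eq_pow_iff_modEq.1 h.choose_spec.symm
  rwa [p.hω] at this

theorem exists_pow {c : G} (hc : c ∈ zpowers p.ω) : ∃ a : ℕ, c = p.ω ^ a :=
  ((isOfFinOrder_of_finite p.ω).mem_powers_iff_mem_zpowers.2 hc).imp fun _ h => h.symm

theorem ell_mul {c c' : G} (hc : c ∈ zpowers p.ω) (hc' : c' ∈ zpowers p.ω) :
    p.ell (c * c') = p.ell c + p.ell c' := by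
  obtain ⟨a, rfl⟩ := p.exists_pow hc
  obtain ⟨b, rfl⟩ := p.exists_pow hc'
  rw [← pow_add, p.ell_pow, p.ell_pow, p.ell_pow, Nat.cast_add]

theorem ell_one : p.ell 1 = 0 := by simpa using p.ell_pow 0

theorem ell_inv {c : G} (hc : c ∈ zpowers p.ω) : p.ell c⁻¹ = -p.ell c := by
  have := p.ell_mul (inv_mem hc) hc
  rw [inv_mul_cancel, p.ell_one] at this
  exact eq_neg_of_add_eq_zero_left this.symm

theorem eq_one_of_ell {c : G} (hc : c ∈ zpowers p.ω) (h : p.ell c = 0) : c = 1 := by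
  obtain ⟨a, rfl⟩ := p.exists_pow hc
  rw [p.ell_pow, ZMod.natCast_eq_zero_iff, ← p.hω] at h
  exact orderOf_dvd_iff_pow_eq_one.1 h

/-- The pairing. -/
noncomputable def P (x y : G) : ZMod q := p.ell (x * y * x⁻¹ * y⁻¹)

theorem P_mul_left {a b x : G} (ha : a ∈ p.F) (hb : b ∈ p.F) (hx : x ∈ p.R) :
    p.P (a * b) x = p.P a x + p.P b x := by
  rw [P, show a * b * x * (a * b)⁻¹ * x⁻¹ = a * (b * x * b⁻¹ * x⁻¹) * a⁻¹ * (a * x * a⁻¹ * x⁻¹) by group,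
    p.central (hb.2 x hx) ha.1, p.ell_mul (hb.2 x hx) (ha.2 x hx), add_comm]
  rfl

theorem P_mul_right {a x y : G} (ha : a ∈ p.F) (hx : x ∈ p.R) (hy : y ∈ p.R) :
    p.P a (x * y) = p.P a x + p.P a y := by
  rw [P, show a * (x * y) * a⁻¹ * (x * y)⁻¹ = (a * x * a⁻¹ * x⁻¹) * (x * (a * y * a⁻¹ * y⁻¹) * x⁻¹) by group,
    p.central (ha.2 y hy) (p.R_le hx), p.ell_mul (ha.2 x hx) (ha.2 y hy)]
  rfl

theorem P_self (x : G) : p.P x x = 0 := by rw [P]; simpa using p.ell_one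

theorem P_swap {x y : G} (hx : x ∈ p.R) (hy : y ∈ p.R) : p.P y x = -p.P x y := by
  rw [P, P, ← p.ell_inv (p.R_comm x hx y hy)]
  congr 1
  group

theorem P_one_left (x : G) : p.P 1 x = 0 := by rw [P]; simpa using p.ell_one

theorem P_inv_left {a x : G} (ha : a ∈ p.F) (hx : x ∈ p.R) : p.P a⁻¹ x = -p.P a x := by
  have := p.P_mul_left (inv_mem ha) ha hx
  rw [inv_mul_cancel, p.P_one_left] at this
  exact eq_neg_of_add_eq_zero_left this.symm

theorem P_pow_left {a x : G} (ha : a ∈ p.F) (hx : x ∈ p.R) (n : ℕ) : p.P (a ^ n) x = n * p.P a x := by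
  induction n with
  | zero => simp [p.P_one_left]
  | succ n ih => rw [pow_succ, p.P_mul_left (pow_mem ha n) ha hx, ih]; push_cast; ring

theorem P_e_d : p.P p.e p.d = 1 := by
  rw [P, p.comm]
  simpa using p.ell_pow 1

theorem P_d_e : p.P p.d p.e = -1 := by rw [p.P_swap p.e_mem p.d_mem, p.P_e_d]

theorem P_ω_left {x : G} (hx : x ∈ p.R) : p.P p.ω x = 0 := by
  rw [P, show p.ω * x * p.ω⁻¹ * x⁻¹ = 1 by
    rw [← (p.ω_central x (p.R_le hx)).eq, mul_inv_cancel_right, mul_inv_cancel]]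
  exact p.ell_one

/-- The two coordinates. -/
noncomputable def A (r : G) : ZMod q := p.P r p.d

/-- The two coordinates. -/
noncomputable def B (r : G) : ZMod q := -p.P r p.e

theorem A_mul {r s : G} (hr : r ∈ p.R) (hs : s ∈ p.R) : p.A (r * s) = p.A r + p.A s :=
  p.P_mul_left (p.R_le_F hr) (p.R_le_F hs) p.d_mem

theorem B_mul {r s : G} (hr : r ∈ p.R) (hs : s ∈ p.R) : p.B (r * s) = p.B r + p.B s := by
  rw [B, B, B, p.P_mul_left (p.R_le_F hr) (p.R_le_F hs) p.e_mem]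
  ring

theorem P_coord {r : G} (hr : r ∈ p.R) (x : G) (hx : x ∈ p.R) :
    p.P r x = p.A r * p.P p.e x + p.B r * p.P p.d x := by
  obtain ⟨i, j, l, rfl⟩ := p.R_eq r hr
  have he := p.R_le_F p.e_mem
  have hd := p.R_le_F p.d_mem
  have hω := p.R_le_F p.ω_mem
  have key : ∀ y ∈ p.R, p.P (p.e ^ i * p.d ^ j * p.ω ^ l) y = i * p.P p.e y + j * p.P p.d y := fun y hy => by
    rw [p.P_mul_left (mul_mem (pow_mem he i) (pow_mem hd j)) (pow_mem hω l) hy,
      p.P_mul_left (pow_mem he i) (pow_mem hd j) hy, p.P_pow_left he hy, p.P_pow_left hd hy,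
      p.P_pow_left hω hy, p.P_ω_left hy, mul_zero, add_zero]
  rw [A, B, key _ p.d_mem, key _ p.e_mem, key x hx, p.P_e_d, p.P_self, p.P_d_e, p.P_self]
  ring

theorem A_e : p.A p.e = 1 := p.P_e_d

theorem A_d : p.A p.d = 0 := p.P_self _

theorem B_e : p.B p.e = 0 := by rw [B, p.P_self, neg_zero]

theorem B_d : p.B p.d = 1 := by rw [B, p.P_d_e, neg_neg]

theorem A_ω : p.A p.ω = 0 := p.P_ω_left p.d_mem

theorem B_ω : p.B p.ω = 0 := by rw [B, p.P_ω_left p.e_mem, neg_zero]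

theorem mem_omega_of_coord {r : G} (hr : r ∈ p.R) (hA : p.A r = 0) (hB : p.B r = 0) : r ∈ zpowers p.ω := by
  obtain ⟨i, j, l, rfl⟩ := p.R_eq r hr
  have he := p.R_le_F p.e_mem
  have hd := p.R_le_F p.d_mem
  have hω := p.R_le_F p.ω_mem
  rw [A, p.P_mul_left (mul_mem (pow_mem he i) (pow_mem hd j)) (pow_mem hω l) p.d_mem,
    p.P_mul_left (pow_mem he i) (pow_mem hd j) p.d_mem, p.P_pow_left he p.d_mem, p.P_pow_left hd p.d_mem,
    p.P_pow_left hω p.d_mem, p.P_ω_left p.d_mem, p.P_e_d, p.P_self, mul_zero, mul_zero, add_zero, add_zero,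
    mul_one, ZMod.natCast_eq_zero_iff] at hA
  rw [B, p.P_mul_left (mul_mem (pow_mem he i) (pow_mem hd j)) (pow_mem hω l) p.e_mem,
    p.P_mul_left (pow_mem he i) (pow_mem hd j) p.e_mem, p.P_pow_left he p.e_mem, p.P_pow_left hd p.e_mem,
    p.P_pow_left hω p.e_mem, p.P_ω_left p.e_mem, p.P_self, p.P_d_e, mul_zero, mul_zero, zero_add, add_zero,
    mul_neg, mul_one, neg_neg, ZMod.natCast_eq_zero_iff] at hB
  rw [← p.he] at hA
  rw [← p.hd] at hB
  rw [orderOf_dvd_iff_pow_eq_one.1 hA, orderOf_dvd_iff_pow_eq_one.1 hB, one_mul, one_mul]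
  exact pow_mem (mem_zpowers _) l

theorem conj_mem {y r : G} (hy : y ∈ Φ.C) (hr : r ∈ p.R) : y * r * y⁻¹ ∈ p.R :=
  (mem_normalizer_iff.1 (p.R_normal hy) r).1 hr

theorem A_conj_eq_iff {y r : G} (hy : y ∈ Φ.U) (hr : r ∈ p.R) :
    y * r * y⁻¹ * r⁻¹ ∈ zpowers p.ω ↔ p.A (y * r * y⁻¹) = p.A r ∧ p.B (y * r * y⁻¹) = p.B r := by
  have hrc := p.conj_mem (Φ.U_le_C hy) hr
  have hmem : y * r * y⁻¹ * r⁻¹ ∈ p.R := mul_mem hrc (inv_mem hr)
  have hA : p.A (y * r * y⁻¹) = p.A (y * r * y⁻¹ * r⁻¹) + p.A r := by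
    rw [← p.A_mul hmem hr, inv_mul_cancel_right]
  have hB : p.B (y * r * y⁻¹) = p.B (y * r * y⁻¹ * r⁻¹) + p.B r := by
    rw [← p.B_mul hmem hr, inv_mul_cancel_right]
  refine ⟨fun h => ?_, fun ⟨h1, h2⟩ => p.mem_omega_of_coord hmem
    (by rw [h1] at hA; exact add_right_cancel (hA.symm.trans (zero_add _).symm))
    (by rw [h2] at hB; exact add_right_cancel (hB.symm.trans (zero_add _).symm))⟩
  obtain ⟨l, hl⟩ := p.exists_pow h
  rw [hA, hB, hl, A, B, p.P_pow_left (p.R_le_F p.ω_mem) p.d_mem, p.P_pow_left (p.R_le_F p.ω_mem) p.e_mem,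
    p.P_ω_left p.d_mem, p.P_ω_left p.e_mem, mul_zero, neg_zero, zero_add, zero_add]
  exact ⟨rfl, rfl⟩

/-- The matrix of the action of `y`. -/
noncomputable def mat (y : G) : Matrix (Fin 2) (Fin 2) (ZMod q) :=
  !![p.A (y * p.e * y⁻¹), p.A (y * p.d * y⁻¹); p.B (y * p.e * y⁻¹), p.B (y * p.d * y⁻¹)]

theorem P_conj {y r s : G} (hy : y ∈ Φ.U) (hr : r ∈ p.R) (hs : s ∈ p.R) :
    p.P (y * r * y⁻¹) (y * s * y⁻¹) = p.P r s := by
  rw [P, show y * r * y⁻¹ * (y * s * y⁻¹) * (y * r * y⁻¹)⁻¹ * (y * s * y⁻¹)⁻¹ =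
    y * (r * s * r⁻¹ * s⁻¹) * y⁻¹ by group, p.central (p.R_comm r hr s hs) hy]
  rfl

theorem conj_coord {y r : G} (hy : y ∈ Φ.U) (hr : r ∈ p.R) :
    p.A (y * r * y⁻¹) = p.A r * p.mat y 0 0 + p.B r * p.mat y 0 1 ∧
      p.B (y * r * y⁻¹) = p.A r * p.mat y 1 0 + p.B r * p.mat y 1 1 := by
  have hy' : y⁻¹ ∈ Φ.U := inv_mem hy
  have key : ∀ x ∈ p.R, p.P (y * r * y⁻¹) x =
      p.A r * p.P (y * p.e * y⁻¹) x + p.B r * p.P (y * p.d * y⁻¹) x := by
    intro x hx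
    have hx' : y⁻¹ * x * y ∈ p.R := by simpa using p.conj_mem (Φ.U_le_C hy') hx
    have e : x = y * (y⁻¹ * x * y) * y⁻¹ := by group
    rw [e, p.P_conj hy hr hx', p.P_conj hy p.e_mem hx', p.P_conj hy p.d_mem hx', p.P_coord hr _ hx']
  constructor
  · simp [A, mat, key _ p.d_mem]
  · simp [B, mat, key _ p.e_mem]
    ring

theorem mat_mul {y y' : G} (hy : y ∈ Φ.U) (hy' : y' ∈ Φ.U) : p.mat (y * y') = p.mat y * p.mat y' := by
  have he := p.conj_coord hy (p.conj_mem (Φ.U_le_C hy') p.e_mem)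
  have hd := p.conj_coord hy (p.conj_mem (Φ.U_le_C hy') p.d_mem)
  have ee : y * y' * p.e * (y * y')⁻¹ = y * (y' * p.e * y'⁻¹) * y⁻¹ := by group
  have ed : y * y' * p.d * (y * y')⁻¹ = y * (y' * p.d * y'⁻¹) * y⁻¹ := by group
  ext i j
  fin_cases i <;> fin_cases j <;> simp [mat, Matrix.mul_apply, Fin.sum_univ_two] <;>
    simp [mat] at he hd <;> rw [mul_assoc] at * <;> grind

theorem mat_det {y : G} (hy : y ∈ Φ.U) : (p.mat y).det = 1 := by
  have h := p.P_conj hy p.e_mem p.d_mem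
  rw [p.P_e_d, p.P_coord (p.conj_mem (Φ.U_le_C hy) p.e_mem) _ (p.conj_mem (Φ.U_le_C hy) p.d_mem)] at h
  have hd := p.conj_mem (Φ.U_le_C hy) p.d_mem
  rw [p.P_swap hd p.e_mem, p.P_swap hd p.d_mem] at h
  rw [Matrix.det_fin_two]
  simp only [A, B] at h ⊢
  simp [mat, A, B] at h ⊢
  linear_combination h

/-- The representation. -/
noncomputable def rep : ↥Φ.U →* Matrix (Fin 2) (Fin 2) (ZMod q) where
  toFun y := p.mat y
  map_one' := by
    ext i j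
    fin_cases i <;> fin_cases j <;> simp [mat, p.A_e, p.A_d, p.B_e, p.B_d]
  map_mul' a b := p.mat_mul a.2 b.2

theorem rep_eq_one_iff {y : ↥Φ.U} : p.rep y = 1 ↔ (y : G) ∈ p.F := by
  constructor
  · intro h
    refine ⟨y.2, fun r hr => (p.A_conj_eq_iff y.2 hr).2 ?_⟩
    obtain ⟨h1, h2⟩ := p.conj_coord y.2 hr
    rw [show p.mat y = 1 from h] at h1 h2
    exact ⟨by simpa using h1, by simpa using h2⟩
  · intro h
    obtain ⟨h1, h2⟩ := (p.A_conj_eq_iff y.2 p.e_mem).1 (h.2 _ p.e_mem)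
    obtain ⟨h3, h4⟩ := (p.A_conj_eq_iff y.2 p.d_mem).1 (h.2 _ p.d_mem)
    show p.mat y = 1
    ext i j
    fin_cases i <;> fin_cases j <;> simp [mat, h1, h2, h3, h4, p.A_e, p.A_d, p.B_e, p.B_d]

theorem F_normal : Φ.C ≤ normalizer (p.F : Set G) := by
  intro c hc
  refine Cfsg.Lib.Fusion.le_normalizer_of_conj_mem fun y hy => ⟨(mem_normalizer_iff.1
    (Φ.C_le_normalizer_U hc) y).1 hy.1, fun r hr => ?_⟩
  have hci : c⁻¹ ∈ Φ.C := inv_mem hc
  have hr' : c⁻¹ * r * c ∈ p.R := by simpa using p.conj_mem hci hr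
  have hyU := Φ.U_le_C hy.1
  obtain ⟨a, ha⟩ := p.exists_pow (hy.2 _ hr')
  rw [show c * y * c⁻¹ * r * (c * y * c⁻¹)⁻¹ * r⁻¹ = c * (y * (c⁻¹ * r * c) * y⁻¹ * (c⁻¹ * r * c)⁻¹) * c⁻¹ by
    group, ha, ← conj_pow, ← p.comm,
    show c * (p.e * p.d * p.e⁻¹ * p.d⁻¹) * c⁻¹ =
      (c * p.e * c⁻¹) * (c * p.d * c⁻¹) * (c * p.e * c⁻¹)⁻¹ * (c * p.d * c⁻¹)⁻¹ by group, p.comm]
  exact pow_mem (p.R_comm _ (p.conj_mem hc p.e_mem) _ (p.conj_mem hc p.d_mem)) a

theorem u_coord {r : G} (hr : r ∈ p.R) :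
    p.A (Φ.u * r * Φ.u) = -p.A r ∧ p.B (Φ.u * r * Φ.u) = p.B r := by
  have hu := Cfsg.Lib.Invol.inv_eq_self Φ.hu
  have hcw : ∀ c ∈ zpowers p.ω, Φ.u * c * Φ.u = c⁻¹ := by
    intro c hc
    obtain ⟨i, rfl⟩ := mem_zpowers_iff.1 hc
    rw [show Φ.u * p.ω ^ i * Φ.u = (Φ.u * p.ω * Φ.u⁻¹) ^ i by rw [conj_zpow, hu], hu, p.ω_inv, inv_zpow]
  have key : ∀ x ∈ p.R, ∀ y, Φ.u * x * Φ.u = y → p.P (Φ.u * r * Φ.u) y = -p.P r x := by
    rintro x hx y rfl
    rw [P, P, ← p.ell_inv (p.R_comm r hr x hx), ← hcw _ (p.R_comm r hr x hx)]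
    congr 1
    simp only [_root_.mul_inv_rev, hu, mul_assoc, ← mul_assoc Φ.u Φ.u, Φ.uu, one_mul]
  have h1 := key p.d p.d_mem p.d (fix_of_commute Φ.uu (Φ.commute_u p.d_mem_W))
  refine ⟨h1, ?_⟩
  have h2 := key p.e p.e_mem p.e⁻¹ p.e_inv
  have hur : Φ.u * r * Φ.u ∈ p.R := by simpa [hu] using p.conj_mem Φ.u_mem_C hr
  have h3 := p.P_mul_right (p.R_le_F hur) (inv_mem p.e_mem) p.e_mem
  rw [inv_mul_cancel, h2] at h3
  have h4 : p.P (Φ.u * r * Φ.u) 1 = 0 := by rw [P]; simpa using p.ell_one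
  rw [h4] at h3
  simp only [B]
  linear_combination h3

end KFrame.Pre

namespace KMin

variable {G : Type u} [Group G] [Finite G] (hK : KMin G) (Φ : KFrame G) (hg : ∀ w ∈ Φ.W, Commute Φ.g w)
  (hW : Φ.W ≠ ⊥) {q : ℕ} [Fact q.Prime] (p : Φ.Pre q)
include hK hg hW p

/-- No normal subgroup of `C` lies strictly between `⟨ω⟩` and `R`. -/
theorem no_invariant {L : Subgroup G} (hωL : p.ω ∈ L) (hLR : L ≤ p.R) (hn : Φ.C ≤ normalizer (L : Set G))
    (h1 : L ≠ p.R) (h2 : ¬ L ≤ zpowers p.ω) : False := by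
  by_cases hfix : ∀ r ∈ L, Commute Φ.u r → r = 1
  · refine h2 fun r hr => p.mem_omega_of_coord (hLR hr) ?_ ?_
    all_goals
      have hinv : ∀ z ∈ L, Φ.u * z * Φ.u = z⁻¹ := fun z hz => inverts_of_fixed_trivial Φ.uu (fun a ha => by
        have := (mem_normalizer_iff.1 (hn Φ.u_mem_C) a).1 ha
        rwa [Cfsg.Lib.Invol.inv_eq_self Φ.hu] at this) hfix hz
    · have hc := hK.commute_of_inverted Φ hg hW hn hinv (p.R_le p.d_mem) hr
      show p.ell _ = 0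
      rw [← hc.eq, mul_inv_cancel_right, mul_inv_cancel, p.ell_one]
    · have hc := hK.commute_of_inverted Φ hg hW hn hinv (p.R_le p.e_mem) hr
      show -p.ell _ = 0
      rw [← hc.eq, mul_inv_cancel_right, mul_inv_cancel, p.ell_one, neg_zero]
  push Not at hfix
  obtain ⟨r, hr, hru, hr1⟩ := hfix
  have h2' := Plane.two_ne_zero_of (q := q) p.ne_two
  have hrA : p.A r = 0 := by
    have := (p.u_coord (hLR hr)).1
    rw [fix_of_commute Φ.uu hru] at this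
    exact (mul_eq_zero.1 (show (2 : ZMod q) * p.A r = 0 by linear_combination this)).resolve_left h2'
  have hrW : r ∈ Φ.W := ⟨p.R_le (hLR hr), mem_centralizer_singleton_iff.2 hru.symm.eq⟩
  have hrB : p.B r ≠ 0 := fun h => hr1 (p.eq_one_of_mem_W (p.mem_omega_of_coord (hLR hr) hrA h) hrW)
  -- `L` contains every element with first coordinate zero
  have hωL' : zpowers p.ω ≤ L := zpowers_le.2 hωL
  have hall : ∀ s ∈ p.R, p.A s = 0 → s ∈ L := by
    intro s hs hsA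
    obtain ⟨n, hn'⟩ : ∃ n : ℕ, (n : ZMod q) * p.B r = p.B s :=
      ⟨(p.B s / p.B r).val, by rw [ZMod.natCast_zmod_val, div_mul_cancel₀ _ hrB]⟩
    have hrn := pow_mem hr n
    have hcA : p.A (r ^ n) = 0 := by
      rw [KFrame.Pre.A, p.P_pow_left (p.R_le_F (hLR hr)) p.d_mem]
      exact mul_eq_zero_of_right _ hrA
    have hcB : p.B (r ^ n) = p.B s := by
      rw [← hn', KFrame.Pre.B, KFrame.Pre.B, p.P_pow_left (p.R_le_F (hLR hr)) p.e_mem, mul_neg]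
    have hm : (r ^ n)⁻¹ * s ∈ p.R := mul_mem (inv_mem (hLR hrn)) hs
    have eA := p.A_mul (hLR hrn) hm
    have eB := p.B_mul (hLR hrn) hm
    rw [mul_inv_cancel_left, hcA, hsA, zero_add] at eA
    rw [mul_inv_cancel_left, hcB] at eB
    have := mul_mem hrn (hωL' (p.mem_omega_of_coord hm eA.symm (by linear_combination -eB)))
    rwa [mul_inv_cancel_left] at this
  by_cases hA : ∃ s ∈ L, p.A s ≠ 0
  · obtain ⟨s, hs, hsA⟩ := hA
    refine h1 (le_antisymm hLR fun x hx => ?_)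
    obtain ⟨n, hn'⟩ : ∃ n : ℕ, (n : ZMod q) * p.A s = p.A x :=
      ⟨(p.A x / p.A s).val, by rw [ZMod.natCast_zmod_val, div_mul_cancel₀ _ hsA]⟩
    have hm : (s ^ n)⁻¹ * x ∈ p.R := mul_mem (inv_mem (hLR (pow_mem hs n))) hx
    have eA := p.A_mul (hLR (pow_mem hs n)) hm
    rw [mul_inv_cancel_left, show p.A (s ^ n) = n * p.A s from p.P_pow_left (p.R_le_F (hLR hs)) p.d_mem n,
      hn'] at eA
    have := mul_mem (pow_mem hs n) (hall _ hm (by linear_combination -eA))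
    rwa [mul_inv_cancel_left] at this
  push Not at hA
  refine hK.line_of Φ hg (q := q) p.d_mem_W p.hd p.ω_memU p.hω p.ω_inv (p.ω_central _ (p.R_le p.d_mem))
    (R := L) (fun x => ⟨fun hx => ?_, ?_⟩) hn
  · obtain ⟨n, hn'⟩ : ∃ n : ℕ, (n : ZMod q) = p.B x := ⟨(p.B x).val, ZMod.natCast_zmod_val _⟩
    have hdn : p.d ^ n ∈ p.R := pow_mem p.d_mem n
    have hm : (p.d ^ n)⁻¹ * x ∈ p.R := mul_mem (inv_mem hdn) (hLR hx)
    have eA := p.A_mul hdn hm
    have eB := p.B_mul hdn hm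
    rw [mul_inv_cancel_left, show p.A (p.d ^ n) = n * p.A p.d from p.P_pow_left (p.R_le_F p.d_mem) p.d_mem n,
      p.A_d, mul_zero, zero_add, hA x hx] at eA
    rw [mul_inv_cancel_left, show p.B (p.d ^ n) = n * p.B p.d by
      rw [KFrame.Pre.B, KFrame.Pre.B, p.P_pow_left (p.R_le_F p.d_mem) p.e_mem, mul_neg], p.B_d, mul_one,
      hn'] at eB
    obtain ⟨j, hj⟩ := mem_zpowers_iff.1 (p.mem_omega_of_coord hm eA.symm (by linear_combination -eB))
    exact ⟨n, j, by rw [hj, zpow_natCast, mul_inv_cancel_left]⟩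
  · rintro ⟨i, j, rfl⟩
    exact mul_mem (zpow_mem (hall _ p.d_mem p.A_d) i) (zpow_mem hωL j)

/-- The Heisenberg configuration. -/
theorem nonempty_hei : Nonempty (Φ.Hei q) := by
  classical
  letI := Fintype.ofFinite G
  have hq := p.prime
  have hui := Cfsg.Lib.Invol.inv_eq_self Φ.hu
  have hconj : ∀ {K : Subgroup G}, Φ.C ≤ normalizer (K : Set G) → ∀ a ∈ K, Φ.u * a * Φ.u ∈ K := fun hn a ha => by
    have := (mem_normalizer_iff.1 (hn Φ.u_mem_C) a).1 ha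
    rwa [hui] at this
  -- the centralizer of `R`
  set Z := Φ.U ⊓ centralizer (p.R : Set G) with hZ
  have hZn : Φ.C ≤ normalizer (Z : Set G) := fun c hc =>
    Cfsg.Lib.Fusion.le_normalizer_of_conj_mem fun z hz =>
      ⟨(mem_normalizer_iff.1 (Φ.C_le_normalizer_U hc) z).1 hz.1, mem_centralizer_iff.2 fun r hr => by
        have hr' : c⁻¹ * r * c ∈ p.R := by simpa using p.conj_mem (inv_mem hc) hr
        have h := mem_centralizer_iff.1 hz.2 _ hr'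
        calc r * (c * z * c⁻¹) = c * ((c⁻¹ * r * c) * z) * c⁻¹ := by group
          _ = _ := by rw [h]; group⟩
  have hZc : ∀ z ∈ Z, ∀ r ∈ p.R, Commute z r := fun z hz r hr => (mem_centralizer_iff.1 hz.2 r hr).symm
  have hmemZ : ∀ z ∈ Φ.U, Commute z p.e → Commute z p.d → z ∈ Z := fun z hz he hd =>
    ⟨hz, mem_centralizer_iff.2 fun r hr => by
      obtain ⟨i, j, l, rfl⟩ := p.R_eq r hr
      exact (((he.pow_right i).mul_right (hd.pow_right j)).mul_right ((p.ω_central z hz).pow_right l)).eq.symm⟩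
  have hZinv : ∀ z ∈ Z, Φ.u * z * Φ.u = z⁻¹ := fun z hz => inverts_of_fixed_trivial Φ.uu (hconj hZn)
    (fun a ha hau => p.no_fixed a ⟨ha.1, mem_centralizer_singleton_iff.2 hau.symm.eq⟩ (hZc a ha _ p.e_mem)
      (hZc a ha _ p.d_mem)) hz
  have hZcentral : ∀ z ∈ Z, ∀ y ∈ Φ.U, Commute y z := fun z hz y hy =>
    hK.commute_of_inverted Φ hg hW hZn hZinv hy hz
  have hωZ : p.ω ∈ Z := ⟨p.ω_memU, mem_centralizer_iff.2 fun r hr => (p.ω_central r (p.R_le hr)).eq⟩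
  have hZF : Z ≤ p.F := fun z hz => ⟨hz.1, fun r hr => by
    rw [(hZc z hz r hr).eq, mul_inv_cancel_right, mul_inv_cancel]
    exact one_mem _⟩
  have hcoord : ∀ r ∈ p.R, r ∈ Z → p.A r = 0 ∧ p.B r = 0 := fun r hr hrZ => by
    refine ⟨?_, ?_⟩
    · show p.ell _ = 0
      rw [(hZc r hrZ _ p.d_mem).eq, mul_inv_cancel_right, mul_inv_cancel, p.ell_one]
    · show -p.ell _ = 0
      rw [(hZc r hrZ _ p.e_mem).eq, mul_inv_cancel_right, mul_inv_cancel, p.ell_one, neg_zero]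
  have hAB : ∀ i j : ℕ, p.A (p.e ^ i * p.d ^ j) = i ∧ p.B (p.e ^ i * p.d ^ j) = j := fun i j => by
    have he := p.R_le_F p.e_mem
    have hd := p.R_le_F p.d_mem
    refine ⟨?_, ?_⟩
    · rw [KFrame.Pre.A, p.P_mul_left (pow_mem he i) (pow_mem hd j) p.d_mem, p.P_pow_left he p.d_mem,
        p.P_pow_left hd p.d_mem, p.P_e_d, p.P_self]
      ring
    · rw [KFrame.Pre.B, p.P_mul_left (pow_mem he i) (pow_mem hd j) p.e_mem, p.P_pow_left he p.e_mem,
        p.P_pow_left hd p.e_mem, p.P_d_e, p.P_self]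
      ring
  have hFeq : ∀ y ∈ p.F, ∃ i j : ℕ, ∃ z ∈ Z, y = p.e ^ i * p.d ^ j * z := by
    intro y hy
    refine ⟨(p.P y p.d).val, (-p.P y p.e).val, (p.e ^ (p.P y p.d).val * p.d ^ (-p.P y p.e).val)⁻¹ * y, ?_,
      by rw [mul_inv_cancel_left]⟩
    set r := p.e ^ (p.P y p.d).val * p.d ^ (-p.P y p.e).val
    have hr : r ∈ p.R := mul_mem (pow_mem p.e_mem _) (pow_mem p.d_mem _)
    obtain ⟨hrA, hrB⟩ := hAB (p.P y p.d).val (-p.P y p.e).val
    rw [ZMod.natCast_zmod_val] at hrA hrB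
    have hm : r⁻¹ * y ∈ p.F := mul_mem (inv_mem (p.R_le_F hr)) hy
    have hcomm : ∀ x ∈ p.R, p.P r x = p.P y x → Commute (r⁻¹ * y) x := by
      intro x hx hrx
      refine mul_inv_eq_iff_eq_mul.1 (mul_inv_eq_one.1 (p.eq_one_of_ell (hm.2 x hx) ?_))
      show p.P (r⁻¹ * y) x = 0
      rw [p.P_mul_left (inv_mem (p.R_le_F hr)) hy hx, p.P_inv_left (p.R_le_F hr) hx, hrx, neg_add_cancel]
    exact hmemZ _ hm.1 (hcomm _ p.e_mem (neg_injective hrB)) (hcomm _ p.d_mem hrA)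
  -- the quotient
  haveI : (p.F.subgroupOf Φ.U).Normal :=
    (normal_subgroupOf_iff_le_normalizer p.F_le).2 (Φ.U_le_C.trans p.F_normal)
  have hker : p.rep.ker = p.F.subgroupOf Φ.U := by
    ext y
    rw [MonoidHom.mem_ker, p.rep_eq_one_iff, mem_subgroupOf]
  let τ : ↥Φ.U ⧸ p.F.subgroupOf Φ.U →* Matrix (Fin 2) (Fin 2) (ZMod q) :=
    QuotientGroup.lift _ p.rep hker.ge
  have hτ : ∀ y (hy : y ∈ Φ.U), τ (QuotientGroup.mk ⟨y, hy⟩) = p.mat y := fun y hy => rfl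
  have hτinj : Function.Injective τ := by
    rw [injective_iff_map_eq_one]
    intro x hx
    obtain ⟨y, rfl⟩ := QuotientGroup.mk_surjective x
    exact (QuotientGroup.eq_one_iff y).2 (mem_subgroupOf.2 (p.rep_eq_one_iff.1 hx))
  have hcore : ∀ M : Subgroup (↥Φ.U ⧸ p.F.subgroupOf Φ.U), M.Normal → IsPGroup q M → M = ⊥ := by
    intro M hMn hMp
    by_contra hne
    haveI := hMn
    have hM1 := Cfsg.Lib.Fusion.pCore_isPGroup (G := ↥Φ.U ⧸ p.F.subgroupOf Φ.U) q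
    set M1 := pCore q (↥Φ.U ⧸ p.F.subgroupOf Φ.U) with hM1def
    have hle : M ≤ M1 := le_sSup ⟨hMn, hMp⟩
    obtain ⟨x0, hx0, hx01⟩ := (bot_or_exists_ne_one M).resolve_left hne
    let σ : ↥Φ.U ≃* ↥Φ.U :=
      { toFun := fun y => ⟨Φ.u * y * Φ.u, Φ.u_conj_mem y.2⟩
        invFun := fun y => ⟨Φ.u * y * Φ.u, Φ.u_conj_mem y.2⟩
        left_inv := fun y => Subtype.ext (by
          show Φ.u * (Φ.u * (y : G) * Φ.u) * Φ.u = y
          rw [show Φ.u * (Φ.u * (y : G) * Φ.u) * Φ.u = (Φ.u * Φ.u) * y * (Φ.u * Φ.u) by group, Φ.uu,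
            one_mul, mul_one])
        right_inv := fun y => Subtype.ext (by
          show Φ.u * (Φ.u * (y : G) * Φ.u) * Φ.u = y
          rw [show Φ.u * (Φ.u * (y : G) * Φ.u) * Φ.u = (Φ.u * Φ.u) * y * (Φ.u * Φ.u) by group, Φ.uu,
            one_mul, mul_one])
        map_mul' := fun a b => Subtype.ext (by
          show Φ.u * ((a : G) * b) * Φ.u = Φ.u * a * Φ.u * (Φ.u * b * Φ.u)
          rw [show Φ.u * (a : G) * Φ.u * (Φ.u * b * Φ.u) = Φ.u * a * (Φ.u * Φ.u) * b * Φ.u by group, Φ.uu]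
          group) }
    have hFu : ∀ a ∈ p.F, Φ.u * a * Φ.u ∈ p.F := hconj p.F_normal
    have hσF : (p.F.subgroupOf Φ.U).map σ.toMonoidHom = p.F.subgroupOf Φ.U := by
      ext y
      rw [mem_map_equiv, mem_subgroupOf, mem_subgroupOf]
      show Φ.u * (y : G) * Φ.u ∈ p.F ↔ _
      refine ⟨fun h => ?_, hFu _⟩
      have := hFu _ h
      rwa [show Φ.u * (Φ.u * (y : G) * Φ.u) * Φ.u = (Φ.u * Φ.u) * y * (Φ.u * Φ.u) by group, Φ.uu,
        one_mul, mul_one] at this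
    let σQ := QuotientGroup.congr _ _ σ hσF
    haveI : M1.Normal := by
      rw [hM1def]
      infer_instance
    have hσM : ∀ x ∈ M1, σQ x ∈ M1 := fun x hx => by
      have h : M1.map σQ.toMonoidHom ≤ M1 := by
        refine le_sSup ⟨‹M1.Normal›.map σQ.toMonoidHom σQ.surjective, ?_⟩
        exact hM1.map _
      exact h (mem_map_of_mem _ hx)
    -- the fixed subgroup
    let L : Subgroup G :=
      { carrier := {r | r ∈ p.R ∧ ∀ y (hy : y ∈ Φ.U),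
          (QuotientGroup.mk ⟨y, hy⟩ : ↥Φ.U ⧸ p.F.subgroupOf Φ.U) ∈ M1 → y * r * y⁻¹ * r⁻¹ ∈ zpowers p.ω}
        one_mem' := ⟨one_mem _, fun y _ _ => by simp⟩
        mul_mem' := fun {a b} ha hb => ⟨mul_mem ha.1 hb.1, fun y hy hm => by
          rw [show y * (a * b) * y⁻¹ * (a * b)⁻¹ =
            (y * a * y⁻¹ * a⁻¹) * (a * (y * b * y⁻¹ * b⁻¹) * a⁻¹) by group,
            p.central (hb.2 y hy hm) (p.R_le ha.1)]
          exact mul_mem (ha.2 y hy hm) (hb.2 y hy hm)⟩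
        inv_mem' := fun {a} ha => ⟨inv_mem ha.1, fun y hy hm => by
          rw [show y * a⁻¹ * y⁻¹ * a⁻¹⁻¹ = a⁻¹ * (y * a * y⁻¹ * a⁻¹)⁻¹ * a⁻¹⁻¹ by group,
            p.central (inv_mem (ha.2 y hy hm)) (inv_mem (p.R_le ha.1))]
          exact inv_mem (ha.2 y hy hm)⟩ }
    refine hK.no_invariant Φ hg hW p (L := L) ⟨p.ω_mem, fun y hy _ => ?_⟩ (fun r hr => hr.1) ?_ ?_ ?_
    · rw [p.central (mem_zpowers _) hy, mul_inv_cancel]
      exact one_mem _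
    · intro c hc
      refine Cfsg.Lib.Fusion.le_normalizer_of_conj_mem fun r hr => ⟨p.conj_mem hc hr.1, fun y hy hm => ?_⟩
      have hci := inv_mem hc
      have hy' : c⁻¹ * y * c ∈ Φ.U := by
        simpa using (mem_normalizer_iff.1 (Φ.C_le_normalizer_U hci) y).1 hy
      have hm' : (QuotientGroup.mk ⟨c⁻¹ * y * c, hy'⟩ : ↥Φ.U ⧸ p.F.subgroupOf Φ.U) ∈ M1 := by
        obtain ⟨v, hv, x, hx, rfl⟩ := hK.exists_mul_of_mem_C Φ hc
        have hy2 : v⁻¹ * y * v ∈ Φ.U := by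
          simpa using (mem_normalizer_iff.1 (Φ.C_le_normalizer_U (inv_mem (Φ.V_le_C hv))) y).1 hy
        have hm2 : (QuotientGroup.mk ⟨v⁻¹ * y * v, hy2⟩ : ↥Φ.U ⧸ p.F.subgroupOf Φ.U) ∈ M1 := by
          have htz := fix_of_commute Φ.tt (Φ.commute_t hy)
          have memM : ∀ (a b : G) (ha : a ∈ Φ.U) (hb : b ∈ Φ.U), a = b →
              (QuotientGroup.mk ⟨a, ha⟩ : ↥Φ.U ⧸ p.F.subgroupOf Φ.U) ∈ M1 →
              (QuotientGroup.mk ⟨b, hb⟩ : ↥Φ.U ⧸ p.F.subgroupOf Φ.U) ∈ M1 := by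
            rintro a b ha hb rfl h; exact h
          have hmu : (QuotientGroup.mk ⟨Φ.u * y * Φ.u, Φ.u_conj_mem hy⟩ : ↥Φ.U ⧸ p.F.subgroupOf Φ.U) ∈ M1 :=
            hσM _ hm
          haveI := Φ.klein
          rcases eq_or_ne v 1 with rfl | hv1
          · exact memM _ _ _ _ (by group) hm
          rcases Φ.V_cases hv hv1 with rfl | rfl | rfl
          · exact memM _ _ _ _ (by rw [Cfsg.Lib.Invol.inv_eq_self Φ.ht, htz]) hm
          · exact memM _ _ _ _ (by rw [hui]) hmu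
          · refine memM _ _ _ _ ?_ hmu
            rw [_root_.mul_inv_rev, hui, Cfsg.Lib.Invol.inv_eq_self Φ.ht,
              show Φ.u * Φ.t * y * (Φ.t * Φ.u) = Φ.u * (Φ.t * y * Φ.t) * Φ.u by group, htz]
        have h := ‹M1.Normal›.conj_mem _ hm2 (QuotientGroup.mk ⟨x, hx⟩)⁻¹
        rw [inv_inv, ← QuotientGroup.mk_inv, ← QuotientGroup.mk_mul, ← QuotientGroup.mk_mul] at h
        refine Eq.mp (congrArg (· ∈ M1) (congrArg QuotientGroup.mk (Subtype.ext ?_))) h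
        show x⁻¹ * (v⁻¹ * y * v) * x = (v * x)⁻¹ * y * (v * x)
        group
      obtain ⟨a, ha⟩ := p.exists_pow (hr.2 _ hy' hm')
      rw [show y * (c * r * c⁻¹) * y⁻¹ * (c * r * c⁻¹)⁻¹ =
        c * ((c⁻¹ * y * c) * r * (c⁻¹ * y * c)⁻¹ * r⁻¹) * c⁻¹ by group, ha, ← conj_pow, ← p.comm,
        show c * (p.e * p.d * p.e⁻¹ * p.d⁻¹) * c⁻¹ =
          (c * p.e * c⁻¹) * (c * p.d * c⁻¹) * (c * p.e * c⁻¹)⁻¹ * (c * p.d * c⁻¹)⁻¹ by group, p.comm]
      exact pow_mem (p.R_comm _ (p.conj_mem hc p.e_mem) _ (p.conj_mem hc p.d_mem)) a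
    · intro hLR
      obtain ⟨⟨y, hy⟩, rfl⟩ := QuotientGroup.mk_surjective x0
      exact hx01 ((QuotientGroup.eq_one_iff _).2 (mem_subgroupOf.2
        ⟨hy, fun r hr => (hLR.ge hr).2 y hy (hle hx0)⟩))
    · intro hLω
      letI : MulAction ↥M1 (Fin 2 → ZMod q) :=
        { smul := fun m v => (τ m).mulVec v
          one_smul := fun v => by
            show (τ ((1 : ↥M1) : ↥Φ.U ⧸ p.F.subgroupOf Φ.U)).mulVec v = v
            rw [OneMemClass.coe_one, map_one, Matrix.one_mulVec]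
          mul_smul := fun a b v => by
            show (τ ((a * b : ↥M1) : ↥Φ.U ⧸ p.F.subgroupOf Φ.U)).mulVec v = (τ a).mulVec ((τ b).mulVec v)
            rw [MulMemClass.coe_mul, map_mul, Matrix.mulVec_mulVec] }
      have hdvd : q ∣ Nat.card (Fin 2 → ZMod q) := by
        simp [Nat.card_eq_fintype_card]
      obtain ⟨v, hv, hv0⟩ := hM1.exists_fixed_point_of_prime_dvd_card_of_fixed_point (Fin 2 → ZMod q) hdvd
        (a := 0) (fun m => Matrix.mulVec_zero _)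
      refine hv0 ?_
      set r := p.e ^ (v 0).val * p.d ^ (v 1).val
      have hr : r ∈ p.R := mul_mem (pow_mem p.e_mem _) (pow_mem p.d_mem _)
      obtain ⟨hrA, hrB⟩ := hAB (v 0).val (v 1).val
      rw [ZMod.natCast_zmod_val] at hrA hrB
      change p.A r = v 0 at hrA
      change p.B r = v 1 at hrB
      have hrL : r ∈ L := ⟨hr, fun y hy hm => (p.A_conj_eq_iff hy hr).2 (by
        obtain ⟨h1, h2⟩ := p.conj_coord hy hr
        have hfx : (p.mat y).mulVec v = v := hv ⟨_, hm⟩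
        have f0 := congrFun hfx 0
        have f1 := congrFun hfx 1
        simp [Matrix.mulVec, dotProduct, Fin.sum_univ_two] at f0 f1
        rw [h1, h2, hrA, hrB]
        exact ⟨by linear_combination f0, by linear_combination f1⟩)⟩
      obtain ⟨l, hl⟩ := p.exists_pow (hLω hrL)
      have h1 := hrA.symm
      have h2 := hrB.symm
      rw [hl, KFrame.Pre.A, p.P_pow_left (p.R_le_F p.ω_mem) p.d_mem,
        p.P_ω_left p.d_mem, mul_zero] at h1
      rw [hl, KFrame.Pre.B, p.P_pow_left (p.R_le_F p.ω_mem) p.e_mem,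
        p.P_ω_left p.e_mem, mul_zero, neg_zero] at h2
      funext i
      fin_cases i
      · exact h1.symm
      · exact h2.symm
  let D : Plane.Data q (↥Φ.U ⧸ p.F.subgroupOf Φ.U) :=
    { τ := τ
      det_eq := fun x => by
        obtain ⟨y, rfl⟩ := QuotientGroup.mk_surjective x
        exact p.mat_det y.2
      inj := hτinj
      odd := Φ.odd_card_U.of_dvd_nat (card_quotient_dvd_card _)
      core := hcore
      ne_two := p.ne_two }
  have hcard : Nat.card (↥Φ.U ⧸ p.F.subgroupOf Φ.U) = p.F.relIndex Φ.U := rfl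
  have hquotcomm : ∀ x ∈ Φ.U, ∀ y ∈ Φ.U, x * y * x⁻¹ * y⁻¹ ∈ p.F := fun x hx y hy => by
    refine mem_subgroupOf.1 ((QuotientGroup.eq_one_iff (N := p.F.subgroupOf Φ.U)
      ((⟨x, hx⟩ : ↥Φ.U) * ⟨y, hy⟩ * (⟨x, hx⟩ : ↥Φ.U)⁻¹ * (⟨y, hy⟩ : ↥Φ.U)⁻¹)).1 ?_)
    rw [QuotientGroup.mk_mul, QuotientGroup.mk_mul, QuotientGroup.mk_mul, QuotientGroup.mk_inv,
      QuotientGroup.mk_inv, (D.commutative (QuotientGroup.mk ⟨x, hx⟩) (QuotientGroup.mk ⟨y, hy⟩)).eq,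
      mul_inv_cancel_right, mul_inv_cancel]
  have hquotinv : ∀ y ∈ Φ.U, Φ.u * y * Φ.u * y ∈ p.F := by
    let H : Subgroup G :=
      { carrier := {y | y ∈ Φ.U ∧ Φ.u * y * Φ.u * y ∈ p.F}
        one_mem' := ⟨one_mem _, by simp [Φ.uu]⟩
        mul_mem' := fun {a b} ha hb => ⟨mul_mem ha.1 hb.1, by
          have hb' := Φ.u_conj_mem hb.1
          have e : Φ.u * (a * b) * Φ.u * (a * b) = (Φ.u * a * Φ.u) * ((Φ.u * b * Φ.u) * a * (Φ.u * b * Φ.u)⁻¹ * a⁻¹)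
              * (Φ.u * a * Φ.u)⁻¹ * (Φ.u * a * Φ.u * a) * (Φ.u * b * Φ.u * b) := by
            rw [show Φ.u * (a * b) * Φ.u = (Φ.u * a * Φ.u) * (Φ.u * b * Φ.u) by
              rw [show Φ.u * a * Φ.u * (Φ.u * b * Φ.u) = Φ.u * a * (Φ.u * Φ.u) * b * Φ.u by group, Φ.uu]
              group]
            generalize Φ.u * a * Φ.u = A
            generalize Φ.u * b * Φ.u = B
            group
          rw [e]
          refine mul_mem (mul_mem ((mem_normalizer_iff.1 (p.F_normal (Φ.U_le_C (Φ.u_conj_mem ha.1))) _).1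
            (hquotcomm _ hb' _ ha.1)) ha.2) hb.2⟩
        inv_mem' := fun {a} ha => ⟨inv_mem ha.1, by
          have e : Φ.u * a⁻¹ * Φ.u * a⁻¹ = (Φ.u * a * Φ.u)⁻¹ * (Φ.u * a * Φ.u * a)⁻¹ * (Φ.u * a * Φ.u)⁻¹⁻¹ := by
            rw [show Φ.u * a⁻¹ * Φ.u = (Φ.u * a * Φ.u)⁻¹ by
              rw [_root_.mul_inv_rev, _root_.mul_inv_rev, hui, mul_assoc]]
            generalize Φ.u * a * Φ.u = A
            group
          rw [e]
          exact (mem_normalizer_iff.1 (p.F_normal (inv_mem (Φ.U_le_C (Φ.u_conj_mem ha.1)))) _).1 (inv_mem ha.2)⟩ }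
    exact fun y hy => ((hK.U_le_of_inverted Φ hg hW (H := H) fun x hx hxu => ⟨hx, by
      rw [hxu, inv_mul_cancel]; exact one_mem _⟩) hy).2
  have hWF : Φ.W ≤ p.F := fun w hw => by
    refine mem_of_sq_mem (Φ.odd_of_mem (Φ.W_le_U hw)) ?_
    have := hquotinv w (Φ.W_le_U hw)
    rwa [fix_of_commute Φ.uu (Φ.commute_u hw)] at this
  have hWeq : Φ.W = zpowers p.d := by
    refine le_antisymm (fun w hw => ?_) (zpowers_le.2 p.d_mem_W)
    obtain ⟨i, j, z, hz, rfl⟩ := hFeq w (hWF hw)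
    have hzU := hz.1
    have hdj : p.d ^ j ∈ Φ.W := pow_mem p.d_mem_W j
    have e : p.e ^ i * p.d ^ j * z = (p.e ^ i * z) * p.d ^ j := by
      rw [mul_assoc, (hZcentral z hz _ (Φ.W_le_U hdj)).eq, ← mul_assoc]
    rw [e] at hw ⊢
    have hez : p.e ^ i * z ∈ Φ.W := (mul_mem_cancel_right hdj).1 hw
    have h1 : p.e ^ i * z = 1 := by
      refine eq_one_of_fixed_inverted Φ.uu (Φ.commute_u hez) ?_ (Φ.odd_of_mem (Φ.W_le_U hez))
      rw [show Φ.u * (p.e ^ i * z) * Φ.u = (Φ.u * p.e ^ i * Φ.u) * (Φ.u * z * Φ.u) by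
        rw [show Φ.u * p.e ^ i * Φ.u * (Φ.u * z * Φ.u) = Φ.u * p.e ^ i * (Φ.u * Φ.u) * z * Φ.u by group, Φ.uu]
        group, hZinv z hz, show Φ.u * p.e ^ i * Φ.u = (Φ.u * p.e * Φ.u⁻¹) ^ i by rw [conj_pow, hui], hui,
        p.e_inv, inv_pow, (hZcentral z hz _ (pow_mem (p.R_le p.e_mem) i)).inv_left.inv_right.eq]
      group
    rw [h1, one_mul]
    exact pow_mem (mem_zpowers _) j
  have hgt : 1 < p.F.relIndex Φ.U := by
    by_contra h
    have hUF : Φ.U ≤ p.F := by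
      have h0 : p.F.relIndex Φ.U ≠ 0 := hcard ▸ Nat.card_pos.ne'
      exact relIndex_eq_one.1 (by omega)
    let L : Subgroup G :=
      { carrier := {r | r ∈ p.R ∧ p.A r = 0}
        one_mem' := ⟨one_mem _, p.P_one_left _⟩
        mul_mem' := fun {a b} ha hb => ⟨mul_mem ha.1 hb.1, by rw [p.A_mul ha.1 hb.1, ha.2, hb.2, add_zero]⟩
        inv_mem' := fun {a} ha => ⟨inv_mem ha.1, by
          rw [KFrame.Pre.A, p.P_inv_left (p.R_le_F ha.1) p.d_mem]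
          exact neg_eq_zero.2 ha.2⟩ }
    refine hK.no_invariant Φ hg hW p (L := L) ⟨p.ω_mem, p.A_ω⟩ (fun r hr => hr.1) ?_ ?_ ?_
    · intro c hc
      refine Cfsg.Lib.Fusion.le_normalizer_of_conj_mem fun r hr => ⟨p.conj_mem hc hr.1, ?_⟩
      obtain ⟨v, hv, x, hx, rfl⟩ := hK.exists_mul_of_mem_C Φ hc
      have hxr := p.conj_mem (Φ.U_le_C hx) hr.1
      have hxA : p.A (x * r * x⁻¹) = 0 := by
        rw [((p.A_conj_eq_iff hx hr.1).1 ((hUF hx).2 r hr.1)).1, hr.2]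
      rw [show v * x * r * (v * x)⁻¹ = v * (x * r * x⁻¹) * v⁻¹ by group]
      rcases eq_or_ne v 1 with rfl | hv1
      · simpa using hxA
      haveI := Φ.klein
      have htz := fix_of_commute Φ.tt (Φ.commute_t (p.R_le hxr))
      have hux := (p.u_coord hxr).1
      rw [hxA, neg_zero] at hux
      rcases Φ.V_cases hv hv1 with rfl | rfl | rfl
      · rw [Cfsg.Lib.Invol.inv_eq_self Φ.ht, htz, hxA]
      · rw [hui, hux]
      · have hxu := Φ.u_conj_mem (p.R_le hxr)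
        rw [_root_.mul_inv_rev, hui, Cfsg.Lib.Invol.inv_eq_self Φ.ht,
          show Φ.t * Φ.u * (x * r * x⁻¹) * (Φ.u * Φ.t) = Φ.t * (Φ.u * (x * r * x⁻¹) * Φ.u) * Φ.t by group,
          fix_of_commute Φ.tt (Φ.commute_t hxu), hux]
    · intro hLR
      have h1 := (hLR.ge p.e_mem).2
      rw [p.A_e] at h1
      exact one_ne_zero h1
    · intro hLω
      obtain ⟨l, hl⟩ := p.exists_pow (hLω (show p.d ∈ L from ⟨p.d_mem, p.A_d⟩))
      have h1 := p.B_d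
      rw [hl, KFrame.Pre.B, p.P_pow_left (p.R_le_F p.ω_mem) p.e_mem, p.P_ω_left p.e_mem, mul_zero,
        neg_zero] at h1
      exact zero_ne_one h1
  have hline : ∀ y ∈ Φ.U, (∃ i : ℕ, ∃ z ∈ Z, y * p.e * y⁻¹ = p.e ^ i * z) → y ∈ p.F := by
    rintro y hy ⟨i, z, hz, hyz⟩
    by_contra hyF
    have hzR : z ∈ p.R := by
      rw [show z = (p.e ^ i)⁻¹ * (y * p.e * y⁻¹) by rw [hyz, inv_mul_cancel_left]]
      exact mul_mem (inv_mem (pow_mem p.e_mem i)) (p.conj_mem (Φ.U_le_C hy) p.e_mem)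
    have h0 : τ (QuotientGroup.mk ⟨y, hy⟩) 1 0 = 0 := by
      show p.B (y * p.e * y⁻¹) = 0
      rw [hyz, p.B_mul (pow_mem p.e_mem i) hzR, (hcoord z hzR hz).2, add_zero]
      simpa using (hAB i 0).2
    have hne : (QuotientGroup.mk ⟨y, hy⟩ : ↥Φ.U ⧸ p.F.subgroupOf Φ.U) ≠ 1 := fun h =>
      hyF (mem_subgroupOf.1 ((QuotientGroup.eq_one_iff _).1 h))
    have hall : ∀ x ∈ Φ.U, p.mat x 1 0 = 0 := fun x hx => D.lower_zero hne h0 (QuotientGroup.mk ⟨x, hx⟩)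
    let L : Subgroup G :=
      { carrier := {r | r ∈ p.R ∧ p.B r = 0}
        one_mem' := ⟨one_mem _, by rw [KFrame.Pre.B, p.P_one_left, neg_zero]⟩
        mul_mem' := fun {a b} ha hb => ⟨mul_mem ha.1 hb.1, by rw [p.B_mul ha.1 hb.1, ha.2, hb.2, add_zero]⟩
        inv_mem' := fun {a} ha => ⟨inv_mem ha.1, by
          rw [KFrame.Pre.B, p.P_inv_left (p.R_le_F ha.1) p.e_mem, neg_neg]
          exact neg_eq_zero.1 ha.2⟩ }
    refine hK.no_invariant Φ hg hW p (L := L) ⟨p.ω_mem, p.B_ω⟩ (fun r hr => hr.1) ?_ ?_ ?_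
    · intro c hc
      refine Cfsg.Lib.Fusion.le_normalizer_of_conj_mem fun r hr => ⟨p.conj_mem hc hr.1, ?_⟩
      obtain ⟨v, hv, x, hx, rfl⟩ := hK.exists_mul_of_mem_C Φ hc
      have hxr := p.conj_mem (Φ.U_le_C hx) hr.1
      have hxB : p.B (x * r * x⁻¹) = 0 := by
        rw [(p.conj_coord hx hr.1).2, hr.2, hall x hx]
        ring
      rw [show v * x * r * (v * x)⁻¹ = v * (x * r * x⁻¹) * v⁻¹ by group]
      rcases eq_or_ne v 1 with rfl | hv1
      · simpa using hxB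
      haveI := Φ.klein
      have htz := fix_of_commute Φ.tt (Φ.commute_t (p.R_le hxr))
      have hux := (p.u_coord hxr).2
      rw [hxB] at hux
      rcases Φ.V_cases hv hv1 with rfl | rfl | rfl
      · rw [Cfsg.Lib.Invol.inv_eq_self Φ.ht, htz, hxB]
      · rw [hui, hux]
      · have hxu := Φ.u_conj_mem (p.R_le hxr)
        rw [_root_.mul_inv_rev, hui, Cfsg.Lib.Invol.inv_eq_self Φ.ht,
          show Φ.t * Φ.u * (x * r * x⁻¹) * (Φ.u * Φ.t) = Φ.t * (Φ.u * (x * r * x⁻¹) * Φ.u) * Φ.t by group,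
          fix_of_commute Φ.tt (Φ.commute_t hxu), hux]
    · intro hLR
      have h1 := (hLR.ge p.d_mem).2
      rw [p.B_d] at h1
      exact one_ne_zero h1
    · intro hLω
      obtain ⟨l, hl⟩ := p.exists_pow (hLω (show p.e ∈ L from ⟨p.e_mem, p.B_e⟩))
      have h1 := p.A_e
      rw [hl, KFrame.Pre.A, p.P_pow_left (p.R_le_F p.ω_mem) p.d_mem, p.P_ω_left p.d_mem, mul_zero] at h1
      exact zero_ne_one h1
  have hfpf : ∀ y ∈ Φ.U, y ∉ p.F → ∀ r ∈ p.F, y * r * y⁻¹ * r⁻¹ ∈ Z → r ∈ Z := by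
    intro y hy hyF r hr hyr
    obtain ⟨i, j, z, hz, rfl⟩ := hFeq r hr
    set s := p.e ^ i * p.d ^ j
    have hs : s ∈ p.R := mul_mem (pow_mem p.e_mem i) (pow_mem p.d_mem j)
    rw [show y * (s * z) * y⁻¹ * (s * z)⁻¹ = y * s * (z * y⁻¹ * z⁻¹) * s⁻¹ by group,
      (hZcentral z hz _ (inv_mem hy)).symm.eq, mul_inv_cancel_right] at hyr
    have hsR : y * s * y⁻¹ * s⁻¹ ∈ p.R := mul_mem (p.conj_mem (Φ.U_le_C hy) hs) (inv_mem hs)
    obtain ⟨hcA, hcB⟩ := hcoord _ hsR hyr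
    obtain ⟨e1, e2⟩ := (p.A_conj_eq_iff hy hs).1 (p.mem_omega_of_coord hsR hcA hcB)
    obtain ⟨f1, f2⟩ := p.conj_coord hy hs
    rw [e1, (hAB i j).1, (hAB i j).2] at f1
    rw [e2, (hAB i j).1, (hAB i j).2] at f2
    have hv : (τ (QuotientGroup.mk ⟨y, hy⟩)).mulVec ![(i : ZMod q), (j : ZMod q)] = ![(i : ZMod q), (j : ZMod q)] := by
      rw [hτ]
      funext k
      fin_cases k <;> simp [Matrix.mulVec, dotProduct, Fin.sum_univ_two]
      · linear_combination -f1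
      · linear_combination -f2
    have hv0 := D.fpf (fun h => hyF (mem_subgroupOf.1 ((QuotientGroup.eq_one_iff _).1 h))) hv
    have hi : (i : ZMod q) = 0 := congrFun hv0 0
    have hj : (j : ZMod q) = 0 := congrFun hv0 1
    rw [ZMod.natCast_eq_zero_iff] at hi hj
    rw [← p.he] at hi
    rw [← p.hd] at hj
    show s * z ∈ Z
    rw [show s = 1 from by
      simp only [s, orderOf_dvd_iff_pow_eq_one.1 hi, orderOf_dvd_iff_pow_eq_one.1 hj, mul_one], one_mul]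
    exact hz
  exact ⟨{
    F := p.F
    Z := Z
    e := p.e
    d := p.d
    ω := p.ω
    prime := hq
    ne_two := p.ne_two
    he := p.he
    hd := p.hd
    hω := p.hω
    e_inv := p.e_inv
    comm := p.comm
    W_eq := hWeq
    F_le := p.F_le
    Z_le := hZF
    e_mem := p.R_le_F p.e_mem
    d_mem := p.R_le_F p.d_mem
    ω_mem := hωZ
    Z_inv := hZinv
    Z_central := hZcentral
    Z_omega := fun z hz hzq => p.inv_omega z hz.1 (hZinv z hz) hzq (hZc z hz _ p.d_mem)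
    F_eq := hFeq
    coord := fun i j h => by
      obtain ⟨h1, h2⟩ := hcoord _ (mul_mem (pow_mem p.e_mem i) (pow_mem p.d_mem j)) h
      rw [(hAB i j).1, ZMod.natCast_eq_zero_iff] at h1
      rw [(hAB i j).2, ZMod.natCast_eq_zero_iff] at h2
      exact ⟨h1, h2⟩
    F_normal := p.F_normal
    quot_comm := hquotcomm
    quot_inv := hquotinv
    fpf := hfpf
    line_e := hline
    index_gt := hgt
    index_dvd := hcard ▸ D.card_dvd }⟩

end KMin

end Cfsg.Lib.GW
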